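import Cfsg.Agent.H12.Glauberman
import Cfsg.Agent.H12.Linear
import Cfsg.Agent.H13.Clifford
import Cfsg.Agent.H1.SchurZassenhausConj

/-!
Invariant constituents of restricted and induced characters under coprime operators.
-/

set_option autoImplicit false
set_option linter.unusedSectionVars false

open Cfsg MulAction
open scoped ComplexConjugate

namespace H12.InvConst

open H12.Glauberman

universe u v w

/-! ### Two fixed point lemmas -/

/-- Glauberman's lemma for an abelian operand. -/
theorem exists_fixed_of_comm_transitive {A : Type u} {Q : Type v} [CommGroup A] [Finite A] [Group Q]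
    [Finite Q] (hcop : (Nat.card A).Coprime (Nat.card Q)) {Ω : Type w} [MulAction A Ω] (ω : Ω)
    (htr : ∀ x y : Ω, ∃ a : A, a • x = y) (f : Q →* Equiv.Perm Ω) (σ : Q →* MulAut A)
    (hcompat : ∀ q a x, f q (a • x) = σ q a • f q x) : ∃ x : Ω, ∀ q, f q x = x := by
  classical
  have : Fintype Q := Fintype.ofFinite Q
  choose c hc using fun q => htr ω (f q ω)
  have key : ∀ q r, (c q * σ q (c r)) • ω = c (q * r) • ω := by
    intro q r
    rw [hc, map_mul, Equiv.Perm.mul_apply, ← hc r, hcompat, ← hc q, ← mul_smul, mul_comm]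
  set b : A := ∏ r, c r with hb
  have h1 : ∀ q, (c q ^ Fintype.card Q * σ q b) • ω = b • ω := by
    intro q
    have hst : ∀ (a a' : A), a • ω = a' • ω → ∀ (z : A), (z * a) • ω = (z * a') • ω :=
      fun a a' h z => by rw [mul_smul, mul_smul, h]
    have hgen : ∀ s : Finset Q,
        (∏ r ∈ s, (c q * σ q (c r))) • ω = (∏ r ∈ s, c (q * r)) • ω := by
      intro s
      induction s using Finset.induction with
      | empty => simp
      | insert r s hr ih =>
        rw [Finset.prod_insert hr, Finset.prod_insert hr, hst _ _ ih,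
          mul_comm (c q * σ q (c r)), hst _ _ (key q r), mul_comm]
    have h2 := hgen Finset.univ
    rw [Finset.prod_mul_distrib, Finset.prod_const, Finset.card_univ, ← map_prod,
      Fintype.prod_equiv (Equiv.mulLeft q) (fun r => c (q * r)) c (fun r => rfl)] at h2
    exact h2
  rw [Nat.card_eq_fintype_card (α := Q)] at hcop
  let n := Fintype.card Q
  let root : A ≃ A := powCoprime hcop
  refine ⟨root.symm b • ω, fun q => ?_⟩
  have hroot : (root.symm b) ^ n = b := root.apply_symm_apply b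
  rw [hcompat, ← hc q, ← mul_smul]
  -- both sides have the same power, and the stabilizer is a subgroup
  set a := σ q (root.symm b) * c q with ha
  have hpow : a ^ n • ω = root.symm b ^ n • ω := by
    rw [ha, mul_pow, ← map_pow, hroot, mul_comm]
    exact h1 q
  have hmem : ((root.symm b)⁻¹ * a) ^ n ∈ stabilizer A ω := by
    rw [mem_stabilizer_iff, mul_pow, mul_smul, hpow, ← mul_smul, inv_pow, inv_mul_cancel, one_smul]
  have hcop' : (Nat.card (stabilizer A ω)).Coprime n :=
    hcop.coprime_dvd_left (Subgroup.card_subgroup_dvd_card _)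
  obtain ⟨z, hz⟩ := (powCoprime hcop').surjective ⟨_, hmem⟩
  have hz' : (z : A) ^ n = ((root.symm b)⁻¹ * a) ^ n := congrArg Subtype.val hz
  have : (z : A) = (root.symm b)⁻¹ * a := (powCoprime hcop).injective hz'
  have h3 : (z : A) • ω = ω := z.2
  rw [this, mul_smul] at h3
  have h4 := congrArg (root.symm b • ·) h3
  simpa using h4

/-- Glauberman's lemma. -/
theorem exists_fixed_of_transitive {L : Type u} [Group L] [Finite L] (A S N : Subgroup L)
    [A.Normal] [N.Normal] (hNA : N ≤ A) (hsup : A ⊔ S = ⊤)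
    (hcop : (N.relIndex A).Coprime (Nat.card S))
    (hsolv : Group.IsSolvable (A.map (QuotientGroup.mk' N)) ∨ Group.IsSolvable S)
    {Ω : Type w} (ω : Ω) (f : L →* Equiv.Perm Ω) (hN : ∀ n ∈ N, f n = 1)
    (htr : ∀ x y : Ω, ∃ a ∈ A, f a x = y) : ∃ x : Ω, ∀ s ∈ S, f s x = x := by
  classical
  let π : L →* L ⧸ N := QuotientGroup.mk' N
  let g : L ⧸ N →* Equiv.Perm Ω := QuotientGroup.lift N f fun n hn => hN n hn
  let A' := A.map π
  let S' := S.map π
  haveI : A'.Normal := Subgroup.Normal.map ‹A.Normal› π (QuotientGroup.mk'_surjective N)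
  have hA'card : Nat.card A' = N.relIndex A := by
    have h1 : Nat.card (L ⧸ N) = N.index := rfl
    have h2 : A'.index = A.index := by
      rw [Subgroup.index_map_eq _ (QuotientGroup.mk'_surjective N) (by simpa using hNA)]
    have h3 := Subgroup.card_mul_index A'
    have h4 := Subgroup.relIndex_mul_index hNA
    rw [h1, h2, ← h4] at h3
    exact Nat.eq_of_mul_eq_mul_right (Nat.pos_of_ne_zero A.index_ne_zero_of_finite) h3
  have hcop' : (Nat.card A').Coprime (Nat.card S') := by
    rw [hA'card]; exact hcop.coprime_dvd_right (Subgroup.card_map_dvd _ _)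
  have hsup' : A' ⊔ S' = ⊤ := by
    rw [← Subgroup.map_sup, hsup, Subgroup.map_top_of_surjective π (QuotientGroup.mk'_surjective N)]
  have hnorm : S' ≤ Subgroup.normalizer (A' : Set (L ⧸ N)) := by
    rw [Subgroup.normalizer_eq_top]; exact le_top
  have hindex : A'.index = Nat.card S' := by
    have h1 := H1.card_sup_of_coprime hnorm hcop'
    rw [hsup', Subgroup.card_top, ← Subgroup.card_mul_index A'] at h1
    exact Nat.eq_of_mul_eq_mul_left Nat.card_pos h1
  let X : Subgroup (L ⧸ N) :=
    { carrier := {q | g q ω = ω}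
      one_mem' := by simp
      mul_mem' := fun {a b} ha hb => by
        show g (a * b) ω = ω
        rw [map_mul, Equiv.Perm.mul_apply, hb, ha]
      inv_mem' := fun {a} ha => by
        show g a⁻¹ ω = ω
        rw [map_inv, Equiv.Perm.inv_def, Equiv.symm_apply_eq]
        exact ha.symm }
  have hXA : X ⊔ A' = ⊤ := by
    refine (Subgroup.eq_top_iff' _).2 fun q => ?_
    obtain ⟨l, rfl⟩ := QuotientGroup.mk_surjective q
    obtain ⟨a, ha, hal⟩ := htr ω (f l ω)
    have h1 : π (a⁻¹ * l) ∈ X := by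
      show g (π (a⁻¹ * l)) ω = ω
      show f (a⁻¹ * l) ω = ω
      rw [map_mul, map_inv, Equiv.Perm.mul_apply, Equiv.Perm.inv_def, Equiv.symm_apply_eq, hal]
    have h2 : (l : L ⧸ N) = π a * π (a⁻¹ * l) := by
      rw [← map_mul, mul_inv_cancel_left]; rfl
    rw [h2]
    exact mul_mem (Subgroup.mem_sup_right (Subgroup.mem_map_of_mem _ ha)) (Subgroup.mem_sup_left h1)
  let Y : Subgroup X := A'.subgroupOf X
  have hYindex : Y.index = A'.index := by
    have : A'.relIndex (X ⊔ A') = A'.relIndex X := Subgroup.relIndex_sup_right ..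
    rw [hXA, Subgroup.relIndex_top_right] at this
    exact this.symm
  have hYcard : Nat.card Y ∣ Nat.card A' := by
    rw [← (Subgroup.card_map_of_injective X.subtype_injective : Nat.card (Y.map X.subtype) = Nat.card Y)]
    exact Subgroup.card_dvd_of_le (by rintro _ ⟨y, hy, rfl⟩; exact hy)
  haveI : Y.Normal := Subgroup.normal_subgroupOf
  obtain ⟨H, hH⟩ := Subgroup.exists_right_complement'_of_coprime (N := Y) (by
    rw [hYindex, hindex]
    exact hcop'.coprime_dvd_left hYcard)
  let H' := H.map X.subtype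
  have hH'card : Nat.card H' = Nat.card S' := by
    rw [Subgroup.card_map_of_injective X.subtype_injective, ← hindex, ← hYindex, hH.symm.index_eq_card]
  have hsolv' : Group.IsSolvable A' ∨ Group.IsSolvable S' := by
    rcases hsolv with h | h
    · exact Or.inl h
    · exact Or.inr (Group.isSolvable_of_surjective (π.subgroupMap_surjective S))
  obtain ⟨d, hd, hdS⟩ := H1.exists_conj_eq_of_coprime hnorm hcop' hsolv'
    (hsup' ▸ le_top : H' ≤ A' ⊔ S') hH'card
  refine ⟨g d⁻¹ ω, fun s hs => ?_⟩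
  have h1 : MulAut.conj d • π s ∈ H' := by
    rw [← hdS]
    exact Subgroup.smul_mem_pointwise_smul _ _ _ (Subgroup.mem_map_of_mem _ hs)
  obtain ⟨x, -, hx⟩ := h1
  have h2 : g (d * π s * d⁻¹) ω = ω := by
    have : (x : L ⧸ N) ∈ X := x.2
    rwa [show (x : L ⧸ N) = d * π s * d⁻¹ from hx] at this
  rw [map_mul, map_mul, Equiv.Perm.mul_apply, Equiv.Perm.mul_apply] at h2
  show f s (g d⁻¹ ω) = g d⁻¹ ω
  conv_rhs => rw [← h2, ← Equiv.Perm.mul_apply, ← map_mul, inv_mul_cancel, map_one,
    Equiv.Perm.one_apply]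
  rfl

/-! ### Multiplicities -/

section Mult

variable {G : Type u} [Group G] [Fintype G] (N : Subgroup G) [hN : N.Normal] [Fintype N]

theorem mult_ne_zero_iff (χ : IrrCharacter G) (θ : IrrCharacter N) :
    mult N χ θ ≠ 0 ↔ classInner (fun n : N => (χ : G → ℂ) n) (θ : N → ℂ) ≠ 0 := by
  rw [classInner_eq_mult, Nat.cast_ne_zero]

/-- A multiplicity in the restriction to a normal subgroup divides the degree. -/
theorem mult_dvd_degree {χ : IrrCharacter G} {θ : IrrCharacter N} (h : mult N χ θ ≠ 0) :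
    mult N χ θ ∣ degree (χ : G → ℂ) := by
  classical
  have h1 := congrFun (H13.clifford_res N χ.2 θ.2 ((mult_ne_zero_iff N χ θ).1 h)
    (Finset.univ.filter fun ψ => ∃ x, H13.twist N x (θ : N → ℂ) = ψ) (by simp)) 1
  rw [classInner_eq_mult] at h1
  simp only [OneMemClass.coe_one, Pi.smul_apply, Finset.sum_apply, irr_apply_one, smul_eq_mul] at h1
  exact ⟨_, by exact_mod_cast h1⟩

theorem exists_mult_ne_zero (χ : IrrCharacter G) : ∃ θ : IrrCharacter N, mult N χ θ ≠ 0 := by
  obtain ⟨θ, hθ⟩ := H13.exists_constituent N (isCharacter_irr χ) (irr_ne_zero χ)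
  exact ⟨θ, (mult_ne_zero_iff N χ θ).2 hθ⟩

/-- Every irreducible character of a normal subgroup lies under one of the group. -/
theorem exists_over (θ : IrrCharacter N) : ∃ χ : IrrCharacter G, mult N χ θ ≠ 0 := by
  by_contra hcon
  push Not at hcon
  have hreg : ∑ χ : IrrCharacter G, (χ : G → ℂ) 1 * classInner (fun n : N => (χ : G → ℂ) n) (θ : N → ℂ)
      = (Nat.card G : ℂ) * (Nat.card N : ℂ)⁻¹ * (degree (θ : N → ℂ) : ℂ) := by
    classical
    simp only [classInner_def, Finset.mul_sum]
    rw [Finset.sum_comm]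
    have h1 : ∀ n : N, ∑ χ : IrrCharacter G, (χ : G → ℂ) 1 *
        ((Nat.card N : ℂ)⁻¹ * ((χ : G → ℂ) n * conj ((θ : N → ℂ) n))) =
        (Nat.card N : ℂ)⁻¹ * (if n = 1 then (Nat.card G : ℂ) else 0) * conj ((θ : N → ℂ) n) := by
      intro n
      have := regular_eq_sum (n : G)
      simp only [OneMemClass.coe_eq_one] at this
      rw [← this, Finset.mul_sum, Finset.sum_mul]
      exact Finset.sum_congr rfl fun χ _ => by ring
    simp only [h1]
    simp [irr_apply_one]
    left; exact mul_comm _ _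
  simp only [classInner_eq_mult, hcon, Nat.cast_zero, mul_zero, Finset.sum_const_zero] at hreg
  have hpos := irr_degree_pos θ
  simp [Nat.card_pos.ne', hpos.ne'] at hreg

end Mult

/-! ### Abelian quotient: constituents differ by linear characters -/

section Abelian

variable {G : Type u} [Group G] [Fintype G] (N : Subgroup G) [hN : N.Normal] [Fintype N]

/-- Product with a linear character. -/
noncomputable def mulHom (f : G →* ℂˣ) (χ : IrrCharacter G) : IrrCharacter G :=
  ⟨fun g => (f g : ℂ) * (χ : G → ℂ) g,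
    isIrrCharacter_of_classInner_self_eq_one
      (IsCharacter.mul (isCharacter_monoidHom f) (isCharacter_irr χ)) (by
      rw [← classInner_irr_self χ, classInner_def, classInner_def]
      congr 1
      refine Finset.sum_congr rfl fun g _ => ?_
      have hn : (f g : ℂ) * conj (f g : ℂ) = 1 := by
        have hp : (f g : ℂ) ^ orderOf g = 1 := by
          rw [← Units.val_pow_eq_pow_val, ← map_pow, pow_orderOf_eq_one, map_one, Units.val_one]
        rw [conj_eq_inv_of_pow_eq_one (orderOf_pos g).ne' hp, mul_inv_cancel₀ (f g).ne_zero]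
      rw [map_mul, mul_mul_mul_comm, hn, one_mul])⟩

theorem mulHom_apply (f : G →* ℂˣ) (χ : IrrCharacter G) (g : G) :
    (mulHom f χ : G → ℂ) g = (f g : ℂ) * (χ : G → ℂ) g := rfl

theorem mult_mulHom {f : G →* ℂˣ} (hf : ∀ n ∈ N, f n = 1) (χ : IrrCharacter G)
    (θ : IrrCharacter N) : mult N (mulHom f χ) θ = mult N χ θ := by
  refine mult_eq_of_classInner N ?_
  rw [← classInner_eq_mult]
  congr 1
  funext n
  rw [mulHom_apply, hf n n.2, Units.val_one, one_mul]

theorem exists_mulHom_eq (hab : ∀ a b : G, a * b * a⁻¹ * b⁻¹ ∈ N) {χ χ' : IrrCharacter G}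
    {θ : IrrCharacter N} (h : mult N χ θ ≠ 0) (h' : mult N χ' θ ≠ 0) :
    ∃ f : G →* ℂˣ, (∀ n ∈ N, f n = 1) ∧ mulHom f χ = χ' := by
  classical
  let ind : G → ℂ := fun g => if g ∈ N then 1 else 0
  have hind : IsClassFunction G ind := fun g x => by
    have : x * g * x⁻¹ ∈ N ↔ g ∈ N :=
      ⟨fun hm => by simpa [mul_assoc] using hN.conj_mem _ hm x⁻¹, fun hm => hN.conj_mem _ hm x⟩
    simp only [ind, this]
  have hpos : ∑ g, ind g * ((χ : G → ℂ) g * conj ((χ' : G → ℂ) g)) ≠ 0 := by
    simp only [ind, ite_mul, one_mul, zero_mul, ← Finset.sum_filter]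
    rw [Finset.sum_subtype (Finset.univ.filter fun g => g ∈ N) (p := fun g => g ∈ N) (by simp),
      sum_mul_conj_eq_card_mul (fun n : N => (χ : G → ℂ) n) (fun n : N => (χ' : G → ℂ) n)]
    refine mul_ne_zero card_ne_zero' ?_
    rw [res_fun_eq_sum N χ, res_fun_eq_sum N χ', classInner_sum_smul_sum_smul]
    simp only [Complex.conj_natCast]
    intro h0
    have h1 : ∑ ψ : IrrCharacter N, mult N χ ψ * mult N χ' ψ = 0 := by exact_mod_cast h0
    exact mul_ne_zero h h' ((Finset.sum_eq_zero_iff.1 h1) θ (Finset.mem_univ _))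
  have hexp : ∑ g, ind g * ((χ : G → ℂ) g * conj ((χ' : G → ℂ) g)) = ∑ η : IrrCharacter G,
      classInner ind η * ∑ g, (η : G → ℂ) g * ((χ : G → ℂ) g * conj ((χ' : G → ℂ) g)) := by
    simp only [Finset.mul_sum]
    rw [Finset.sum_comm]
    refine Finset.sum_congr rfl fun g _ => ?_
    rw [classFunction_apply_eq_sum hind g, Finset.sum_mul]
    exact Finset.sum_congr rfl fun η _ => by ring
  rw [hexp] at hpos
  obtain ⟨η, -, hη⟩ := Finset.exists_ne_zero_of_sum_ne_zero hpos
  obtain ⟨hc, hs⟩ := mul_ne_zero_iff.1 hη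
  -- the character `η` is trivial on `N`
  have hone : classInner (fun n : N => (η : G → ℂ) n) (oneIrr N : N → ℂ) ≠ 0 := by
    intro h0
    apply hc
    rw [classInner_def] at h0 ⊢
    simp only [oneIrr_apply, map_one, mul_one, mul_eq_zero, inv_eq_zero] at h0
    have h2 : ∑ n : N, (η : G → ℂ) n = 0 := h0.resolve_left card_ne_zero'
    simp only [ind, ite_mul, one_mul, zero_mul, ← Finset.sum_filter]
    rw [Finset.sum_subtype (Finset.univ.filter fun g => g ∈ N) (p := fun g => g ∈ N) (by simp),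
      ← map_sum, h2, map_zero, mul_zero]
  have hker : ∀ n ∈ N, (η : G → ℂ) n = (η : G → ℂ) 1 := by
    intro n hn
    have hfix : ∀ x : G, H13.twist N x (oneIrr N : N → ℂ) = (oneIrr N : N → ℂ) := fun x => rfl
    have h2 := H13.clifford_res N η.2 (oneIrr N).2 hone {oneIrr N} (fun ψ => by
      simp only [Finset.mem_singleton, hfix, exists_const]
      exact ⟨fun e => e ▸ rfl, fun e => Subtype.ext e.symm⟩)
    have h3 := congrFun h2 ⟨n, hn⟩
    have h4 := congrFun h2 1
    simp only [Pi.smul_apply, Finset.sum_singleton, oneIrr_apply, OneMemClass.coe_one] at h3 h4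
    rw [h4]; exact h3
  obtain ⟨ψ, hψ⟩ := exists_inflate_eq N η hker
  have hψ1 : (ψ : G ⧸ N → ℂ) 1 = 1 := irr_apply_one_of_comm (by
    intro a b
    obtain ⟨a, rfl⟩ := QuotientGroup.mk_surjective a
    obtain ⟨b, rfl⟩ := QuotientGroup.mk_surjective b
    rw [← QuotientGroup.mk_mul, ← QuotientGroup.mk_mul, eq_comm, QuotientGroup.eq]
    have := hab a⁻¹ b⁻¹
    simpa [mul_assoc] using this) ψ
  obtain ⟨f₀, hf₀⟩ := exists_monoidHom_of_apply_one_eq_one (isCharacter_irr ψ) hψ1
  let f : G →* ℂˣ := f₀.comp (QuotientGroup.mk' N)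
  have hf : ∀ g, (f g : ℂ) = (η : G → ℂ) g := fun g => by
    rw [← hψ, inflate_apply, ← hf₀]; rfl
  refine ⟨f, fun n hn => ?_, ?_⟩
  · apply Units.ext
    rw [hf, hker n hn, ← hψ, inflate_apply, QuotientGroup.mk_one, hψ1, Units.val_one]
  · by_contra hne
    apply hs
    have := classInner_irr_ne hne
    rw [classInner_def, mul_eq_zero, inv_eq_zero] at this
    have h2 := this.resolve_left card_ne_zero'
    simpa [mulHom_apply, hf, mul_assoc] using h2

/-- The linear characters trivial on `N`. -/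
def linTriv : Subgroup (G →* ℂˣ) where
  carrier := {f | ∀ n ∈ N, f n = 1}
  one_mem' := fun _ _ => rfl
  mul_mem' := fun {a b} ha hb n hn => by rw [MonoidHom.mul_apply, ha n hn, hb n hn, one_mul]
  inv_mem' := fun {a} ha n hn => by rw [MonoidHom.inv_apply, ha n hn, inv_one]

end Abelian

/-! ### Operators -/

section Ops

variable {G : Type u} [Group G] [Fintype G] {S : Type v} [Group S]

/-- Restriction of operators to a stable subgroup. -/
noncomputable def resHom (φ : S →* MulAut G) (K : Subgroup G) (hK : ∀ s, ∀ k ∈ K, φ s k ∈ K) :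
    S →* MulAut K :=
  MonoidHom.mk'
    (fun s =>
      { toFun := fun c => ⟨φ s (c : G), hK s c c.2⟩
        invFun := fun c => ⟨φ s⁻¹ (c : G), hK s⁻¹ c c.2⟩
        left_inv := fun c => Subtype.ext (by
          show φ s⁻¹ (φ s (c : G)) = c
          rw [← MulAut.mul_apply, ← map_mul, inv_mul_cancel, map_one, MulAut.one_apply])
        right_inv := fun c => Subtype.ext (by
          show φ s (φ s⁻¹ (c : G)) = c
          rw [← MulAut.mul_apply, ← map_mul, mul_inv_cancel, map_one, MulAut.one_apply])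
        map_mul' := fun a b => Subtype.ext (map_mul (φ s) (a : G) (b : G)) })
    (fun s t => MulEquiv.ext fun c => Subtype.ext (by
      show φ (s * t) (c : G) = φ s (φ t (c : G))
      rw [map_mul]; rfl))

theorem resHom_coe (φ : S →* MulAut G) (K : Subgroup G) (hK : ∀ s, ∀ k ∈ K, φ s k ∈ K) (s : S)
    (k : K) : (resHom φ K hK s k : G) = φ s (k : G) := rfl

theorem mult_irrCongr (φ : S →* MulAut G) (N : Subgroup G) [Fintype N]
    (hNS : ∀ s, ∀ n ∈ N, φ s n ∈ N) (s : S) (χ : IrrCharacter G) (θ : IrrCharacter N) :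
    mult N (irrCongr (φ s) χ) (irrCongr (resHom φ N hNS s) θ) = mult N χ θ :=
  mult_comp N (φ s) (resHom φ N hNS s) (fun n => resHom_coe φ N hNS s n) χ θ

theorem irrCongr_eq_of_inv {φ : S →* MulAut G} {χ : IrrCharacter G} (h : Inv φ (χ : G → ℂ))
    (s : S) : irrCongr (φ s) χ = χ := Subtype.ext (funext fun g => h s g)

/-- Multiplicities compose. -/
theorem mult_ne_zero_trans {H : Type u} [Group H] [Fintype H] (M : Subgroup G) [Fintype M]
    (j : H →* M) (χ : IrrCharacter G) (ψ : IrrCharacter M) (θ : IrrCharacter H)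
    (h1 : mult M χ ψ ≠ 0) (h2 : classInner (fun x : H => (ψ : M → ℂ) (j x)) (θ : H → ℂ) ≠ 0) :
    classInner (fun x : H => (χ : G → ℂ) (j x : G)) (θ : H → ℂ) ≠ 0 := by
  classical
  have hnat : ∀ β : IrrCharacter M, ∃ k : ℕ,
      classInner (fun x : H => (β : M → ℂ) (j x)) (θ : H → ℂ) = k := fun β =>
    IsCharacter.classInner_nat (IsCharacter.comp (isCharacter_irr β) j) (isCharacter_irr θ)
  choose k hk using hnat
  have hexp : (fun x : H => (χ : G → ℂ) (j x : G)) =
      ∑ β : IrrCharacter M, (mult M χ β : ℂ) • (fun x : H => (β : M → ℂ) (j x)) := by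
    funext x
    rw [res_apply_eq_sum M χ (j x)]
    simp
  rw [hexp, classInner_sum_left]
  simp only [classInner_smul_left, hk]
  intro h0
  have h3 : ∑ β : IrrCharacter M, mult M χ β * k β = 0 := by exact_mod_cast h0
  have h4 := (Finset.sum_eq_zero_iff.1 h3) ψ (Finset.mem_univ _)
  rw [hk, Nat.cast_ne_zero] at h2
  exact mul_ne_zero h1 h2 h4

open scoped Classical in
theorem card_linTriv (N : Subgroup G) [N.Normal] (hab : ∀ a b : G, a * b * a⁻¹ * b⁻¹ ∈ N) :
    Nat.card (linTriv N) = N.index := by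
  have e : linTriv N ≃ (G ⧸ N →* ℂˣ) :=
    { toFun := fun f => QuotientGroup.lift N f.1 fun n hn => f.2 n hn
      invFun := fun f => ⟨f.comp (QuotientGroup.mk' N), fun n hn => by
        rw [MonoidHom.comp_apply, QuotientGroup.mk'_apply, (QuotientGroup.eq_one_iff n).2 hn,
          map_one]⟩
      left_inv := fun f => Subtype.ext (MonoidHom.ext fun g => rfl)
      right_inv := fun f => QuotientGroup.monoidHom_ext _ (MonoidHom.ext fun g => rfl) }
  rw [Nat.card_congr e, card_monoidHom_units]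
  have hbot : commutator (G ⧸ N) = ⊥ := by
    rw [commutator_def, Subgroup.commutator_eq_bot_iff_le_centralizer]
    intro a _
    rw [Subgroup.mem_centralizer_iff]
    intro b _
    obtain ⟨a, rfl⟩ := QuotientGroup.mk_surjective a
    obtain ⟨b, rfl⟩ := QuotientGroup.mk_surjective b
    rw [← QuotientGroup.mk_mul, ← QuotientGroup.mk_mul, eq_comm, QuotientGroup.eq]
    have := hab b⁻¹ a⁻¹
    simpa [mul_assoc] using this
  rw [hbot, Subgroup.index_bot]; rfl

/-- An invariant constituent of the induced character, abelian quotient. -/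
theorem exists_inv_over_abelian [Finite S] (φ : S →* MulAut G) (N : Subgroup G) [N.Normal]
    [Fintype N] (hNS : ∀ s, ∀ n ∈ N, φ s n ∈ N) (R : Subgroup S) [R.Normal]
    (hR : ∀ r ∈ R, ∃ n ∈ N, φ r = MulAut.conj n) (hcop : N.index.Coprime R.index)
    (hab : ∀ a b : G, a * b * a⁻¹ * b⁻¹ ∈ N) (θ : IrrCharacter N)
    (hθ : Inv (resHom φ N hNS) (θ : N → ℂ)) :
    ∃ χ : IrrCharacter G, mult N χ θ ≠ 0 ∧ Inv φ (χ : G → ℂ) := by
  classical
  let Ω := {χ : IrrCharacter G // mult N χ θ ≠ 0}
  obtain ⟨χ₀, hχ₀⟩ := exists_over N θ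
  letI : MulAction (linTriv N) Ω :=
    { smul := fun f χ => ⟨mulHom f.1 χ.1, by rw [mult_mulHom N f.2]; exact χ.2⟩
      one_smul := fun χ => Subtype.ext (Subtype.ext (funext fun g =>
        show ((1 : G →* ℂˣ) g : ℂ) * (χ.1 : G → ℂ) g = (χ.1 : G → ℂ) g by simp))
      mul_smul := fun a b χ => Subtype.ext (Subtype.ext (funext fun g =>
        show ((a.1 * b.1) g : ℂ) * (χ.1 : G → ℂ) g = (a.1 g : ℂ) * ((b.1 g : ℂ) * (χ.1 : G → ℂ) g)
          by simp [mul_assoc])) }
  have hmem : ∀ s : S, ∀ f : linTriv N, (f.1.comp (φ s⁻¹).toMonoidHom) ∈ linTriv N :=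
    fun s f n hn => f.2 _ (hNS s⁻¹ n hn)
  let σ₀ : S →* MulAut (linTriv N) :=
    MonoidHom.mk'
      (fun s =>
        { toFun := fun f => ⟨_, hmem s f⟩
          invFun := fun f => ⟨_, hmem s⁻¹ f⟩
          left_inv := fun f => Subtype.ext (MonoidHom.ext fun g => by
            show f.1 (φ s⁻¹ (φ s⁻¹⁻¹ g)) = f.1 g
            rw [← MulAut.mul_apply, ← map_mul, inv_inv, inv_mul_cancel, map_one, MulAut.one_apply])
          right_inv := fun f => Subtype.ext (MonoidHom.ext fun g => by
            show f.1 (φ s⁻¹⁻¹ (φ s⁻¹ g)) = f.1 g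
            rw [← MulAut.mul_apply, ← map_mul, inv_inv, mul_inv_cancel, map_one, MulAut.one_apply])
          map_mul' := fun a b => Subtype.ext (MonoidHom.ext fun g => rfl) })
      (fun s t => MulEquiv.ext fun f => Subtype.ext (MonoidHom.ext fun g => by
        show f.1 (φ (s * t)⁻¹ g) = f.1 (φ t⁻¹ (φ s⁻¹ g))
        rw [mul_inv_rev, map_mul]; rfl))
  have hΩ : ∀ (s : S) (χ : Ω), mult N (irrCongr (φ s⁻¹) χ.1) θ ≠ 0 := fun s χ => by
    have h := mult_irrCongr φ N hNS s⁻¹ χ.1 θ
    rw [irrCongr_eq_of_inv hθ] at h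
    rw [h]; exact χ.2
  let f₀ : S →* Equiv.Perm Ω :=
    MonoidHom.mk'
      (fun s =>
        { toFun := fun χ => ⟨_, hΩ s χ⟩
          invFun := fun χ => ⟨_, hΩ s⁻¹ χ⟩
          left_inv := fun χ => Subtype.ext (Subtype.ext (funext fun g => by
            show (χ.1 : G → ℂ) (φ s⁻¹ (φ s⁻¹⁻¹ g)) = _
            rw [← MulAut.mul_apply, ← map_mul, inv_inv, inv_mul_cancel, map_one, MulAut.one_apply]))
          right_inv := fun χ => Subtype.ext (Subtype.ext (funext fun g => by
            show (χ.1 : G → ℂ) (φ s⁻¹⁻¹ (φ s⁻¹ g)) = _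
            rw [← MulAut.mul_apply, ← map_mul, inv_inv, mul_inv_cancel, map_one,
              MulAut.one_apply])) })
      (fun s t => Equiv.ext fun χ => Subtype.ext (Subtype.ext (funext fun g => by
        show (χ.1 : G → ℂ) (φ (s * t)⁻¹ g) = (χ.1 : G → ℂ) (φ t⁻¹ (φ s⁻¹ g))
        rw [mul_inv_rev, map_mul]; rfl)))
  have hRσ : R ≤ σ₀.ker := fun r hr => MonoidHom.mem_ker.2 (MulEquiv.ext fun f =>
    Subtype.ext (MonoidHom.ext fun g => by
      obtain ⟨n, hn, hrn⟩ := hR r⁻¹ (inv_mem hr)
      show f.1 (φ r⁻¹ g) = f.1 g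
      rw [hrn, MulAut.conj_apply, map_mul, map_mul, f.2 n hn, map_inv, f.2 n hn]
      simp))
  have hRf : R ≤ f₀.ker := fun r hr => MonoidHom.mem_ker.2 (Equiv.ext fun χ =>
    Subtype.ext (Subtype.ext (funext fun g => by
      obtain ⟨n, hn, hrn⟩ := hR r⁻¹ (inv_mem hr)
      show (χ.1 : G → ℂ) (φ r⁻¹ g) = (χ.1 : G → ℂ) g
      rw [hrn, MulAut.conj_apply]
      exact irr_isClassFunction χ.1 g n)))
  haveI : Finite (G →* ℂˣ) := Finite.of_injective _ (linIrr_injective (G := G))
  obtain ⟨χ, hχ⟩ := exists_fixed_of_comm_transitive (A := linTriv N) (Q := S ⧸ R)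
    (by rw [card_linTriv N hab]; exact hcop) (⟨χ₀, hχ₀⟩ : Ω)
    (fun x y => by
      obtain ⟨f, hf, hxy⟩ := exists_mulHom_eq N hab x.2 y.2
      exact ⟨⟨f, hf⟩, Subtype.ext hxy⟩)
    (QuotientGroup.lift R f₀ hRf) (QuotientGroup.lift R σ₀ hRσ)
    (fun q a x => by
      obtain ⟨s, rfl⟩ := QuotientGroup.mk_surjective q
      exact Subtype.ext (Subtype.ext (funext fun g => rfl)))
  refine ⟨χ.1, χ.2, fun s g => ?_⟩
  have h := congrArg (fun x : Ω => (x.1 : G → ℂ) g) (hχ (QuotientGroup.mk s⁻¹))
  have h' : (χ.1 : G → ℂ) (φ s⁻¹⁻¹ g) = (χ.1 : G → ℂ) g := h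
  rwa [inv_inv] at h'

end Ops

/-- An invariant constituent of the induced character, solvable quotient. -/
theorem exists_inv_over_solvable_aux (n : ℕ) :
    ∀ {G : Type u} {S : Type v} [Group G] [Fintype G] [Group S] [Finite S] (φ : S →* MulAut G)
      (N : Subgroup G) [N.Normal] [Fintype N] (hNS : ∀ s, ∀ n ∈ N, φ s n ∈ N) (R : Subgroup S)
      [R.Normal], (∀ r ∈ R, ∃ n ∈ N, φ r = MulAut.conj n) → N.index = n →
      N.index.Coprime R.index → (∃ k, derivedSeries G k ≤ N) → ∀ θ : IrrCharacter N,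
      Inv (resHom φ N hNS) (θ : N → ℂ) →
      ∃ χ : IrrCharacter G, mult N χ θ ≠ 0 ∧ Inv φ (χ : G → ℂ) := by
  induction n using Nat.strong_induction_on with
  | _ n ih =>
    intro G S _ _ _ _ φ N _ _ hNS R _ hR hn hcop hsolv θ hθ
    classical
    obtain ⟨k, hk, hmin⟩ : ∃ k, derivedSeries G k ≤ N ∧ ∀ j < k, ¬ derivedSeries G j ≤ N :=
      ⟨Nat.find hsolv, Nat.find_spec hsolv, fun j hj => Nat.find_min hsolv hj⟩
    rcases Nat.eq_zero_or_pos k with rfl | hk0
    · rw [derivedSeries_zero] at hk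
      exact exists_inv_over_abelian φ N hNS R hR hcop (fun a b => hk (Subgroup.mem_top _)) θ hθ
    obtain ⟨j, rfl⟩ : ∃ j, k = j + 1 := ⟨k - 1, by omega⟩
    let M : Subgroup G := derivedSeries G j ⊔ N
    haveI : (derivedSeries G j).Normal := derivedSeries_normal G j
    haveI hMn : M.Normal := Subgroup.sup_normal _ _
    have hNM : N ≤ M := le_sup_right
    have hMS : ∀ s, ∀ m ∈ M, φ s m ∈ M := by
      intro s
      show M ≤ M.comap (φ s).toMonoidHom
      refine sup_le ?_ ?_
      · rw [← Subgroup.map_le_iff_le_comap]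
        exact (map_derivedSeries_le_derivedSeries _ j).trans le_sup_left
      · exact fun x hx => Subgroup.mem_sup_right (hNS s x hx)
    let φM := resHom φ M hMS
    let NM := N.subgroupOf M
    haveI : NM.Normal := Subgroup.normal_subgroupOf
    have hNMS : ∀ s, ∀ x ∈ NM, φM s x ∈ NM := fun s x hx => hNS s (x : G) hx
    let e : NM ≃* N := Subgroup.subgroupOfEquivOfLe hNM
    let θM : IrrCharacter NM := irrCongr e θ
    have hθM : Inv (resHom φM NM hNMS) (θM : NM → ℂ) := fun s x => hθ s (e x)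
    have habM : ∀ a b : M, a * b * a⁻¹ * b⁻¹ ∈ NM := by
      intro a b
      show (a : G) * b * (a : G)⁻¹ * (b : G)⁻¹ ∈ N
      have h1 : ⁅derivedSeries G j, derivedSeries G j⁆ ≤ N := by
        rw [← derivedSeries_succ]; exact hk
      have h2 : ∀ x ∈ M, ∀ y ∈ M, QuotientGroup.mk' N x * QuotientGroup.mk' N y =
          QuotientGroup.mk' N y * QuotientGroup.mk' N x := by
        have h3 : M.map (QuotientGroup.mk' N) = (derivedSeries G j).map (QuotientGroup.mk' N) := by
          rw [Subgroup.map_sup, sup_eq_left]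
          rw [QuotientGroup.map_mk'_self]
          exact bot_le
        intro x hx y hy
        obtain ⟨x', hx', hxe⟩ : QuotientGroup.mk' N x ∈ (derivedSeries G j).map (QuotientGroup.mk' N) :=
          h3 ▸ Subgroup.mem_map_of_mem _ hx
        obtain ⟨y', hy', hye⟩ : QuotientGroup.mk' N y ∈ (derivedSeries G j).map (QuotientGroup.mk' N) :=
          h3 ▸ Subgroup.mem_map_of_mem _ hy
        rw [← hxe, ← hye, ← map_mul, ← map_mul, QuotientGroup.mk'_apply, QuotientGroup.mk'_apply,
          QuotientGroup.eq]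
        have := h1 (Subgroup.commutator_mem_commutator (inv_mem hy') (inv_mem hx'))
        simpa [commutatorElement_def, mul_assoc] using this
      rw [← QuotientGroup.eq_one_iff]
      have h4 := h2 _ a.2 _ b.2
      rw [QuotientGroup.mk'_apply, QuotientGroup.mk'_apply] at h4
      rw [QuotientGroup.mk_mul, QuotientGroup.mk_mul, QuotientGroup.mk_mul, h4,
        QuotientGroup.mk_inv, QuotientGroup.mk_inv, mul_inv_cancel_right, mul_inv_cancel]
    have hRM : ∀ r ∈ R, ∃ x ∈ NM, φM r = MulAut.conj x := by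
      intro r hr
      obtain ⟨x, hx, hrx⟩ := hR r hr
      exact ⟨⟨x, hNM hx⟩, hx, MulEquiv.ext fun m => Subtype.ext (by
        show φ r (m : G) = _
        rw [hrx]; rfl)⟩
    have hNMindex : NM.index = N.relIndex M := rfl
    obtain ⟨ψ, hψ, hψinv⟩ := exists_inv_over_abelian φM NM hNMS R hRM
      (by rw [hNMindex]; exact hcop.coprime_dvd_left (Subgroup.relIndex_dvd_index_of_normal N M))
      habM θM hθM
    have hlt : M.index < n := by
      rw [← hn, ← Subgroup.relIndex_mul_index hNM]
      refine lt_mul_of_one_lt_left (Nat.pos_of_ne_zero M.index_ne_zero_of_finite) ?_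
      refine lt_of_le_of_ne (Nat.one_le_iff_ne_zero.2 ?_) (fun h => hmin j (by omega) ?_)
      · exact Subgroup.index_ne_zero_of_finite (H := N.subgroupOf M)
      · exact le_sup_left.trans (Subgroup.relIndex_eq_one.1 h.symm)
    obtain ⟨χ, hχ, hχinv⟩ := ih _ hlt φ M hMS R
      (fun r hr => (hR r hr).imp fun x hx => ⟨hNM hx.1, hx.2⟩) rfl
      (hcop.coprime_dvd_left (Subgroup.index_dvd_of_le hNM))
      ⟨j, le_sup_left⟩ ψ hψinv
    refine ⟨χ, ?_, hχinv⟩
    rw [mult_ne_zero_iff] at hψ
    have h1 := mult_ne_zero_trans M NM.subtype χ ψ θM hχ hψ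
    rw [mult_ne_zero_iff, ← classInner_comp_equiv e]
    exact h1

/-- An invariant constituent of the induced character, solvable quotient. -/
theorem exists_inv_over_solvable {G : Type u} {S : Type v} [Group G] [Fintype G] [Group S]
    [Finite S] (φ : S →* MulAut G) (N : Subgroup G) [N.Normal] [Fintype N]
    (hNS : ∀ s, ∀ n ∈ N, φ s n ∈ N) (R : Subgroup S) [R.Normal]
    (hR : ∀ r ∈ R, ∃ n ∈ N, φ r = MulAut.conj n) (hcop : N.index.Coprime R.index)
    (hsolv : Group.IsSolvable (G ⧸ N)) (θ : IrrCharacter N)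
    (hθ : Inv (resHom φ N hNS) (θ : N → ℂ)) :
    ∃ χ : IrrCharacter G, mult N χ θ ≠ 0 ∧ Inv φ (χ : G → ℂ) := by
  refine exists_inv_over_solvable_aux _ φ N hNS R hR rfl hcop ?_ θ hθ
  obtain ⟨k, hk⟩ := (isSolvable_def (G ⧸ N)).1 hsolv
  refine ⟨k, ?_⟩
  rw [← QuotientGroup.ker_mk' N, ← Subgroup.map_eq_bot_iff,
    map_derivedSeries_eq (QuotientGroup.mk'_surjective N), hk]

/-- An invariant constituent of the restriction. -/
theorem exists_inv_under {L : Type u} [Group L] [Fintype L] (G S N : Subgroup L) [G.Normal]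
    [hN : N.Normal] [Fintype G] [Fintype (N.subgroupOf G)] (hNG : N ≤ G) (hsup : G ⊔ S = ⊤)
    (hcop : (N.relIndex G).Coprime (Nat.card S))
    (hsolv : Group.IsSolvable (G.map (QuotientGroup.mk' N)) ∨ Group.IsSolvable S)
    (χ : IrrCharacter G) (hχ : Inv (conjHom G S fun s _ g hg => ‹G.Normal›.conj_mem g hg s) (χ : G → ℂ)) :
    ∃ θ : IrrCharacter (N.subgroupOf G), mult (N.subgroupOf G) χ θ ≠ 0 ∧
      ∀ s ∈ S, ∀ x y : N.subgroupOf G, ((y : G) : L) = s * ((x : G) : L) * s⁻¹ →
        (θ : N.subgroupOf G → ℂ) y = (θ : N.subgroupOf G → ℂ) x := by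
  classical
  haveI : (N.subgroupOf G).Normal := Subgroup.normal_subgroupOf
  let Φ : L →* MulAut G := MulAut.conjNormal
  have hNS : ∀ l, ∀ x ∈ N.subgroupOf G, Φ l x ∈ N.subgroupOf G := fun l x hx => by
    show ((Φ l x : G) : L) ∈ N
    rw [MulAut.conjNormal_apply]
    exact hN.conj_mem _ hx l
  -- the character is invariant under the whole group
  have hinv : Inv Φ (χ : G → ℂ) := by
    let St : Subgroup L :=
      { carrier := {l | ∀ g, (χ : G → ℂ) (Φ l g) = (χ : G → ℂ) g}
        one_mem' := fun g => by rw [map_one]; rfl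
        mul_mem' := fun {a b} ha hb g => by rw [map_mul, MulAut.mul_apply, ha, hb]
        inv_mem' := fun {a} ha g => by
          have := ha (Φ a⁻¹ g)
          rw [← MulAut.mul_apply, ← map_mul, mul_inv_cancel, map_one, MulAut.one_apply] at this
          exact this.symm }
    intro l
    refine (show (⊤ : Subgroup L) ≤ St from hsup ▸ sup_le ?_ ?_) (Subgroup.mem_top l)
    · intro a ha g
      rw [show Φ a g = ⟨a, ha⟩ * g * (⟨a, ha⟩ : G)⁻¹ from Subtype.ext (MulAut.conjNormal_apply a g)]
      exact irr_isClassFunction χ g ⟨a, ha⟩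
    · intro s hs g
      rw [show Φ s g = conjHom G S (fun s _ g hg => ‹G.Normal›.conj_mem g hg s) ⟨s, hs⟩ g from
        Subtype.ext (MulAut.conjNormal_apply s g)]
      exact hχ _ g
  let Ψ := resHom Φ (N.subgroupOf G) hNS
  let Ω := {θ : IrrCharacter (N.subgroupOf G) // mult (N.subgroupOf G) χ θ ≠ 0}
  have hΩ : ∀ (l : L) (θ : Ω), mult (N.subgroupOf G) χ (irrCongr (Ψ l⁻¹) θ.1) ≠ 0 := fun l θ => by
    have h := mult_irrCongr Φ (N.subgroupOf G) hNS l⁻¹ χ θ.1
    rw [irrCongr_eq_of_inv hinv] at h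
    rw [h]; exact θ.2
  let f : L →* Equiv.Perm Ω :=
    MonoidHom.mk'
      (fun l =>
        { toFun := fun θ => ⟨_, hΩ l θ⟩
          invFun := fun θ => ⟨_, hΩ l⁻¹ θ⟩
          left_inv := fun θ => Subtype.ext (Subtype.ext (funext fun g => by
            show (θ.1 : N.subgroupOf G → ℂ) (Ψ l⁻¹ (Ψ l⁻¹⁻¹ g)) = _
            rw [← MulAut.mul_apply, ← map_mul, inv_inv, inv_mul_cancel, map_one, MulAut.one_apply]))
          right_inv := fun θ => Subtype.ext (Subtype.ext (funext fun g => by
            show (θ.1 : N.subgroupOf G → ℂ) (Ψ l⁻¹⁻¹ (Ψ l⁻¹ g)) = _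
            rw [← MulAut.mul_apply, ← map_mul, inv_inv, mul_inv_cancel, map_one,
              MulAut.one_apply])) })
      (fun l m => Equiv.ext fun θ => Subtype.ext (Subtype.ext (funext fun g => by
        show (θ.1 : N.subgroupOf G → ℂ) (Ψ (l * m)⁻¹ g) =
          (θ.1 : N.subgroupOf G → ℂ) (Ψ m⁻¹ (Ψ l⁻¹ g))
        rw [mul_inv_rev, map_mul]; rfl)))
  obtain ⟨θ₀, hθ₀⟩ := exists_mult_ne_zero (N.subgroupOf G) χ
  obtain ⟨θ, hθ⟩ := exists_fixed_of_transitive G S N hNG hsup hcop hsolv (⟨θ₀, hθ₀⟩ : Ω) f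
    (fun n hn => Equiv.ext fun θ => Subtype.ext (Subtype.ext (funext fun x => by
      show (θ.1 : N.subgroupOf G → ℂ) (Ψ n⁻¹ x) = _
      let n' : N.subgroupOf G := ⟨⟨n⁻¹, hNG (inv_mem hn)⟩, inv_mem hn⟩
      rw [show Ψ n⁻¹ x = n' * x * n'⁻¹ from
        Subtype.ext (Subtype.ext (MulAut.conjNormal_apply n⁻¹ (x : G)))]
      exact irr_isClassFunction θ.1 x n')))
    (fun x y => by
      by_contra hcon
      push Not at hcon
      refine y.2 ?_
      have h0 := H13.classInner_res_eq_zero_of_not_conj (N.subgroupOf G) χ.2 x.1.2 y.1.2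
        ((mult_ne_zero_iff _ χ x.1).1 x.2) (fun g hg => hcon (g⁻¹ : G) (g⁻¹ : G).2 (Subtype.ext
          (Subtype.ext (funext fun z => by
            rw [← hg]
            show (x.1 : N.subgroupOf G → ℂ) (Ψ ((g⁻¹ : G) : L)⁻¹ z) = _
            refine congrArg _ (Subtype.ext (Subtype.ext ?_))
            show ((Φ ((g⁻¹ : G) : L)⁻¹ (z : G) : G) : L) = _
            rw [MulAut.conjNormal_apply]
            simp))))
      rw [classInner_eq_mult, Nat.cast_eq_zero] at h0
      exact h0)
  refine ⟨θ.1, θ.2, fun s hs x y hxy => ?_⟩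
  have h : (θ.1 : N.subgroupOf G → ℂ) (Ψ s⁻¹⁻¹ x) = (θ.1 : N.subgroupOf G → ℂ) x :=
    congrArg (fun z : Ω => (z.1 : N.subgroupOf G → ℂ) x) (hθ s⁻¹ (inv_mem hs))
  rw [inv_inv] at h
  rwa [show Ψ s x = y from Subtype.ext (Subtype.ext ((MulAut.conjNormal_apply s (x : G)).trans hxy.symm))] at h

/-! ### Solvable operators of coprime order -/

theorem exists_inv_over_coprime_aux (n : ℕ) :
    ∀ {G : Type u} {S : Type v} [Group G] [Fintype G] [Group S] [Finite S] (φ : S →* MulAut G)
      (N : Subgroup G) [N.Normal] [Fintype N] (hNS : ∀ s, ∀ x ∈ N, φ s x ∈ N),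
      Nat.card S = n → Group.IsSolvable S → (Nat.card G).Coprime (Nat.card S) →
      ∀ θ : IrrCharacter N, Inv (resHom φ N hNS) (θ : N → ℂ) →
      ∃ χ : IrrCharacter G, mult N χ θ ≠ 0 ∧ Inv φ (χ : G → ℂ) := by
  induction n using Nat.strong_induction_on with
  | _ n ih =>
    intro G S _ _ _ _ φ N _ _ hNS hn hsolv hcop θ hθ
    classical
    rcases subsingleton_or_nontrivial S with hS1 | hS1
    · obtain ⟨χ, hχ⟩ := exists_over N θ
      exact ⟨χ, hχ, fun s g => by rw [Subsingleton.elim s 1, map_one]; rfl⟩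
    obtain ⟨p, T, hp, hTn, hTb, -, -, hTp⟩ := H34.exists_normal_elementary hsolv
    haveI := Fact.mk hp
    have hT1 : 1 < Nat.card T := by
      rcases Nat.lt_or_ge 1 (Nat.card T) with h | h
      · exact h
      · exact absurd (Subgroup.card_eq_one.1 (le_antisymm h Nat.card_pos)) hTb
    have hpT : p ∣ Nat.card T := by
      obtain ⟨k, hk⟩ := hTp.exists_card_eq
      rcases Nat.eq_zero_or_pos k with rfl | hk0
      · rw [hk, pow_zero] at hT1; omega
      · exact hk ▸ dvd_pow_self p hk0.ne'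
    have hG : ¬ p ∣ Nat.card G := fun h => hp.not_dvd_one
      (hcop ▸ Nat.dvd_gcd h (hpT.trans (Subgroup.card_subgroup_dvd_card T)))
    have hGN : ¬ p ∣ Nat.card N := fun h => hG (h.trans (Subgroup.card_subgroup_dvd_card N))
    let φT : T →* MulAut G := φ.comp T.subtype
    let φN := resHom φ N hNS
    let φNT : T →* MulAut N := φN.comp T.subtype
    let C : Subgroup G :=
      { carrier := {g | ∀ t : T, φT t g = g}
        one_mem' := fun t => map_one _
        mul_mem' := fun {a b} ha hb t => by rw [map_mul, ha t, hb t]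
        inv_mem' := fun {a} ha t => by rw [map_inv, ha t] }
    have hC : ∀ g, g ∈ C ↔ ∀ t, φT t g = g := fun g => Iff.rfl
    have hCS : ∀ s, ∀ c ∈ C, φ s c ∈ C := by
      intro s c hc t
      show φ (t : S) (φ s c) = φ s c
      have hmem : s⁻¹ * (t : S) * s⁻¹⁻¹ ∈ T := hTn.conj_mem _ t.2 s⁻¹
      rw [inv_inv] at hmem
      have h2 : φ (s⁻¹ * (t : S) * s) c = c := hc ⟨_, hmem⟩
      conv_rhs => rw [← h2]
      rw [← MulAut.mul_apply, ← MulAut.mul_apply, ← map_mul, ← map_mul]
      congr 2
      group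
    let E : Subgroup N := C.subgroupOf N
    have hE : ∀ x, x ∈ E ↔ ∀ t, φNT t x = x := fun x =>
      ⟨fun h t => Subtype.ext (h t), fun h t => congrArg Subtype.val (h t)⟩
    have hES : ∀ s, ∀ x ∈ E, φN s x ∈ E := fun s x hx => hCS s (x : G) hx
    let φC := resHom φ C hCS
    let D : Subgroup C := N.subgroupOf C
    haveI : D.Normal := Subgroup.normal_subgroupOf
    have hDS : ∀ s, ∀ x ∈ D, φC s x ∈ D := fun s x hx => hNS s (x : G) hx
    let e : D ≃* E :=
      { toFun := fun x => ⟨⟨((x : C) : G), x.2⟩, (x : C).2⟩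
        invFun := fun x => ⟨⟨((x : N) : G), x.2⟩, (x : N).2⟩
        left_inv := fun x => rfl
        right_inv := fun x => rfl
        map_mul' := fun x y => rfl }
    -- the correspondent of `θ`
    have hθT : Inv φNT (θ : N → ℂ) := fun t x => hθ (t : S) x
    let θ' := glauberman hTp hGN hE ⟨θ, hθT⟩
    have hθ'spec : ¬ p ∣ mult E θ θ' := glauberman_spec hTp hGN hE ⟨θ, hθT⟩
    have hθ'inv : Inv (resHom φN E hES) (θ' : E → ℂ) := by
      intro s x
      have h1 : irrCongr (resHom φN E hES s) θ' = θ' :=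
        glauberman_unique hTp hGN hE ⟨θ, hθT⟩ (by
          show ¬ p ∣ mult E θ _
          have h2 := mult_irrCongr φN E hES s θ θ'
          rw [irrCongr_eq_of_inv hθ] at h2
          rw [h2]
          exact hθ'spec)
      exact congrArg (fun β : IrrCharacter E => (β : E → ℂ) x) h1
    let θD : IrrCharacter D := irrCongr e θ'
    have hker : T ≤ φC.ker := fun t ht => MonoidHom.mem_ker.2 (MulEquiv.ext fun c =>
      Subtype.ext (show φ t (c : G) = c from c.2 ⟨t, ht⟩))
    let ψ' : S ⧸ T →* MulAut C := QuotientGroup.lift T φC hker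
    have hDS' : ∀ q, ∀ x ∈ D, ψ' q x ∈ D := fun q x hx => by
      obtain ⟨s, rfl⟩ := QuotientGroup.mk_surjective q
      exact hDS s x hx
    have hθD : Inv (resHom ψ' D hDS') (θD : D → ℂ) := fun q x => by
      obtain ⟨s, rfl⟩ := QuotientGroup.mk_surjective q
      exact hθ'inv s (e x)
    have hlt : Nat.card (S ⧸ T) < n := by
      have := Subgroup.card_eq_card_quotient_mul_card_subgroup T
      rw [← hn, this]
      exact lt_mul_of_one_lt_right Nat.card_pos hT1
    haveI := hsolv
    obtain ⟨β, hβ, hβinv⟩ := ih _ hlt ψ' D hDS' rfl inferInstance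
      ((hcop.coprime_dvd_left (Subgroup.card_subgroup_dvd_card C)).coprime_dvd_right
        (Subgroup.card_quotient_dvd_card T)) θD hθD
    obtain ⟨χ, hχeq⟩ := (glauberman hTp hG hC).surjective β
    have hχspec : ¬ p ∣ mult C χ.1 β := hχeq ▸ glauberman_spec hTp hG hC χ
    refine ⟨χ.1, ?_, ?_⟩
    · -- compare the two ways of restricting to the fixed points of `N`
      let F : IrrCharacter N → ℕ := fun η => mult N χ.1 η * mult E η θ'
      have hnat : ∀ γ : IrrCharacter C,
          classInner (fun x : E => (γ : C → ℂ) (e.symm x : C)) (θ' : E → ℂ) = (mult D γ θD : ℂ) := by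
        intro γ
        rw [← classInner_eq_mult, ← classInner_comp_equiv e]
        rfl
      have h1 : ((∑ η, F η : ℕ) : ℂ) = ((∑ γ, mult C χ.1 γ * mult D γ θD : ℕ) : ℂ) := by
        push_cast
        simp only [F, Nat.cast_mul, ← hnat, ← classInner_eq_mult E]
        simp only [← classInner_smul_left, ← classInner_sum_left]
        congr 1
        funext x
        simp only [Finset.sum_apply, Pi.smul_apply, smul_eq_mul]
        exact (res_apply_eq_sum N χ.1 (x : N)).symm.trans (res_apply_eq_sum C χ.1 ⟨_, x.2⟩)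
      letI := irrAction φNT
      have h2 : Cong p (∑ η, (if η = θ then 0 else (F η : ℂ))) 0 := by
        refine cong_sum_zero_of_fixed hTp _ (fun η => ?_) (fun t η => ?_) (fun η hη => ?_)
        · split_ifs
          · exact isIntegral_zero
          · exact isIntegral_nat _
        · have hfix : irrCongr (φNT t⁻¹) θ = θ := irrCongr_eq_of_inv hθT t⁻¹
          have hiff : irrCongr (φNT t⁻¹) η = θ ↔ η = θ := by
            constructor
            · intro h; rw [← hfix] at h; exact (irrCongr (φNT t⁻¹)).injective h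
            · rintro rfl; exact hfix
          have hF : F (irrCongr (φNT t⁻¹) η) = F η := by
            have hm1 : mult N χ.1 (irrCongr (φNT t⁻¹) η) = mult N χ.1 η := by
              have h := mult_irrCongr φ N hNS ((t⁻¹ : T) : S) χ.1 η
              rw [show irrCongr (φ ((t⁻¹ : T) : S)) χ.1 = χ.1 from irrCongr_eq_of_inv χ.2 t⁻¹] at h
              exact h
            have hm2 : mult E (irrCongr (φNT t⁻¹) η) θ' = mult E η θ' := by
              refine mult_eq_of_classInner E ?_
              rw [← classInner_eq_mult]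
              congr 1
              funext x
              show (η : N → ℂ) (φNT t⁻¹ (x : N)) = (η : N → ℂ) x
              rw [(hE _).1 x.2]
            simp only [F, hm1, hm2]
          show (if irrCongr (φNT t⁻¹) η = θ then 0 else (F (irrCongr (φNT t⁻¹) η) : ℂ)) = _
          simp only [hiff, hF]
        · split_ifs with h
          · exact Cong.refl 0
          · have hinvη : Inv φNT (η : N → ℂ) := fun t x => by
              have h' : ((t⁻¹ • η : IrrCharacter N) : N → ℂ) x = (η : N → ℂ) x :=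
                congrArg (fun z : IrrCharacter N => (z : N → ℂ) x) (hη t⁻¹)
              rw [← h']
              show _ = (η : N → ℂ) (φNT t⁻¹⁻¹ x)
              rw [inv_inv]
            have hd : p ∣ mult E η θ' := by
              by_contra hd
              exact h (mult_injective hTp hGN hE hinvη hθT hd hθ'spec)
            simpa using cong_natCast_mul_zero (p := p) (n := F η) (c := (1 : ℂ))
              (dvd_mul_of_dvd_right hd _) isIntegral_one
      have h3 : ∑ η, (if η = θ then 0 else (F η : ℂ)) =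
          ((∑ η, (if η = θ then 0 else F η) : ℕ) : ℂ) := by
        push_cast; rfl
      rw [h3] at h2
      have h4 := Cong.zmod_eq_nat (p := p) (m := ∑ η, (if η = θ then 0 else F η)) (n := 0) (by rw [Nat.cast_zero]; exact h2)
      have h5 : ∑ η, F η = F θ + ∑ η, (if η = θ then 0 else F η) := by
        rw [← Finset.add_sum_erase _ _ (Finset.mem_univ θ), Finset.sum_ite, Finset.sum_const_zero,
          zero_add]
        congr 1
        exact Finset.sum_congr (by ext; simp) fun _ _ => rfl
      have h6 : ∑ η, F η = ∑ γ, mult C χ.1 γ * mult D γ θD := Nat.cast_injective h1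
      have h7 : (F θ : ZMod p) = (mult C χ.1 β : ZMod p) * (mult D β θD : ZMod p) := by
        have := congrArg (fun m : ℕ => (m : ZMod p)) (h5.symm.trans h6)
        rw [Nat.cast_add, h4, Nat.cast_zero, add_zero, Nat.cast_sum] at this
        simp only [Nat.cast_mul] at this
        rw [this, sum_mult_eq_single hTp hG hC χ.2 hχspec]
      intro h0
      have hpd : ¬ p ∣ mult D β θD := fun hd => hG (((hd.trans (mult_dvd_degree D hβ)).trans
        (irr_degree_dvd_card β)).trans (Subgroup.card_subgroup_dvd_card C))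
      simp only [F, h0, zero_mul, Nat.cast_zero] at h7
      rw [← ZMod.natCast_eq_zero_iff] at hχspec hpd
      exact mul_ne_zero hχspec hpd h7.symm
    · intro s g
      have hinv : Inv φT ((irrCongr (φ s) χ.1 : IrrCharacter G) : G → ℂ) := by
        intro t x
        show (χ.1 : G → ℂ) (φ s (φ (t : S) x)) = (χ.1 : G → ℂ) (φ s x)
        have hmem : s * (t : S) * s⁻¹ ∈ T := hTn.conj_mem _ t.2 s
        rw [← χ.2 ⟨_, hmem⟩ (φ s x)]
        refine congrArg (χ.1 : G → ℂ) ?_
        show φ s (φ (t : S) x) = φ (s * (t : S) * s⁻¹) (φ s x)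
        rw [← MulAut.mul_apply, ← MulAut.mul_apply, ← map_mul, ← map_mul]
        congr 2
        group
      have hfix : irrCongr (φC s) β = β :=
        Subtype.ext (funext fun c => hβinv (QuotientGroup.mk s) c)
      have h1 : irrCongr (φ s) χ.1 = χ.1 := by
        refine mult_injective hTp hG hC hinv χ.2 (β := β) ?_ hχspec
        have h2 := mult_irrCongr φ C hCS s χ.1 β
        rw [hfix] at h2
        rw [h2]
        exact hχspec
      exact congrArg (fun χ' : IrrCharacter G => (χ' : G → ℂ) g) h1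

end H12.InvConst
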