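import Cfsg.Prelude.Def_Blocks
import Cfsg.Agent.H12.InvConstituents
import Cfsg.Agent.H13.Gallagher
import Cfsg.Agent.H14.GallagherExt
import Cfsg.Agent.H15.Extension

/-!
Characters of degree coprime to the index of a normal Hall subgroup, and fixed classes.
-/

set_option autoImplicit false
set_option linter.unusedSectionVars false

open Cfsg MulAction
open scoped ComplexConjugate

namespace H12.CoprimeCount

open H12.Glauberman H12.InvConst

universe u v

theorem card_fixCl_eq_aux (n : ℕ) :
    ∀ {G : Type u} {S : Type v} [Group G] [Fintype G] [Group S] [Finite S] (φ : S →* MulAut G)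
      (F : Subgroup G), Nat.card S = n → Group.IsSolvable S →
      (Nat.card G).Coprime (Nat.card S) → (∀ g, g ∈ F ↔ ∀ s, φ s g = g) →
      Nat.card {K : ConjClasses G // FixCl φ K} = Nat.card (ConjClasses F) := by
  induction n using Nat.strong_induction_on with
  | _ n ih =>
    intro G S _ _ _ _ φ F hn hsolv hcop hF
    classical
    rcases subsingleton_or_nontrivial S with hS1 | hS1
    · have h1 : ∀ s g, φ s g = g := fun s g => by rw [Subsingleton.elim s 1, map_one]; rfl
      have htop : F = ⊤ := (Subgroup.eq_top_iff' _).2 fun g => (hF g).2 fun s => h1 s g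
      subst htop
      rw [Nat.card_congr (Equiv.subtypeUnivEquiv fun K : ConjClasses G =>
          (show FixCl φ K from fun s g hg => by rw [h1, hg])), ← card_irrCharacter,
        ← card_irrCharacter]
      exact Nat.card_congr (irrCongr Subgroup.topEquiv)
    obtain ⟨p, T, hp, hTn, hTb, -, -, hTp⟩ := H34.exists_normal_elementary hsolv
    haveI := Fact.mk hp
    have hT1 : 1 < Nat.card T := by
      rcases Nat.lt_or_ge 1 (Nat.card T) with h | h
      · exact h
      · exact absurd (Subgroup.card_eq_one.1 (le_antisymm h Nat.card_pos)) hTb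
    have hpT : p ∣ Nat.card T := by
      obtain ⟨k, hk⟩ := hTp.exists_card_eq
      rcases Nat.eq_zero_or_pos k with rfl | hk0
      · rw [hk, pow_zero] at hT1; omega
      · exact hk ▸ dvd_pow_self p hk0.ne'
    have hG : ¬ p ∣ Nat.card G := fun h => hp.not_dvd_one
      (hcop ▸ Nat.dvd_gcd h (hpT.trans (Subgroup.card_subgroup_dvd_card T)))
    let φT : T →* MulAut G := φ.comp T.subtype
    let C : Subgroup G :=
      { carrier := {g | ∀ t : T, φT t g = g}
        one_mem' := fun t => map_one _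
        mul_mem' := fun {a b} ha hb t => by rw [map_mul, ha t, hb t]
        inv_mem' := fun {a} ha t => by rw [map_inv, ha t] }
    have hC : ∀ g, g ∈ C ↔ ∀ t, φT t g = g := fun g => Iff.rfl
    have hCS : ∀ s, ∀ c ∈ C, φ s c ∈ C := by
      intro s c hc t
      show φ (t : S) (φ s c) = φ s c
      have hmem : s⁻¹ * (t : S) * s⁻¹⁻¹ ∈ T := hTn.conj_mem _ t.2 s⁻¹
      rw [inv_inv] at hmem
      have h2 : φ (s⁻¹ * (t : S) * s) c = c := hc ⟨_, hmem⟩
      conv_rhs => rw [← h2]
      rw [← MulAut.mul_apply, ← MulAut.mul_apply, ← map_mul, ← map_mul]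
      congr 2
      group
    let φC := resHom φ C hCS
    have hker : T ≤ φC.ker := fun t ht => MonoidHom.mem_ker.2 (MulEquiv.ext fun c =>
      Subtype.ext (show φ t (c : G) = c from c.2 ⟨t, ht⟩))
    let ψ : S ⧸ T →* MulAut C := QuotientGroup.lift T φC hker
    have hFC : F ≤ C := fun g hg t => (hF g).1 hg (t : S)
    have hF' : ∀ c, c ∈ F.subgroupOf C ↔ ∀ q, ψ q c = c := by
      intro c
      constructor
      · intro h q
        obtain ⟨s, rfl⟩ := QuotientGroup.mk_surjective q
        exact Subtype.ext ((hF _).1 h s)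
      · intro h
        exact (hF _).2 fun s => congrArg Subtype.val (h (QuotientGroup.mk s))
    let k := classEquiv hTp hG hC
    have hkeq : ∀ L : ConjClasses C, FixCl φ (k L : ConjClasses G) ↔ FixCl ψ L := by
      intro L
      obtain ⟨c, rfl⟩ := ConjClasses.mk_surjective L
      constructor
      · intro h q d hd
        obtain ⟨s, rfl⟩ := QuotientGroup.mk_surjective q
        have h1 := h s (d : G) (congrArg (fun L => (k L : ConjClasses G)) hd)
        rw [ConjClasses.mk_eq_mk_iff_isConj]
        exact isConj_of_isConj_coe hTp hG hC (ConjClasses.mk_eq_mk_iff_isConj.1 h1)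
      · intro h s g hg
        have h1 : IsConj g (c : G) := ConjClasses.mk_eq_mk_iff_isConj.1 hg
        have h2 : IsConj (φ s (c : G)) (c : G) :=
          (C.subtype).map_isConj (ConjClasses.mk_eq_mk_iff_isConj.1 (h (QuotientGroup.mk s) c rfl))
        exact ConjClasses.mk_eq_mk_iff_isConj.2 (((φ s).toMonoidHom.map_isConj h1).trans h2)
    have hlt : Nat.card (S ⧸ T) < n := by
      have := Subgroup.card_eq_card_quotient_mul_card_subgroup T
      rw [← hn, this]
      exact lt_mul_of_one_lt_right Nat.card_pos hT1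
    have hcop' : (Nat.card C).Coprime (Nat.card (S ⧸ T)) :=
      (hcop.coprime_dvd_left (Subgroup.card_subgroup_dvd_card C)).coprime_dvd_right
        (Subgroup.card_quotient_dvd_card T)
    haveI := hsolv
    calc Nat.card {K : ConjClasses G // FixCl φ K}
        = Nat.card {K : {K : ConjClasses G // FixCl φT K} // FixCl φ K.1} :=
          Nat.card_congr (Equiv.subtypeSubtypeEquivSubtype
            (p := fun K : ConjClasses G => FixCl φT K) (q := fun K : ConjClasses G => FixCl φ K)
            (fun {K} h t g hg => h (t : S) g hg)).symm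
      _ = Nat.card {L : ConjClasses C // FixCl ψ L} :=
          (Nat.card_congr (k.subtypeEquiv fun L => (hkeq L).symm)).symm
      _ = Nat.card (ConjClasses (F.subgroupOf C)) := ih _ hlt ψ _ rfl inferInstance hcop' hF'
      _ = Nat.card (ConjClasses F) := by
          rw [← card_irrCharacter, ← card_irrCharacter]
          exact Nat.card_congr (irrSubgroupOf hFC).symm

/-- For a solvable coprime operator group, invariant characters match the characters of the fixed
subgroup. -/
theorem card_inv_eq_card_irr_fixed {G : Type u} {S : Type v} [Group G] [Fintype G] [Group S]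
    [Finite S] (φ : S →* MulAut G) (F : Subgroup G) (hsolv : Group.IsSolvable S)
    (hcop : (Nat.card G).Coprime (Nat.card S)) (hF : ∀ g, g ∈ F ↔ ∀ s, φ s g = g) :
    Nat.card {χ : IrrCharacter G // Inv φ (χ : G → ℂ)} = Nat.card (IrrCharacter F) := by
  classical
  rw [card_inv_eq_card_fixCl φ hsolv hcop, card_fixCl_eq_aux _ φ F rfl hsolv hcop hF,
    card_irrCharacter]

theorem detOrder_dvd_card {G : Type u} [Group G] [Finite G] {χ : G → ℂ}
    (hχ : IsIrrCharacter G χ) : detOrder χ ∣ Nat.card G := by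
  obtain ⟨f, hf⟩ := H14.detChar_hom hχ
  rw [detOrder, hf, H14.orderOf_coe_hom]
  exact orderOf_dvd_of_pow_eq_one (MonoidHom.ext fun g => by
    rw [MonoidHom.pow_apply, ← map_pow, pow_card_eq_one', map_one, MonoidHom.one_apply])

theorem charDegree_eq_degree {G : Type u} [Group G] (χ : G → ℂ) : charDegree χ = degree χ := rfl

/-- The characters of degree prime to the index of a normal Hall subgroup. -/
theorem card_coprime_degree {G : Type u} [Group G] [Fintype G] (K : Subgroup G) [hK : K.Normal]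
    (hcop : (Nat.card K).Coprime K.index) :
    Nat.card {χ : IrrCharacter G // (charDegree (χ : G → ℂ)).Coprime K.index} =
      Nat.card {θ : IrrCharacter K // ∀ g : G, H13.twist K g (θ : K → ℂ) = (θ : K → ℂ)} *
        Nat.card (G ⧸ K →* ℂˣ) := by
  classical
  have : Fintype (G ⧸ K) := Fintype.ofFinite _
  have hext : ∀ θ : {θ : IrrCharacter K // ∀ g : G, H13.twist K g (θ : K → ℂ) = (θ : K → ℂ)},
      ∃ η : IrrCharacter G, ∀ k : K, (η : G → ℂ) k = (θ.1 : K → ℂ) k := by
    intro θ
    obtain ⟨η, ⟨hη, hres, -⟩, -⟩ := H14.exists_canonical_extension K (θ.1 : K → ℂ) θ.1.2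
      (fun g n => congrFun (θ.2 g) n) (degree (θ.1 : K → ℂ)) (irr_apply_one θ.1)
      ((Nat.Coprime.mul_left (hcop.coprime_dvd_left (detOrder_dvd_card θ.1.2))
        (hcop.coprime_dvd_left (irr_degree_dvd_card θ.1))).symm)
    exact ⟨⟨η, hη⟩, hres⟩
  choose η hη using hext
  have hres : ∀ θ, IsIrrCharacter K (fun k : K => (η θ : G → ℂ) k) := fun θ => by
    rw [show (fun k : K => (η θ : G → ℂ) k) = (θ.1 : K → ℂ) from funext (hη θ)]
    exact θ.1.2
  have hdeg : ∀ θ (f : G ⧸ K →* ℂˣ),
      (charDegree ((mulHom (f.comp (QuotientGroup.mk' K)) (η θ) : IrrCharacter G) : G → ℂ)).Coprime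
        K.index := by
    intro θ f
    have h1 : charDegree ((mulHom (f.comp (QuotientGroup.mk' K)) (η θ) : IrrCharacter G) : G → ℂ) =
        degree (θ.1 : K → ℂ) := by
      rw [charDegree_eq_degree]
      unfold degree
      rw [mulHom_apply, map_one, Units.val_one, one_mul,
        show (η θ : G → ℂ) 1 = (η θ : G → ℂ) ((1 : K) : G) from rfl, hη]
    rw [h1]
    exact hcop.coprime_dvd_left (irr_degree_dvd_card θ.1)
  let F : {θ : IrrCharacter K // ∀ g : G, H13.twist K g (θ : K → ℂ) = (θ : K → ℂ)} ×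
      (G ⧸ K →* ℂˣ) → {χ : IrrCharacter G // (charDegree (χ : G → ℂ)).Coprime K.index} :=
    fun x => ⟨mulHom (x.2.comp (QuotientGroup.mk' K)) (η x.1), hdeg x.1 x.2⟩
  rw [← Nat.card_prod]
  refine (Nat.card_congr (Equiv.ofBijective F ⟨?_, ?_⟩)).symm
  · rintro ⟨θ, f⟩ ⟨θ', f'⟩ h
    have h0 : ∀ g : G, (f (g : G ⧸ K) : ℂ) * (η θ : G → ℂ) g =
        (f' (g : G ⧸ K) : ℂ) * (η θ' : G → ℂ) g := fun g =>
      congrArg (fun x : {χ : IrrCharacter G // (charDegree (χ : G → ℂ)).Coprime K.index} =>
        (x.1 : G → ℂ) g) h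
    have hθ : θ = θ' := by
      apply Subtype.ext
      apply Subtype.ext
      funext k
      have := h0 k
      rwa [(QuotientGroup.eq_one_iff (k : G)).2 k.2, map_one, map_one, Units.val_one, one_mul,
        one_mul, hη, hη] at this
    subst hθ
    have h1 : linIrr f = linIrr f' :=
      H13.gallagher_injective K (isCharacter_irr (η θ)) (hres θ) (funext h0)
    rw [linIrr_injective h1]
  · rintro ⟨χ, hχ⟩
    obtain ⟨θ, hm⟩ := exists_mult_ne_zero K χ
    have hne := (mult_ne_zero_iff K χ θ).1 hm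
    let φ : G →* MulAut K := MulAut.conjNormal
    letI := irrAction φ
    have htw : ∀ (g : G) (ψ : IrrCharacter K),
        H13.twist K g (ψ : K → ℂ) = ((g⁻¹ • ψ : IrrCharacter K) : K → ℂ) := fun g ψ => funext fun n => by
      show _ = (ψ : K → ℂ) (φ g⁻¹⁻¹ n)
      rw [inv_inv]
      exact congrArg (ψ : K → ℂ) (Subtype.ext (MulAut.conjNormal_apply g n).symm)
    let s : Finset (IrrCharacter K) := (orbit G θ).toFinset
    have hs : ∀ ψ, ψ ∈ s ↔ ∃ x, H13.twist K x (θ : K → ℂ) = ψ := by
      intro ψ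
      simp only [s, Set.mem_toFinset, mem_orbit_iff]
      constructor
      · rintro ⟨g, rfl⟩
        exact ⟨g⁻¹, by rw [htw, inv_inv]⟩
      · rintro ⟨x, hx⟩
        exact ⟨x⁻¹, Subtype.ext (by rw [← htw]; exact hx)⟩
    have hres' := H13.clifford_res K χ.2 θ.2 hne s hs
    have hsdvd : s.card ∣ K.index := by
      have h1 : s.card = (stabilizer G θ).index := by
        rw [index_stabilizer, Set.ncard_eq_toFinset_card']
      rw [h1]
      refine Subgroup.index_dvd_of_le fun k hk => ?_
      rw [mem_stabilizer_iff]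
      refine Subtype.ext (funext fun n => ?_)
      show (θ : K → ℂ) (φ k⁻¹ n) = (θ : K → ℂ) n
      rw [show φ k⁻¹ n = ⟨k⁻¹, inv_mem hk⟩ * n * (⟨k⁻¹, inv_mem hk⟩ : K)⁻¹ from
        Subtype.ext (MulAut.conjNormal_apply k⁻¹ n)]
      exact irr_isClassFunction θ n _
    have hdeg1 : degree (χ : G → ℂ) = mult K χ θ * ∑ ψ ∈ s, degree (ψ : K → ℂ) := by
      have h1 := congrFun hres' 1
      rw [classInner_eq_mult] at h1
      simp only [OneMemClass.coe_one, Pi.smul_apply, Finset.sum_apply, irr_apply_one,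
        smul_eq_mul] at h1
      exact_mod_cast h1
    have hsame : ∀ ψ ∈ s, degree (ψ : K → ℂ) = degree (θ : K → ℂ) := by
      intro ψ hψ
      obtain ⟨x, hx⟩ := (hs ψ).1 hψ
      rw [← hx, htw]
      show ⌊((θ : K → ℂ) (φ x⁻¹⁻¹ 1)).re⌋₊ = _
      rw [map_one]; rfl
    rw [Finset.sum_congr rfl hsame, Finset.sum_const, smul_eq_mul] at hdeg1
    have hc : ∀ d, d ∣ degree (χ : G → ℂ) → d ∣ K.index → d = 1 := fun d h1 h2 =>
      Nat.eq_one_of_dvd_coprimes hχ h1 h2
    have hs1 : s.card = 1 := hc _ (hdeg1 ▸ (dvd_mul_right _ _).mul_left _) hsdvd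
    obtain ⟨θ', hθ'⟩ := Finset.card_eq_one.1 hs1
    have hfix : ∀ g, H13.twist K g (θ : K → ℂ) = (θ : K → ℂ) := by
      intro g
      have hmem : θ ∈ s := (hs θ).2 ⟨1, H13.twist_one K _⟩
      have hmem' : (g⁻¹ • θ : IrrCharacter K) ∈ s := (hs _).2 ⟨g, htw g θ⟩
      rw [hθ', Finset.mem_singleton] at hmem hmem'
      rw [htw, hmem', ← hmem]
    have hsθ : s = {θ} := by
      rw [hθ']
      have hmem : θ ∈ s := (hs θ).2 ⟨1, H13.twist_one K _⟩
      rw [hθ', Finset.mem_singleton] at hmem
      rw [hmem]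
    have hres'' : (fun n : K => (χ : G → ℂ) n) = (mult K χ θ : ℂ) • (θ : K → ℂ) := by
      rw [hres', classInner_eq_mult, hsθ, Finset.sum_singleton]
    have he : mult K χ θ = 1 := hc _ (hdeg1 ▸ dvd_mul_right _ _)
      (H15.ramification_dvd_index χ.2 θ.2 hfix _ hm hres'')
    let θi : {θ : IrrCharacter K // ∀ g : G, H13.twist K g (θ : K → ℂ) = (θ : K → ℂ)} := ⟨θ, hfix⟩
    obtain ⟨β, hβ⟩ := H13.gallagher_exists K (isCharacter_irr (η θi)) (hres θi) χ.2 (by
      rw [show (fun n : K => (η θi : G → ℂ) n) = (θ : K → ℂ) from funext (hη θi)]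
      exact hne)
    have hβ1 : (β : G ⧸ K → ℂ) 1 = 1 := by
      have h1 := congrFun hβ 1
      rw [Pi.mul_apply, H13.inflateIrr_apply, QuotientGroup.mk_one,
        show (η θi : G → ℂ) 1 = (η θi : G → ℂ) ((1 : K) : G) from rfl, hη] at h1
      have h2 := congrFun hres'' 1
      rw [he] at h2
      simp only [OneMemClass.coe_one, Pi.smul_apply, Nat.cast_one, one_smul] at h2
      rw [h2] at h1
      exact (mul_eq_right₀ (irr_apply_one_ne_zero θ)).1 h1.symm
    obtain ⟨f, hf⟩ := exists_monoidHom_of_apply_one_eq_one (isCharacter_irr β) hβ1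
    refine ⟨(θi, f), Subtype.ext (Subtype.ext (funext fun g => ?_))⟩
    show (f (g : G ⧸ K) : ℂ) * (η θi : G → ℂ) g = (χ : G → ℂ) g
    rw [hβ, Pi.mul_apply, H13.inflateIrr_apply, ← hf]

end H12.CoprimeCount
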