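import Cfsg.Agent.H12.Basic
import Cfsg.Agent.H17.RepMat
import Cfsg.Agent.H13.AbelianDegree

/-!
The theorem of Frobenius and Blichfeldt on abelian subgroups of finite linear groups.
-/

set_option autoImplicit false
set_option linter.unusedSectionVars false

open Module
open scoped ComplexConjugate InnerProductSpace

namespace H12.Blichfeldt

universe u

section Unitary

variable {G : Type u} [Group G] [Finite G]
variable {E : Type} [NormedAddCommGroup E] [InnerProductSpace ℂ E] [FiniteDimensional ℂ E]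
variable (R : G →* (E →L[ℂ] E))

/-- The operators preserve the norm. -/
def IsIso : Prop := ∀ g v, ‖R g v‖ = ‖v‖

variable {R}

theorem mul_app (S T : E →L[ℂ] E) (v : E) : (S * T) v = S (T v) := rfl

theorem apply_inv_apply (g : G) (v : E) : R g (R g⁻¹ v) = v := by
  rw [← mul_app, ← map_mul, mul_inv_cancel, map_one,
    ContinuousLinearMap.one_apply]

theorem inner_map (hR : IsIso R) (g : G) (u v : E) : ⟪R g u, R g v⟫_ℂ = ⟪u, v⟫_ℂ :=
  ({ toLinearMap := (R g).toLinearMap, norm_map' := hR g } : E →ₗᵢ[ℂ] E).inner_map_map u v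

theorem norm_apply_mul_le (hR : IsIso R) (g : G) (T : E →L[ℂ] E) : ‖R g * T‖ ≤ ‖T‖ := by
  refine ContinuousLinearMap.opNorm_le_bound _ (norm_nonneg _) fun v => ?_
  rw [mul_app, hR]
  exact T.le_opNorm v

theorem norm_mul_apply_le (hR : IsIso R) (g : G) (T : E →L[ℂ] E) : ‖T * R g‖ ≤ ‖T‖ := by
  refine ContinuousLinearMap.opNorm_le_bound _ (norm_nonneg _) fun v => ?_
  rw [mul_app, ← hR g v]
  exact T.le_opNorm (R g v)

/-- The commutator estimate. -/
theorem norm_commutator_le (hR : IsIso R) (x y : G) (a b : ℂ) :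
    ‖R (x * y * x⁻¹ * y⁻¹) - 1‖ ≤ 2 * ‖R x - a • 1‖ * ‖R y - b • 1‖ := by
  have h1 : R (x * y * x⁻¹ * y⁻¹) - 1 = (R (x * y) - R (y * x)) * R (x⁻¹ * y⁻¹) := by
    rw [sub_mul, ← map_mul, ← map_mul, show y * x * (x⁻¹ * y⁻¹) = 1 by group, map_one,
      show x * y * (x⁻¹ * y⁻¹) = x * y * x⁻¹ * y⁻¹ by group]
  have h2 : R (x * y) - R (y * x) =
      (R x - a • 1) * (R y - b • 1) - (R y - b • 1) * (R x - a • 1) := by
    rw [map_mul, map_mul]
    simp only [sub_mul, mul_sub, smul_mul_assoc, mul_smul_comm, one_mul, mul_one]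
    module
  rw [h1]
  refine (norm_mul_apply_le hR _ _).trans ?_
  rw [h2]
  calc _ ≤ ‖(R x - a • 1) * (R y - b • 1)‖ + ‖(R y - b • 1) * (R x - a • 1)‖ := norm_sub_le _ _
    _ ≤ ‖R x - a • 1‖ * ‖R y - b • 1‖ + ‖R y - b • 1‖ * ‖R x - a • 1‖ :=
        add_le_add (norm_mul_le _ _) (norm_mul_le _ _)
    _ = _ := by ring

theorem exists_eigenvector_ne_one (hinj : Function.Injective R) {T : G} (hT : T ≠ 1) :
    ∃ (ν : ℂ) (v : E), ν ≠ 1 ∧ v ≠ 0 ∧ R T v = ν • v := by
  have hpow : ((R T).toLinearMap : Module.End ℂ E) ^ orderOf T = 1 := by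
    rw [← ContinuousLinearMap.toLinearMap_pow, ← map_pow, pow_orderOf_eq_one, map_one]
    rfl
  obtain ⟨b, μ, hb⟩ := exists_eigenbasis (orderOf_pos T).ne' hpow
  by_contra hcon
  push Not at hcon
  apply hT
  apply hinj
  rw [map_one]
  refine ContinuousLinearMap.coe_injective (b.ext fun i => ?_)
  by_cases hμ : μ i = 1
  · have h := (hb i).1
    rw [hμ, one_smul] at h
    exact h
  · exact absurd (hb i).1 (hcon (μ i) (b i) hμ (b.ne_zero i))

theorem norm_eigenvalue (hR : IsIso R) {g : G} {a : ℂ} {v : E} (hv : v ≠ 0) (h : R g v = a • v) :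
    ‖a‖ = 1 := by
  have h1 := congrArg norm h
  rw [hR, norm_smul] at h1
  exact (mul_eq_right₀ (norm_ne_zero_iff.2 hv)).1 h1.symm

theorem inner_eq_zero_of_eigen (hR : IsIso R) {g : G} {a b : ℂ} {u v : E} (hu : R g u = a • u)
    (hv : R g v = b • v) (hab : a ≠ b) : ⟪u, v⟫_ℂ = 0 := by
  by_cases hu0 : u = 0
  · rw [hu0, inner_zero_left]
  have h := inner_map hR g u v
  rw [hu, hv, inner_smul_left, inner_smul_right, ← mul_assoc] at h
  by_contra hne
  have h1 : conj a * b = 1 := (mul_eq_right₀ hne).1 h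
  have ha := norm_eigenvalue hR hu0 hu
  have h2 : conj a * a = 1 := by
    rw [Complex.conj_mul', ha]; norm_num
  have h3 : conj a * b = conj a * a := h1.trans h2.symm
  exact hab (mul_left_cancel₀ (fun h0 => by rw [h0, zero_mul] at h2; exact zero_ne_one h2) h3).symm

/-- An element commuting with a commutator near to a scalar commutes outright. -/
theorem commute_of_commute_commutator (hR : IsIso R) (hinj : Function.Injective R) (x z : G)
    (hc : Commute x (x * z * x⁻¹ * z⁻¹)) (b : ℂ) (hb : ‖R z - b • 1‖ < ‖b‖) : Commute x z := by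
  have hc1 : Commute x (z * x⁻¹ * z⁻¹) := by
    have := ((Commute.refl x).inv_right).mul_right hc
    rwa [show x⁻¹ * (x * z * x⁻¹ * z⁻¹) = z * x⁻¹ * z⁻¹ by group] at this
  have hc2 : Commute x (z * x * z⁻¹) := by
    have := hc1.inv_right
    rwa [show (z * x⁻¹ * z⁻¹)⁻¹ = z * x * z⁻¹ by group] at this
  set T := x⁻¹ * (z * x * z⁻¹) with hT
  by_cases hT1 : T = 1
  · rw [hT, inv_mul_eq_one] at hT1
    have h : x * z = z * x := by
      calc x * z = z * x * z⁻¹ * z := by rw [← hT1]
        _ = z * x := by group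
    exact h
  exfalso
  have hTx : Commute x T := ((Commute.refl x).inv_right).mul_right hc2
  obtain ⟨ν, v₀, hν, hv₀, hTv₀⟩ := exists_eigenvector_ne_one hinj hT1
  let W : Submodule ℂ E := Module.End.eigenspace ((R T).toLinearMap : Module.End ℂ E) ν
  have hW : ∀ w, w ∈ W ↔ R T w = ν • w := fun w => Module.End.mem_eigenspace_iff
  have hmaps : ∀ w ∈ W, ((R x).toLinearMap : Module.End ℂ E) w ∈ W := fun w hw => by
    show R x w ∈ W
    rw [hW, ← mul_app, ← map_mul, ← hTx.eq, map_mul,
      mul_app, (hW w).1 hw, map_smul]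
  haveI : Nontrivial W := Submodule.nontrivial_iff_ne_bot.2 fun h => hv₀ (by
    have h0 : v₀ ∈ W := (hW v₀).2 hTv₀
    rw [h, Submodule.mem_bot] at h0
    exact h0)
  obtain ⟨a, ha⟩ := Module.End.exists_eigenvalue (K := ℂ)
    (((R x).toLinearMap : Module.End ℂ E).restrict hmaps)
  obtain ⟨⟨v, hvW⟩, hv⟩ := ha.exists_hasEigenvector
  have hv0 : v ≠ 0 := fun h => hv.2 (Subtype.ext h)
  have hxv : R x v = a • v := congrArg Subtype.val hv.apply_eq_smul
  have ha0 : a ≠ 0 := fun h => by
    have := norm_eigenvalue hR hv0 hxv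
    rw [h, norm_zero] at this
    exact zero_ne_one this
  set u := R z⁻¹ v with hu
  have hzu : R z u = v := apply_inv_apply z v
  have hxu : R x u = (a * ν) • u := by
    rw [hu, ← mul_app, ← map_mul,
      show x * z⁻¹ = z⁻¹ * (x * T) by rw [hT]; group, map_mul, map_mul,
      mul_app, mul_app, (hW v).1 hvW, map_smul,
      hxv, smul_smul, map_smul, mul_comm]
  have horth : ⟪u, v⟫_ℂ = 0 := inner_eq_zero_of_eigen hR hxu hxv fun h =>
    hν ((mul_eq_left₀ ha0).1 h)
  have hu0 : u ≠ 0 := fun h => hv0 (by rw [← hzu, h, map_zero])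
  have hupos : 0 < ‖u‖ := norm_pos_iff.2 hu0
  have h1 : ⟪u, (R z - b • 1) u⟫_ℂ = -(b * (‖u‖ : ℂ) ^ 2) := by
    rw [ContinuousLinearMap.sub_apply, ContinuousLinearMap.smul_apply,
      ContinuousLinearMap.one_apply, hzu, inner_sub_right, horth, inner_smul_right,
      inner_self_eq_norm_sq_to_K, zero_sub]
    rfl
  have h2 : ‖⟪u, (R z - b • 1) u⟫_ℂ‖ ≤ ‖u‖ * (‖R z - b • 1‖ * ‖u‖) :=
    (norm_inner_le_norm _ _).trans (mul_le_mul_of_nonneg_left
      (ContinuousLinearMap.le_opNorm _ _) (norm_nonneg _))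
  rw [h1, norm_neg, norm_mul, norm_pow, Complex.norm_real, Real.norm_eq_abs,
    abs_of_nonneg (norm_nonneg u)] at h2
  nlinarith [mul_lt_mul_of_pos_right hb (mul_pos hupos hupos)]

variable (R) in
/-- Elements near to a scalar. -/
def Near : Set G := {g | ∃ b : ℂ, 1 / 2 ≤ ‖b‖ ∧ ‖R g - b • 1‖ < 1 / 2}

theorem commute_near_one (hR : IsIso R) (hinj : Function.Injective R) {x : G} (hx : x ∈ Near R) :
    ∀ z : G, ‖R z - 1‖ < 1 / 2 → Commute x z := by
  classical
  have : Fintype G := Fintype.ofFinite G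
  obtain ⟨a, -, hxa⟩ := hx
  by_contra hcon
  push Not at hcon
  obtain ⟨z, hz1, hz2⟩ := hcon
  obtain ⟨y, hy, hmin⟩ := Finset.exists_min_image
    (Finset.univ.filter fun z => ‖R z - 1‖ < 1 / 2 ∧ ¬ Commute x z) (fun z => ‖R z - 1‖)
    ⟨z, Finset.mem_filter.2 ⟨Finset.mem_univ _, hz1, hz2⟩⟩
  obtain ⟨hy1, hy2⟩ := (Finset.mem_filter.1 hy).2
  have hy0 : 0 < ‖R y - 1‖ := by
    refine norm_pos_iff.2 (sub_ne_zero.2 fun h => hy2 ?_)
    have : y = 1 := hinj (by rw [h, map_one])
    rw [this]; exact Commute.one_right x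
  have hle := norm_commutator_le hR x y a 1
  rw [one_smul] at hle
  have hlt : ‖R (x * y * x⁻¹ * y⁻¹) - 1‖ < ‖R y - 1‖ := by
    nlinarith [mul_lt_mul_of_pos_right hxa hy0]
  have hcomm : Commute x (x * y * x⁻¹ * y⁻¹) := by
    by_contra h
    have := hmin (x * y * x⁻¹ * y⁻¹) (Finset.mem_filter.2
      ⟨Finset.mem_univ _, hlt.trans hy1, h⟩)
    linarith
  refine hy2 (commute_of_commute_commutator hR hinj x y hcomm 1 ?_)
  rw [one_smul, norm_one]
  linarith

theorem commute_of_near (hR : IsIso R) (hinj : Function.Injective R) {x y : G} (hx : x ∈ Near R)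
    (hy : y ∈ Near R) : Commute x y := by
  have hx' := hx
  obtain ⟨a, -, hxa⟩ := hx'
  obtain ⟨b, hb, hyb⟩ := hy
  have hle := norm_commutator_le hR x y a b
  have hlt : ‖R (x * y * x⁻¹ * y⁻¹) - 1‖ < 1 / 2 := by
    nlinarith [norm_nonneg (R x - a • (1 : E →L[ℂ] E)), norm_nonneg (R y - b • (1 : E →L[ℂ] E))]
  exact commute_of_commute_commutator hR hinj x y (commute_near_one hR hinj hx _ hlt) b
    (lt_of_lt_of_le hyb hb)

theorem near_conj (hR : IsIso R) {x : G} (hx : x ∈ Near R) (g : G) : g * x * g⁻¹ ∈ Near R := by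
  obtain ⟨b, hb, hxb⟩ := hx
  refine ⟨b, hb, lt_of_le_of_lt ?_ hxb⟩
  rw [show R (g * x * g⁻¹) - b • 1 = R g * (R x - b • 1) * R g⁻¹ by
    rw [mul_sub, sub_mul, mul_smul_comm, smul_mul_assoc, mul_one, ← map_mul, ← map_mul,
      ← map_mul, mul_inv_cancel, map_one]]
  exact (norm_mul_apply_le hR _ _).trans (norm_apply_mul_le hR _ _)

theorem norm_sq_sum_of_orth {ι : Type*} (s : Finset ι) (w : ι → E)
    (h : ∀ i ∈ s, ∀ k ∈ s, i ≠ k → ⟪w i, w k⟫_ℂ = 0) :
    ‖∑ i ∈ s, w i‖ ^ 2 = ∑ i ∈ s, ‖w i‖ ^ 2 := by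
  classical
  induction s using Finset.induction with
  | empty => simp
  | insert i s hi ih =>
    have h0 : ⟪w i, ∑ k ∈ s, w k⟫_ℂ = 0 := by
      rw [inner_sum]
      exact Finset.sum_eq_zero fun k hk => h i (Finset.mem_insert_self _ _) k
        (Finset.mem_insert_of_mem hk) (fun e => hi (e ▸ hk))
    rw [Finset.sum_insert hi, Finset.sum_insert hi, norm_add_sq (𝕜 := ℂ), h0, map_zero, mul_zero,
      add_zero, ih fun a ha c hc => h a (Finset.mem_insert_of_mem ha) c (Finset.mem_insert_of_mem hc)]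

/-- The operator is near a scalar when all its eigenvalues are. -/
theorem norm_sub_le_of_eigen (hR : IsIso R) (g : G) (b : ℂ) (r : ℝ) (hr : 0 ≤ r)
    (h : ∀ (a : ℂ) (v : E), v ≠ 0 → R g v = a • v → ‖a - b‖ ≤ r) : ‖R g - b • 1‖ ≤ r := by
  classical
  have hpow : ((R g).toLinearMap : Module.End ℂ E) ^ orderOf g = 1 := by
    rw [← ContinuousLinearMap.toLinearMap_pow, ← map_pow, pow_orderOf_eq_one, map_one]
    rfl
  obtain ⟨B, μ, hB⟩ := exists_eigenbasis (orderOf_pos g).ne' hpow
  have hBi : ∀ i, R g (B i) = μ i • B i := fun i => (hB i).1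
  refine ContinuousLinearMap.opNorm_le_bound _ hr fun v => ?_
  let s : Finset ℂ := Finset.univ.image μ
  let w : ℂ → E := fun a => ∑ i ∈ Finset.univ.filter (fun i => μ i = a), B.repr v i • B i
  have hw : ∀ a, R g (w a) = a • w a := fun a => by
    simp only [w, map_sum, map_smul, Finset.smul_sum]
    refine Finset.sum_congr rfl fun i hi => ?_
    rw [hBi i, (Finset.mem_filter.1 hi).2, smul_comm]
  have hv : v = ∑ a ∈ s, w a := by
    conv_lhs => rw [← B.sum_repr v]
    exact (Finset.sum_fiberwise_of_maps_to (fun i _ => Finset.mem_image_of_mem μ (Finset.mem_univ i)) _).symm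
  have horth : ∀ a ∈ s, ∀ c ∈ s, a ≠ c → ⟪w a, w c⟫_ℂ = 0 := fun a _ c _ hac =>
    inner_eq_zero_of_eigen hR (hw a) (hw c) hac
  have himage : (R g - b • 1) v = ∑ a ∈ s, (a - b) • w a := by
    rw [hv, map_sum]
    refine Finset.sum_congr rfl fun a _ => ?_
    rw [ContinuousLinearMap.sub_apply, ContinuousLinearMap.smul_apply,
      ContinuousLinearMap.one_apply, hw, sub_smul]
  have hsq : ‖(R g - b • 1) v‖ ^ 2 ≤ (r * ‖v‖) ^ 2 := by
    rw [himage, norm_sq_sum_of_orth s _ (fun a ha c hc hac => by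
        rw [inner_smul_left, inner_smul_right, horth a ha c hc hac, mul_zero, mul_zero]),
      mul_pow, hv, norm_sq_sum_of_orth s w horth, Finset.mul_sum]
    refine Finset.sum_le_sum fun a _ => ?_
    rw [norm_smul, mul_pow]
    refine mul_le_mul_of_nonneg_right ?_ (sq_nonneg _)
    by_cases h0 : w a = 0
    · obtain ⟨i, -, hi⟩ := Finset.mem_image.1 (by assumption : a ∈ s)
      rw [← hi]
      exact pow_le_pow_left₀ (norm_nonneg _) (h (μ i) (B i) (B.ne_zero i) (hBi i)) 2
    · exact pow_le_pow_left₀ (norm_nonneg _) (h a (w a) h0 (hw a)) 2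
  nlinarith [norm_nonneg ((R g - b • 1) v), mul_nonneg hr (norm_nonneg v)]

/-- The sector of a number on the unit circle. -/
noncomputable def sector (z : ℂ) : ℕ := ⌈(Complex.arg z + Real.pi) / (Real.pi / 6)⌉₊

theorem sector_range (z : ℂ) : 1 ≤ sector z ∧ sector z ≤ 12 := by
  have h1 := Complex.neg_pi_lt_arg z
  have h2 := Complex.arg_le_pi z
  have hpi := Real.pi_pos
  constructor
  · exact Nat.ceil_pos.2 (div_pos (by linarith) (by linarith))
  · refine Nat.ceil_le.2 ?_
    rw [div_le_iff₀ (by linarith)]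
    push_cast
    linarith

theorem norm_sub_lt_of_sector {z w : ℂ} (hz : ‖z‖ = 1) (hw : ‖w‖ = 1) (h : sector z = sector w) :
    ‖conj z * w - ((Real.sqrt 3 / 2 : ℝ) : ℂ)‖ < 1 / 2 := by
  have hpi := Real.pi_pos
  have h6 : 0 < Real.pi / 6 := by linarith
  have hbound : ∀ x : ℂ, ((sector x : ℝ) - 1) * (Real.pi / 6) < x.arg + Real.pi ∧
      x.arg + Real.pi ≤ (sector x : ℝ) * (Real.pi / 6) := by
    intro x
    have h1 := Nat.le_ceil ((x.arg + Real.pi) / (Real.pi / 6))
    have h2 := Nat.ceil_lt_add_one (a := (x.arg + Real.pi) / (Real.pi / 6))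
      (div_nonneg (by linarith [Complex.neg_pi_lt_arg x]) h6.le)
    constructor
    · have h3 := (lt_div_iff₀ h6).1 (sub_lt_iff_lt_add.2 h2)
      exact h3
    · exact (div_le_iff₀ h6).1 h1
  obtain ⟨hz1, hz2⟩ := hbound z
  obtain ⟨hw1, hw2⟩ := hbound w
  rw [h] at hz1 hz2
  set d := w.arg - z.arg with hd
  have hdabs : |d| < Real.pi / 6 := by
    rw [abs_lt]; constructor <;> nlinarith
  have hcos : Real.sqrt 3 / 2 < Real.cos d := by
    rw [← Real.cos_pi_div_six, ← Real.cos_abs d]
    exact Real.cos_lt_cos_of_nonneg_of_le_pi (abs_nonneg d) (by linarith) hdabs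
  have hexp : conj z * w = Complex.exp ((d : ℂ) * Complex.I) := by
    conv_lhs => rw [← Complex.norm_mul_exp_arg_mul_I z, ← Complex.norm_mul_exp_arg_mul_I w, hz, hw]
    rw [Complex.ofReal_one, one_mul, one_mul, ← Complex.exp_conj, ← Complex.exp_add]
    congr 1
    rw [map_mul, Complex.conj_ofReal, Complex.conj_I, hd]
    push_cast
    ring
  rw [hexp]
  have h3 : Real.sqrt 3 * Real.sqrt 3 = 3 := Real.mul_self_sqrt (by norm_num)
  have hsq : ‖Complex.exp ((d : ℂ) * Complex.I) - ((Real.sqrt 3 / 2 : ℝ) : ℂ)‖ ^ 2 < (1 / 2) ^ 2 := by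
    rw [Complex.sq_norm, Complex.normSq_apply]
    simp only [Complex.sub_re, Complex.sub_im, Complex.ofReal_re, Complex.ofReal_im, sub_zero,
      Complex.exp_ofReal_mul_I_re, Complex.exp_ofReal_mul_I_im]
    have h4 := Real.sin_sq_add_cos_sq d
    have h5 : (0 : ℝ) < Real.sqrt 3 := Real.sqrt_pos.2 (by norm_num)
    nlinarith [mul_lt_mul_of_pos_left hcos h5]
  exact lt_of_pow_lt_pow_left₀ 2 (by norm_num) hsq

/-- The theorem of Frobenius and Blichfeldt. -/
theorem exists_abelian_normal (hR : IsIso R) (hinj : Function.Injective R) :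
    ∃ A : Subgroup G, A.Normal ∧ (∀ x ∈ A, ∀ y ∈ A, x * y = y * x) ∧
      ∀ H : Subgroup G, (∀ x ∈ H, ∀ y ∈ H, x * y = y * x) →
        (A.subgroupOf H).index ≤ 12 ^ finrank ℂ E := by
  classical
  refine ⟨Subgroup.closure (Near R), ?_, ?_, fun H hH => ?_⟩
  · refine ⟨fun x hx g => ?_⟩
    induction hx using Subgroup.closure_induction with
    | mem y hy => exact Subgroup.subset_closure (near_conj hR hy g)
    | one => simp
    | mul a c _ _ ha hc =>
      rw [show g * (a * c) * g⁻¹ = g * a * g⁻¹ * (g * c * g⁻¹) by group]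
      exact mul_mem ha hc
    | inv a _ ha =>
      rw [show g * a⁻¹ * g⁻¹ = (g * a * g⁻¹)⁻¹ by group]
      exact inv_mem ha
  · intro x hx y hy
    have h1 : Subgroup.closure (Near R) ≤ Subgroup.centralizer (Near R) :=
      (Subgroup.closure_le _).2 fun a ha => Subgroup.mem_centralizer_iff.2 fun c hc =>
        (commute_of_near hR hinj hc ha).eq
    have h2 : Subgroup.closure (Near R) ≤ Subgroup.centralizer (Subgroup.closure (Near R)) :=
      (Subgroup.closure_le _).2 fun a ha => Subgroup.mem_centralizer_iff.2 fun c hc =>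
        (Subgroup.mem_centralizer_iff.1 (h1 hc) a ha).symm
    exact Subgroup.mem_centralizer_iff.1 (h2 hy) x hx
  -- the weights of `H`
  let Λ : Set (H → ℂ) := {f | ∃ w : E, w ≠ 0 ∧ ∀ h : H, R h w = f h • w}
  have hwit : ∀ f : Λ, ∃ w : E, w ≠ 0 ∧ ∀ h : H, R h w = f.1 h • w := fun f => f.2
  choose w hw0 hw using hwit
  have horth : Pairwise fun f f' : Λ => ⟪w f, w f'⟫_ℂ = 0 := by
    intro f f' hne
    obtain ⟨h, hh⟩ : ∃ h, f.1 h ≠ f'.1 h := by
      by_contra hc
      push Not at hc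
      exact hne (Subtype.ext (funext hc))
    exact inner_eq_zero_of_eigen hR (hw f h) (hw f' h) hh
  have hli : LinearIndependent ℂ w := linearIndependent_of_ne_zero_of_inner_eq_zero hw0 horth
  have : Finite Λ := hli.finite
  have : Fintype Λ := Fintype.ofFinite Λ
  have hcard : Fintype.card Λ ≤ finrank ℂ E := hli.fintype_card_le_finrank
  have hweight : ∀ (h : H) (a : ℂ) (v : E), v ≠ 0 → R h v = a • v → ∃ f : Λ, f.1 h = a := by
    intro h a v hv hav
    let W : Submodule ℂ E := Module.End.eigenspace ((R h).toLinearMap : Module.End ℂ E) a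
    have hW : ∀ x, x ∈ W ↔ R h x = a • x := fun x => Module.End.mem_eigenspace_iff
    have hmaps : ∀ k : H, ∀ x ∈ W, ((R k).toLinearMap : Module.End ℂ E) x ∈ W := fun k x hx => by
      show R k x ∈ W
      rw [hW, ← mul_app, ← map_mul, hH h h.2 k k.2, map_mul,
        mul_app, (hW x).1 hx, map_smul]
    let ρ : Representation ℂ H W :=
      { toFun := fun k => ((R k).toLinearMap : Module.End ℂ E).restrict (hmaps k)
        map_one' := LinearMap.ext fun x => Subtype.ext (by simp)
        map_mul' := fun k l => LinearMap.ext fun x => Subtype.ext (by simp) }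
    haveI : Nontrivial W := Submodule.nontrivial_iff_ne_bot.2 fun hb => hv (by
      have h0 : v ∈ W := (hW v).2 hav
      rw [hb, Submodule.mem_bot] at h0
      exact h0)
    obtain ⟨x, c, hx0, hx⟩ := H13.exists_common_eigenvector ρ ⊤
      (fun p _ q _ => Subtype.ext (hH p p.2 q q.2))
    have hxc : ∀ k : H, R k (x : E) = c k • (x : E) := fun k =>
      congrArg Subtype.val (hx k (Subgroup.mem_top k))
    refine ⟨⟨c, x, fun e => hx0 (Subtype.ext e), hxc⟩, ?_⟩
    have h1 := (hW x).1 x.2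
    rw [hxc h] at h1
    exact smul_left_injective ℂ (fun e => hx0 (Subtype.ext e)) h1
  let F : H → (Λ → Fin 12) := fun h f =>
    ⟨sector (f.1 h) - 1, by have := sector_range (f.1 h); omega⟩
  have hF : ∀ h h' : H, F h = F h' → ((h⁻¹ * h' : H) : G) ∈ Subgroup.closure (Near R) := by
    intro h h' he
    refine Subgroup.subset_closure ⟨((Real.sqrt 3 / 2 : ℝ) : ℂ), ?_, ?_⟩
    · rw [Complex.norm_real, Real.norm_eq_abs, abs_of_nonneg (by positivity)]
      have : (1 : ℝ) ≤ Real.sqrt 3 := Real.one_le_sqrt.2 (by norm_num)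
      linarith
    · -- every eigenvalue is close to the real scalar
      have hev : ∀ f : Λ, ‖f.1 (h⁻¹ * h') - ((Real.sqrt 3 / 2 : ℝ) : ℂ)‖ < 1 / 2 := by
        intro f
        have hn : ∀ k : H, ‖f.1 k‖ = 1 := fun k => norm_eigenvalue hR (hw0 f) (hw f k)
        have hsec : sector (f.1 h) = sector (f.1 h') := by
          have := congrArg Fin.val (congrFun he f)
          simp only [F] at this
          have := sector_range (f.1 h)
          have := sector_range (f.1 h')
          omega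
        have hmul : f.1 h * f.1 (h⁻¹ * h') = f.1 h' := by
          have h1 : R h (R ((h⁻¹ * h' : H) : G) (w f)) = R h' (w f) := by
            rw [← mul_app, ← map_mul, ← Subgroup.coe_mul, mul_inv_cancel_left]
          rw [hw f, map_smul, hw f h, hw f h', smul_smul, mul_comm] at h1
          exact smul_left_injective ℂ (hw0 f) h1
        have hinv : conj (f.1 h) * f.1 h = 1 := by rw [Complex.conj_mul', hn h]; norm_num
        have : f.1 (h⁻¹ * h') = conj (f.1 h) * f.1 h' := by
          rw [← hmul, ← mul_assoc, hinv, one_mul]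
        rw [this]
        exact norm_sub_lt_of_sector (hn h) (hn h') hsec
      rcases isEmpty_or_nonempty Λ with hΛ | hΛ
      · have hle := norm_sub_le_of_eigen hR ((h⁻¹ * h' : H) : G) ((Real.sqrt 3 / 2 : ℝ) : ℂ) 0
          le_rfl fun a v hv hav => absurd (hweight _ a v hv hav) (fun ⟨f, _⟩ => hΛ.false f)
        linarith
      · obtain ⟨f₀, -, hf₀⟩ := Finset.exists_max_image Finset.univ
          (fun f : Λ => ‖f.1 (h⁻¹ * h') - ((Real.sqrt 3 / 2 : ℝ) : ℂ)‖) Finset.univ_nonempty
        refine lt_of_le_of_lt (norm_sub_le_of_eigen hR _ _ _ (norm_nonneg _) fun a v hv hav => ?_)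
          (hev f₀)
        obtain ⟨f, rfl⟩ := hweight _ a v hv hav
        exact hf₀ f (Finset.mem_univ f)
  rw [Subgroup.index]
  calc Nat.card (H ⧸ (Subgroup.closure (Near R)).subgroupOf H)
      ≤ Nat.card (Λ → Fin 12) := Nat.card_le_card_of_injective (fun q => F q.out) fun q q' he => by
        rw [← q.out_eq', ← q'.out_eq', QuotientGroup.eq]
        exact hF _ _ he
    _ ≤ 12 ^ finrank ℂ E := by
        rw [Nat.card_fun, Nat.card_fin, Nat.card_eq_fintype_card]
        exact Nat.pow_le_pow_right (by norm_num) hcard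

end Unitary

/-- A complex matrix group can be made unitary. -/
theorem exists_unitary_model {G : Type u} [Group G] [Finite G] {n : ℕ}
    (X : G →* Module.End ℂ (Fin n → ℂ)) (hX : Function.Injective X) :
    ∃ (E : Type) (_ : NormedAddCommGroup E) (_ : InnerProductSpace ℂ E)
      (_ : FiniteDimensional ℂ E) (R : G →* (E →L[ℂ] E)),
      IsIso R ∧ Function.Injective R ∧ finrank ℂ E = n := by
  classical
  let m := Nat.card G
  let idx : Fin m ≃ G := (Finite.equivFin G).symm
  let J : (Fin n → ℂ) →ₗ[ℂ] EuclideanSpace ℂ (Fin m × Fin n) :=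
    { toFun := fun v => WithLp.toLp 2 fun k => X (idx k.1) v k.2
      map_add' := fun u v => by ext k; simp
      map_smul' := fun c v => by ext k; simp }
  have hJ : Function.Injective J := by
    intro u v h
    funext i
    have := congrArg (fun f : EuclideanSpace ℂ (Fin m × Fin n) => f (idx.symm 1, i)) h
    simpa [J] using this
  let e : (Fin n → ℂ) ≃ₗ[ℂ] LinearMap.range J := LinearEquiv.ofInjective J hJ
  let R : G →* (LinearMap.range J →L[ℂ] LinearMap.range J) :=
    { toFun := fun g => LinearMap.toContinuousLinearMap (e.conj (X g))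
      map_one' := ContinuousLinearMap.ext fun x => by simp [LinearEquiv.conj_apply]
      map_mul' := fun g h => ContinuousLinearMap.ext fun x => by
        show e.conj (X (g * h)) x = e.conj (X g) (e.conj (X h) x)
        rw [map_mul, Module.End.mul_eq_comp, LinearEquiv.conj_comp, LinearMap.comp_apply] }
  refine ⟨LinearMap.range J, inferInstance, inferInstance, inferInstance, R, ?_, ?_, ?_⟩
  · intro g x
    obtain ⟨v, rfl⟩ := e.surjective x
    have h1 : R g (e v) = e (X g v) := by
      show e.conj (X g) (e v) = _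
      simp [LinearEquiv.conj_apply]
    rw [h1, Submodule.coe_norm, Submodule.coe_norm, LinearEquiv.ofInjective_apply,
      LinearEquiv.ofInjective_apply, EuclideanSpace.norm_eq, EuclideanSpace.norm_eq]
    congr 1
    let σ : Fin m ≃ Fin m := idx.trans ((Equiv.mulRight g).trans idx.symm)
    refine Fintype.sum_equiv (σ.prodCongr (Equiv.refl _)) _ _ fun k => ?_
    simp [J, σ, map_mul]
  · intro g h hgh
    apply hX
    apply e.conj.injective
    exact LinearMap.toContinuousLinearMap.injective hgh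
  · rw [← e.finrank_eq, Module.finrank_fin_fun]

end H12.Blichfeldt
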