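import Cfsg.Agent.H12.CoprimeCount
import Cfsg.Agent.H13.RationalChar
import Cfsg.Agent.H16.CoprimeCoset
import Cfsg.Agent.H25.Galois

/-!
Values of canonical extensions on a coset of a cyclic coprime complement: the Glauberman
correspondence for a cyclic operator group.
-/

set_option autoImplicit false
set_option linter.unusedSectionVars false

open Cfsg MulAction
open scoped ComplexConjugate

namespace H12.Cyclic

open H12.Glauberman H12.InvConst H12.CoprimeCount

universe u v w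

/-- The coefficient function of a character on a product with an abelian factor is a character. -/
theorem coef_isCharacter {C : Type u} {A : Type v} [Group C] [Fintype C] [Group A] [Fintype A]
    {X : C × A → ℂ} (hX : IsCharacter (C × A) X) (γ : IrrCharacter C) :
    IsCharacter A (fun a => classInner (fun c => X (c, a)) (γ : C → ℂ)) := by
  classical
  obtain ⟨m, rfl⟩ := IsCharacter.exists_mult hX
  let q : IrrCharacter (C × A) → IrrCharacter C × IrrCharacter A := extProdEquiv.symm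
  have hq : ∀ (η : IrrCharacter (C × A)) (x : C × A), (η : C × A → ℂ) x = ((q η).1 : C → ℂ) x.1 * ((q η).2 : A → ℂ) x.2 := fun η x => by
    conv_lhs => rw [← extProdEquiv.apply_symm_apply η]
    rfl
  have h : (fun a => classInner (fun c => (∑ η, (m η : ℂ) • (η : C × A → ℂ)) (c, a)) (γ : C → ℂ)) =
      ∑ η, ((m η * if (q η).1 = γ then 1 else 0 : ℕ) : ℂ) • ((q η).2 : A → ℂ) := by
    funext a
    rw [show (fun c => (∑ η, (m η : ℂ) • (η : C × A → ℂ)) (c, a)) =
      ∑ η, ((m η : ℂ) * ((q η).2 : A → ℂ) a) • ((q η).1 : C → ℂ) from funext fun c => by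
        simp [hq, mul_comm, mul_left_comm]]
    rw [classInner_sum_left, Finset.sum_apply]
    refine Finset.sum_congr rfl fun η _ => ?_
    rw [classInner_smul_left, classInner_irr, Pi.smul_apply, smul_eq_mul]
    split_ifs <;> simp
  rw [h]
  exact IsCharacter.sum _ _ fun η _ => IsCharacter.natCast_smul (isCharacter_irr _) _

/-- The determinant of a Galois conjugate. -/
theorem detChar_ringEquiv {G : Type u} [Group G] [Finite G] {χ : G → ℂ} (hχ : IsIrrCharacter G χ)
    (σ : ℂ ≃+* ℂ) : detChar ((σ : ℂ → ℂ) ∘ χ) = (σ : ℂ → ℂ) ∘ detChar χ := by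
  obtain ⟨n, ρ, hρ, rfl⟩ := hχ
  obtain ⟨m, τ, hτ, hτc⟩ := H25.isIrrCharacter_ringEquiv_comp
    (χ := ρ.character) ⟨n, ρ, hρ, rfl⟩ σ
  have := hρ
  have := hτ
  let ρσ : Representation ℂ G (Fin n → ℂ) :=
    (Matrix.toLinAlgEquiv' (R := ℂ) (n := Fin n)).toAlgHom.toMonoidHom.comp
      ((σ : ℂ →+* ℂ).mapMatrix.toMonoidHom.comp
        ((LinearMap.toMatrixAlgEquiv' (R := ℂ) (n := Fin n)).toAlgHom.toMonoidHom.comp ρ))
  have hchar : ρσ.character = (σ : ℂ → ℂ) ∘ ρ.character := by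
    funext g
    simp only [ρσ, Representation.character, Function.comp_apply]
    rw [LinearMap.trace_eq_matrix_trace ℂ (Pi.basisFun ℂ (Fin n)),
      LinearMap.trace_eq_matrix_trace ℂ (Pi.basisFun ℂ (Fin n))]
    simp [Matrix.trace, LinearMap.toMatrix'_apply]
  funext g
  rw [H14.detChar_eq τ hτc, ← H14.det_eq_of_char_eq τ ρσ (hchar.trans hτc.symm) g,
    Function.comp_apply, H14.detChar_eq ρ rfl]
  show LinearMap.det (Matrix.toLin' ((σ : ℂ →+* ℂ).mapMatrix (LinearMap.toMatrix' (ρ g)))) = _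
  rw [LinearMap.det_toLin', ← RingHom.map_det, LinearMap.det_toMatrix']
  rfl

theorem detOrder_ringEquiv {G : Type u} [Group G] [Finite G] {χ : G → ℂ} (hχ : IsIrrCharacter G χ)
    (σ : ℂ ≃+* ℂ) : detOrder ((σ : ℂ → ℂ) ∘ χ) = detOrder χ := by
  rw [detOrder, detOrder, detChar_ringEquiv hχ]
  exact orderOf_injective ((σ : ℂ →+* ℂ).toMonoidHom.compLeft G)
    (fun a b h => funext fun x => σ.injective (congrFun h x)) _

section Core

variable {Γ : Type u} [Group Γ] [Fintype Γ] {G : Subgroup Γ} [hGn : G.Normal] {s : Γ}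
variable {C : Type v} [Group C] [Fintype C] {j : C →* Γ}

theorem j_mem (hrange : j.range = G ⊓ Subgroup.centralizer {s}) (c : C) : j c ∈ G :=
  (hrange ▸ (⟨c, rfl⟩ : j c ∈ j.range) : j c ∈ G ⊓ Subgroup.centralizer {s}).1

theorem j_comm (hrange : j.range = G ⊓ Subgroup.centralizer {s}) (c : C) : Commute (j c) s :=
  (Subgroup.mem_centralizer_singleton_iff.1
    (hrange ▸ (⟨c, rfl⟩ : j c ∈ j.range) : j c ∈ G ⊓ Subgroup.centralizer {s}).2)

theorem top_card (hcop : (Nat.card G).Coprime (orderOf s)) (htop : G ⊔ Subgroup.zpowers s = ⊤) :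
    Nat.card Γ = Nat.card G * orderOf s := by
  rw [← Nat.card_zpowers, ← H1.card_sup_of_coprime (by rw [Subgroup.normalizer_eq_top]; exact le_top)
    (by rw [Nat.card_zpowers]; exact hcop), htop, Subgroup.card_top]

theorem index_eq (hcop : (Nat.card G).Coprime (orderOf s)) (htop : G ⊔ Subgroup.zpowers s = ⊤) :
    G.index = orderOf s :=
  Nat.eq_of_mul_eq_mul_left (Nat.card_pos (α := G))
    ((Subgroup.card_mul_index G).trans (top_card hcop htop))

theorem quot_comm (htop : G ⊔ Subgroup.zpowers s = ⊤) (a b : Γ ⧸ G) : a * b = b * a := by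
  have key : ∀ x : Γ, ∃ i : ℤ, (x : Γ ⧸ G) = (s : Γ ⧸ G) ^ i := by
    intro x
    obtain ⟨g, hg, t, ht, rfl⟩ := Subgroup.mem_sup_of_normal_left.1
      (htop ▸ Subgroup.mem_top x : x ∈ G ⊔ Subgroup.zpowers s)
    obtain ⟨i, rfl⟩ := Subgroup.mem_zpowers_iff.1 ht
    exact ⟨i, by rw [QuotientGroup.mk_mul, (QuotientGroup.eq_one_iff g).2 hg, one_mul,
      QuotientGroup.mk_zpow]⟩
  obtain ⟨a, rfl⟩ := QuotientGroup.mk_surjective a
  obtain ⟨b, rfl⟩ := QuotientGroup.mk_surjective b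
  obtain ⟨i, hi⟩ := key a
  obtain ⟨k, hk⟩ := key b
  rw [hi, hk, ← zpow_add, ← zpow_add, add_comm]

/-- Two extensions are orthogonal on the coset of `s` unless they agree. -/
theorem sum_coset_mul_conj (htop : G ⊔ Subgroup.zpowers s = ⊤) [Fintype G] (χ χ' : IrrCharacter Γ)
    (hχ : IsIrrCharacter G (fun g : G => (χ : Γ → ℂ) g)) (hs : χ ≠ χ' →
      (fun g : G => (χ : Γ → ℂ) g) ≠ fun g : G => (χ' : Γ → ℂ) g) :
    ∑ g : G, (χ : Γ → ℂ) ((g : Γ) * s) * conj ((χ' : Γ → ℂ) ((g : Γ) * s)) =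
      ((open scoped Classical in if χ = χ' then Nat.card G else 0 : ℕ) : ℂ) := by
  classical
  have : Fintype (Γ ⧸ G) := Fintype.ofFinite _
  let f : Γ → ℂ := fun x => (χ : Γ → ℂ) x * conj ((χ' : Γ → ℂ) x)
  let δ : Γ ⧸ G → ℂ := fun q => if q = (s : Γ ⧸ G) then 1 else 0
  have hδ : IsClassFunction (Γ ⧸ G) δ := fun q r => by
    rw [quot_comm htop r q, mul_inv_cancel_right]
  have hsum : ∑ g : G, f ((g : Γ) * s) = ∑ x : Γ, δ (x : Γ ⧸ G) * f x := by
    simp only [δ, ite_mul, one_mul, zero_mul, ← Finset.sum_filter]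
    rw [Finset.sum_subtype (Finset.univ.filter fun x : Γ => (x : Γ ⧸ G) = (s : Γ ⧸ G))
      (p := fun x : Γ => (x : Γ ⧸ G) = (s : Γ ⧸ G)) (by simp)]
    let e : G ≃ {x : Γ // (x : Γ ⧸ G) = (s : Γ ⧸ G)} :=
      { toFun := fun g => ⟨(g : Γ) * s, by
          rw [QuotientGroup.mk_mul, (QuotientGroup.eq_one_iff (g : Γ)).2 g.2, one_mul]⟩
        invFun := fun x => ⟨x.1 * s⁻¹, (QuotientGroup.eq_one_iff _).1 (by
          rw [QuotientGroup.mk_mul, x.2, ← QuotientGroup.mk_mul, mul_inv_cancel, QuotientGroup.mk_one])⟩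
        left_inv := fun g => Subtype.ext (mul_inv_cancel_right _ _)
        right_inv := fun x => Subtype.ext (inv_mul_cancel_right _ _) }
    exact Fintype.sum_equiv e _ _ fun g => rfl
  have hexp : ∑ x : Γ, δ (x : Γ ⧸ G) * f x =
      ∑ ψ : IrrCharacter (Γ ⧸ G), classInner δ ψ * ∑ x : Γ, (ψ : Γ ⧸ G → ℂ) x * f x := by
    simp only [Finset.mul_sum]
    rw [Finset.sum_comm]
    refine Finset.sum_congr rfl fun x _ => ?_
    rw [classFunction_apply_eq_sum hδ, Finset.sum_mul]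
    exact Finset.sum_congr rfl fun ψ _ => by ring
  have hinner : ∀ ψ : IrrCharacter (Γ ⧸ G), ∑ x : Γ, (ψ : Γ ⧸ G → ℂ) x * f x =
      if ψ = oneIrr (Γ ⧸ G) ∧ χ = χ' then (Nat.card Γ : ℂ) else 0 := by
    intro ψ
    obtain ⟨l, hl⟩ := exists_monoidHom_of_apply_one_eq_one (isCharacter_irr ψ)
      (irr_apply_one_of_comm (quot_comm htop) ψ)
    let η : Γ →* ℂˣ := l.comp (QuotientGroup.mk' G)
    have h1 : ∑ x : Γ, (ψ : Γ ⧸ G → ℂ) x * f x =
        (Nat.card Γ : ℂ) * classInner (mulHom η χ : Γ → ℂ) (χ' : Γ → ℂ) := by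
      rw [← sum_mul_conj_eq_card_mul]
      refine Finset.sum_congr rfl fun x _ => ?_
      rw [mulHom_apply, ← hl, mul_assoc]
      rfl
    rw [h1, classInner_irr]
    by_cases he : mulHom η χ = χ'
    · have hχχ : χ = χ' := by
        by_contra hne
        refine hs hne (funext fun g => ?_)
        rw [← he, mulHom_apply]
        simp [η, (QuotientGroup.eq_one_iff (g : Γ)).2 g.2]
      have hψ : ψ = oneIrr (Γ ⧸ G) := by
        apply H13.gallagher_injective G (isCharacter_irr χ) hχ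
        funext x
        rw [Pi.mul_apply, Pi.mul_apply, H13.inflateIrr_apply, H13.inflateIrr_apply, oneIrr_apply,
          one_mul, ← hl]
        exact congrFun (congrArg Subtype.val (he.trans hχχ.symm)) x
      rw [if_pos he, if_pos ⟨hψ, hχχ⟩, mul_one]
    · rw [if_neg he, mul_zero, if_neg]
      rintro ⟨rfl, rfl⟩
      refine he (Subtype.ext (funext fun x => ?_))
      have h2 : (l (x : Γ ⧸ G) : ℂ) = 1 :=
        (congrFun hl (x : Γ ⧸ G)).trans (oneIrr_apply _ _)
      show (l (x : Γ ⧸ G) : ℂ) * (χ : Γ → ℂ) x = _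
      rw [h2, one_mul]
  show ∑ g : G, f ((g : Γ) * s) = _
  rw [hsum, hexp]
  simp only [hinner]
  by_cases hχχ : χ = χ'
  · rw [Finset.sum_eq_single (oneIrr (Γ ⧸ G)) (fun ψ _ hψ => by simp [hψ]) (by simp),
      if_pos ⟨rfl, hχχ⟩, if_pos hχχ, classInner_def]
    simp only [δ, oneIrr_apply, map_one, mul_one, Finset.sum_ite_eq', Finset.mem_univ, if_true]
    rw [Subgroup.card_eq_card_quotient_mul_card_subgroup G, Nat.cast_mul, ← mul_assoc,
      inv_mul_cancel₀ card_ne_zero', one_mul]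
  · rw [if_neg hχχ, Nat.cast_zero]
    exact Finset.sum_eq_zero fun ψ _ => by simp [hχχ]

/-- A class function summed over the coset of `s`. -/
theorem sum_coset_eq (hcop : (Nat.card G).Coprime (orderOf s)) (hj : Function.Injective j)
    (hrange : j.range = G ⊓ Subgroup.centralizer {s}) [Fintype G] {f : Γ → ℂ}
    (hf : IsClassFunction Γ f) :
    (Nat.card C : ℂ) * ∑ g : G, f ((g : Γ) * s) = (Nat.card G : ℂ) * ∑ c : C, f (j c * s) := by
  classical
  have hx : Nat.Coprime (orderOf s) (Nat.card G) := hcop.symm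
  let Φ : G × C → G := fun a => ⟨(a.1 : Γ) * (j a.2 * s) * (a.1 : Γ)⁻¹ * s⁻¹, by
    rw [show (a.1 : Γ) * (j a.2 * s) * (a.1 : Γ)⁻¹ * s⁻¹ =
      (a.1 : Γ) * j a.2 * (s * (a.1 : Γ)⁻¹ * s⁻¹) by group]
    exact mul_mem (mul_mem a.1.2 (j_mem hrange a.2)) (hGn.conj_mem _ (inv_mem a.1.2) s)⟩
  have hΦ : ∀ a, (Φ a : Γ) * s = (a.1 : Γ) * (j a.2 * s) * (a.1 : Γ)⁻¹ := fun a => by
    show (a.1 : Γ) * (j a.2 * s) * (a.1 : Γ)⁻¹ * s⁻¹ * s = _
    rw [inv_mul_cancel_right]
  have hfib : ∀ y : G, (Finset.univ.filter fun a => Φ a = y).card = Nat.card C := by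
    intro y
    obtain ⟨g₀, hg₀, w, hw, hws, he⟩ := H16.coset_conj_to_centralizer G s hx (y : Γ) y.2
    obtain ⟨c₀, rfl⟩ : w ∈ j.range := by
      rw [hrange]; exact ⟨hw, Subgroup.mem_centralizer_singleton_iff.2 hws⟩
    let Ψ : C → {a // a ∈ Finset.univ.filter fun a => Φ a = y} := fun z =>
      ⟨(⟨g₀ * j z, mul_mem hg₀ (j_mem hrange z)⟩, z⁻¹ * c₀ * z), Finset.mem_filter.2
        ⟨Finset.mem_univ _, Subtype.ext (mul_right_cancel (b := s) (by
          rw [hΦ, ← he, map_mul, map_mul, map_inv]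
          show g₀ * j z * ((j z)⁻¹ * j c₀ * j z * s) * (g₀ * j z)⁻¹ = _
          rw [mul_assoc _ (j z) s, (j_comm hrange z).eq]
          group))⟩⟩
    have hΨ : Function.Bijective Ψ := by
      constructor
      · intro z z' h
        have h1 := congrArg (fun a : {a // a ∈ Finset.univ.filter fun a => Φ a = y} => (a.1.1 : Γ)) h
        exact hj (mul_left_cancel h1)
      · rintro ⟨⟨g, c⟩, hmem⟩
        have hgc : (g : Γ) * (j c * s) * (g : Γ)⁻¹ = g₀ * (j c₀ * s) * g₀⁻¹ := by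
          rw [he, ← hΦ (g, c), (Finset.mem_filter.1 hmem).2]
        have hz : g₀⁻¹ * (g : Γ) * (j c * s) * (g₀⁻¹ * (g : Γ))⁻¹ = j c₀ * s := by
          rw [show g₀⁻¹ * (g : Γ) * (j c * s) * (g₀⁻¹ * (g : Γ))⁻¹ =
            g₀⁻¹ * ((g : Γ) * (j c * s) * (g : Γ)⁻¹) * g₀ by group, hgc]
          group
        have hcomm := H16.conj_comm_of_coprime G s (j c) (j c₀) (g₀⁻¹ * (g : Γ)) hx
          (j_mem hrange c) (j_mem hrange c₀) (j_comm hrange c).eq (j_comm hrange c₀).eq hz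
        have hmemC : g₀⁻¹ * (g : Γ) ∈ j.range := by
          rw [hrange]
          exact ⟨G.mul_mem (G.inv_mem hg₀) g.2,
            Subgroup.mem_centralizer_singleton_iff.2 (mul_inv_eq_iff_eq_mul.1 hcomm)⟩
        obtain ⟨z, hz'⟩ := hmemC
        refine ⟨z, Subtype.ext (Prod.ext (Subtype.ext ?_) (hj ?_))⟩
        · show g₀ * j z = (g : Γ)
          rw [hz', mul_inv_cancel_left]
        · show j (z⁻¹ * c₀ * z) = j c
          rw [← hz'] at hz
          rw [map_mul, map_mul, map_inv]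
          apply mul_right_cancel (b := s)
          calc (j z)⁻¹ * j c₀ * j z * s = (j z)⁻¹ * (j c₀ * s) * j z := by
                rw [mul_assoc _ (j z) s, (j_comm hrange z).eq]; group
            _ = j c * s := by rw [← hz]; group
    rw [← Fintype.card_coe, ← Nat.card_eq_fintype_card, ← Nat.card_congr (Equiv.ofBijective Ψ hΨ)]
  have h1 : ∑ a : G × C, f ((Φ a : Γ) * s) = (Nat.card C : ℂ) * ∑ g : G, f ((g : Γ) * s) := by
    rw [← Finset.sum_fiberwise Finset.univ Φ, Finset.mul_sum]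
    refine Finset.sum_congr rfl fun y _ => ?_
    rw [Finset.sum_eq_card_nsmul (b := f ((y : Γ) * s)) (fun a ha => by
      rw [(Finset.mem_filter.1 ha).2]), hfib, nsmul_eq_mul]
  rw [← h1, Fintype.sum_prod_type, Finset.mul_sum]
  rw [Finset.sum_comm]
  refine Finset.sum_congr rfl fun c _ => ?_
  simp only [hΦ, hf (j c * s) _]
  rw [Finset.sum_const, Finset.card_univ, nsmul_eq_mul, Nat.card_eq_fintype_card]

theorem sum_value_mul_conj (hcop : (Nat.card G).Coprime (orderOf s))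
    (htop : G ⊔ Subgroup.zpowers s = ⊤) (hj : Function.Injective j)
    (hrange : j.range = G ⊓ Subgroup.centralizer {s}) [Fintype G] (χ χ' : IrrCharacter Γ)
    (hχ : IsIrrCharacter G (fun g : G => (χ : Γ → ℂ) g)) (hs : χ ≠ χ' →
      (fun g : G => (χ : Γ → ℂ) g) ≠ fun g : G => (χ' : Γ → ℂ) g) :
    classInner (fun c : C => (χ : Γ → ℂ) (j c * s)) (fun c : C => (χ' : Γ → ℂ) (j c * s)) =
      ((open scoped Classical in if χ = χ' then 1 else 0 : ℕ) : ℂ) := by
  classical
  have h1 := sum_coset_eq hcop hj hrange (f := fun x => (χ : Γ → ℂ) x * conj ((χ' : Γ → ℂ) x))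
    (fun g x => by
      show _ * conj _ = _ * conj _
      rw [irr_isClassFunction χ g x, irr_isClassFunction χ' g x])
  rw [sum_coset_mul_conj htop χ χ' hχ hs] at h1
  have hG0 : (Nat.card G : ℂ) ≠ 0 := card_ne_zero'
  have hC0 : (Nat.card C : ℂ) ≠ 0 := card_ne_zero'
  rw [classInner_def]
  by_cases h : χ = χ'
  · rw [if_pos h] at h1 ⊢
    rw [mul_comm] at h1
    rw [← mul_left_cancel₀ hG0 h1, Nat.cast_one, inv_mul_cancel₀ hC0]
  · rw [if_neg h] at h1 ⊢
    rw [Nat.cast_zero, mul_zero] at h1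
    rw [(mul_eq_zero.1 h1.symm).resolve_left hG0, mul_zero, Nat.cast_zero]

/-- The canonical extension takes the same values at all generators of the complement. -/
theorem value_pow (hcop : (Nat.card G).Coprime (orderOf s)) (htop : G ⊔ Subgroup.zpowers s = ⊤)
    (hrange : j.range = G ⊓ Subgroup.centralizer {s}) [Fintype G] (χ : IrrCharacter Γ)
    (hχ : IsIrrCharacter G (fun g : G => (χ : Γ → ℂ) g))
    (hdet : (detOrder (χ : Γ → ℂ)).Coprime (orderOf s)) (c : C) {i : ℕ}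
    (hi : i.Coprime (orderOf s)) : (χ : Γ → ℂ) (j c * s ^ i) = (χ : Γ → ℂ) (j c * s) := by
  classical
  obtain ⟨k, hk1, hk2⟩ := Nat.chineseRemainder hcop 1 i
  have hkG : k.Coprime (Nat.card G) := by
    rw [Nat.Coprime, hk1.gcd_eq, Nat.gcd_one_left]
  have hks : k.Coprime (orderOf s) := by
    rw [Nat.Coprime, hk2.gcd_eq]; exact hi
  have hk : k.Coprime (Nat.card Γ) := by
    rw [top_card hcop htop]; exact Nat.Coprime.mul_right hkG hks
  obtain ⟨σ, hσ⟩ := H25.exists_ringEquiv_pow_rootOfUnity (Nat.card Γ) k Nat.card_pos hk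
  have hσχ : ∀ x, σ ((χ : Γ → ℂ) x) = (χ : Γ → ℂ) (x ^ k) :=
    H25.map_character_apply (isCharacter_irr χ) σ k hσ
  have hpow : ∀ x : Γ, x ∈ G → x ^ k = x := fun x hx => by
    conv_rhs => rw [← pow_one x]
    exact pow_eq_pow_iff_modEq.2 (hk1.of_dvd (Subgroup.orderOf_dvd_natCard G hx))
  have hindex := index_eq hcop htop
  obtain ⟨ψ, ⟨-, -, -⟩, huniq⟩ := H14.exists_canonical_extension G (fun g : G => (χ : Γ → ℂ) g) hχ
    (fun x g => irr_isClassFunction χ (g : Γ) x)
    (degree (fun g : G => (χ : Γ → ℂ) g)) (irr_apply_one ⟨_, hχ⟩)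
    (by
      rw [hindex]
      exact (Nat.Coprime.mul_left (hcop.coprime_dvd_left (detOrder_dvd_card hχ))
        (hcop.coprime_dvd_left (irr_degree_dvd_card ⟨_, hχ⟩))).symm)
  have h1 : ((σ : ℂ → ℂ) ∘ (χ : Γ → ℂ)) = ψ := huniq _
    (H25.isIrrCharacter_ringEquiv_comp χ.2 σ)
    (fun g => by rw [Function.comp_apply, hσχ, hpow _ g.2])
    (by rw [hindex, detOrder_ringEquiv χ.2]; exact hdet.symm)
  have h2 : (χ : Γ → ℂ) = ψ := huniq _ χ.2 (fun g => rfl) (by rw [hindex]; exact hdet.symm)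
  have h3 := congrFun (h1.trans h2.symm) (j c * s)
  rw [Function.comp_apply, hσχ, (j_comm hrange c).mul_pow, hpow _ (j_mem hrange c)] at h3
  rw [show s ^ i = s ^ k from pow_eq_pow_iff_modEq.2 hk2.symm]
  exact h3

/-- The coefficient at a generator is an integer. -/
theorem coef_int (hcop : (Nat.card G).Coprime (orderOf s)) (htop : G ⊔ Subgroup.zpowers s = ⊤)
    (hrange : j.range = G ⊓ Subgroup.centralizer {s}) (hj : Function.Injective j) [Fintype G]
    (χ : IrrCharacter Γ) (hχ : IsIrrCharacter G (fun g : G => (χ : Γ → ℂ) g))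
    (hdet : (detOrder (χ : Γ → ℂ)).Coprime (orderOf s)) (γ : IrrCharacter C) :
    ∃ z : ℤ, classInner (fun c : C => (χ : Γ → ℂ) (j c * s)) (γ : C → ℂ) = (z : ℂ) := by
  classical
  set a := classInner (fun c : C => (χ : Γ → ℂ) (j c * s)) (γ : C → ℂ) with ha
  have hint : IsIntegral ℤ a := by
    let A : Subgroup Γ := Subgroup.zpowers s
    let Φ : C × A →* Γ := MonoidHom.noncommCoprod j A.subtype fun c x => by
      obtain ⟨i, hi⟩ := Subgroup.mem_zpowers_iff.1 x.2
      show Commute (j c) (x : Γ)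
      rw [← hi]
      exact (j_comm hrange c).zpow_right i
    have hX := coef_isCharacter (IsCharacter.comp (isCharacter_irr χ) Φ) γ
    exact IsCharacter.isIntegral hX ⟨s, Subgroup.mem_zpowers s⟩
  set N := Nat.card Γ with hN
  have hN0 : 0 < N := Nat.card_pos
  have hGN : Nat.card G ∣ N := Subgroup.card_subgroup_dvd_card G
  obtain ⟨ζ, hζ⟩ := H19.exists_root N hN0.ne'
  have hjG : ∀ c : C, orderOf c ∣ Nat.card G := fun c => by
    rw [← orderOf_injective j hj c]
    exact Subgroup.orderOf_dvd_natCard G (j_mem hrange c)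
  have hP : ∀ c : C, ∃ P : Polynomial ℤ, ∀ m : ℕ,
      (χ : Γ → ℂ) (j (c ^ m) * s ^ m) * conj ((γ : C → ℂ) (c ^ m)) =
        Polynomial.aeval (ζ ^ m) P := by
    intro c
    obtain ⟨P, hP⟩ := H19.exists_poly (isCharacter_irr χ) hN0.ne' hζ (j c * s) pow_card_eq_one'
    obtain ⟨Q, hQ⟩ := H19.exists_poly (isCharacter_irr γ) hN0.ne' hζ c⁻¹
      (orderOf_dvd_iff_pow_eq_one.1 ((orderOf_inv c).symm ▸ (hjG c).trans hGN))
    refine ⟨P * Q, fun m => ?_⟩
    rw [map_mul, ← hP m, ← hQ m, (j_comm hrange c).mul_pow, map_pow, inv_pow, irr_inv]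
  choose P hP using hP
  have hval : ∀ μ ∈ primitiveRoots N ℂ,
      ∑ c : C, Polynomial.aeval μ (P c) = (Nat.card C : ℂ) * a := by
    intro μ hμ
    haveI : NeZero N := ⟨hN0.ne'⟩
    obtain ⟨m, -, hm, rfl⟩ := (IsPrimitiveRoot.isPrimitiveRoot_iff hζ).1
      ((mem_primitiveRoots hN0).1 hμ)
    simp only [← hP]
    have hmC : (Nat.card C).Coprime m := by
      refine (hm.coprime_dvd_right ?_).symm
      have h : Nat.card C ∣ Nat.card G := by
        rw [Nat.card_congr (MonoidHom.ofInjective hj).toEquiv]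
        exact Subgroup.card_dvd_of_le (hrange ▸ inf_le_left)
      exact h.trans hGN
    have hms : m.Coprime (orderOf s) := hm.coprime_dvd_right (orderOf_dvd_natCard s)
    rw [Fintype.sum_equiv (powCoprime hmC)
      (fun c => (χ : Γ → ℂ) (j (c ^ m) * s ^ m) * conj ((γ : C → ℂ) (c ^ m)))
      (fun c => (χ : Γ → ℂ) (j c * s ^ m) * conj ((γ : C → ℂ) c)) (fun c => rfl)]
    rw [ha, ← sum_mul_conj_eq_card_mul]
    exact Finset.sum_congr rfl fun c _ => by rw [value_pow hcop htop hrange χ hχ hdet c hms]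
  have hrat : ∃ q : ℚ, a = (q : ℂ) := by
    choose w hw using fun c => H13.sum_primitiveRoots_aeval_int hN0 (P c)
    have h1 := Finset.sum_congr rfl hval
    rw [Finset.sum_comm, Finset.sum_congr rfl (fun c _ => hw c), Finset.sum_const,
      hζ.card_primitiveRoots, nsmul_eq_mul] at h1
    refine ⟨(∑ c, w c : ℤ) / ((Nat.totient N : ℚ) * (Nat.card C : ℚ)), ?_⟩
    have ht : (Nat.totient N : ℂ) ≠ 0 := by exact_mod_cast (Nat.totient_pos.2 hN0).ne'
    have hC0 : (Nat.card C : ℂ) ≠ 0 := card_ne_zero'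
    push_cast
    rw [h1]
    field_simp
  obtain ⟨q, hq⟩ := hrat
  obtain ⟨z, hz⟩ := exists_int_of_isIntegral_rat (q := q) (hq ▸ hint)
  exact ⟨z, by rw [hq, ← hz]; push_cast; rfl⟩

/-- **Glauberman correspondence, cyclic operators**: the values on the coset are, up to sign, an
irreducible character of the fixed subgroup. -/
theorem exists_value (hcop : (Nat.card G).Coprime (orderOf s)) (htop : G ⊔ Subgroup.zpowers s = ⊤)
    (hrange : j.range = G ⊓ Subgroup.centralizer {s}) (hj : Function.Injective j) [Fintype G]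
    (χ : IrrCharacter Γ) (hχ : IsIrrCharacter G (fun g : G => (χ : Γ → ℂ) g))
    (hdet : (detOrder (χ : Γ → ℂ)).Coprime (orderOf s)) :
    ∃ (β : IrrCharacter C) (ε : ℤ), (ε = 1 ∨ ε = -1) ∧
      ∀ c : C, (χ : Γ → ℂ) (j c * s) = (ε : ℂ) * (β : C → ℂ) c := by
  classical
  choose z hz using coef_int hcop htop hrange hj χ hχ hdet
  have hcl : IsClassFunction C (fun c => (χ : Γ → ℂ) (j c * s)) := fun c x => by
    show (χ : Γ → ℂ) (j (x * c * x⁻¹) * s) = (χ : Γ → ℂ) (j c * s)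
    conv_rhs => rw [← irr_isClassFunction χ (j c * s) (j x)]
    congr 1
    rw [map_mul, map_mul, map_inv, mul_assoc (j x * j c) (j x)⁻¹ s,
      ((j_comm hrange x).inv_left).eq]
    group
  have hexp : (fun c => (χ : Γ → ℂ) (j c * s)) = ∑ γ, (z γ : ℂ) • (γ : C → ℂ) := by
    rw [classFunction_eq_sum hcl]
    simp only [hz]
  have hnorm := sum_value_mul_conj hcop htop hj hrange χ χ hχ (fun h => absurd rfl h)
  rw [hexp, classInner_sum_smul_sum_smul, if_pos rfl] at hnorm
  have hsq : ∑ γ, z γ * z γ = 1 := by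
    have : ((∑ γ, z γ * z γ : ℤ) : ℂ) = ((1 : ℤ) : ℂ) := by
      push_cast
      simpa using hnorm
    exact_mod_cast this
  obtain ⟨β, -, hβ⟩ : ∃ β ∈ (Finset.univ : Finset (IrrCharacter C)), z β * z β ≠ 0 :=
    Finset.exists_ne_zero_of_sum_ne_zero (by rw [hsq]; exact one_ne_zero)
  have hle : ∀ γ, 0 ≤ z γ * z γ := fun γ => mul_self_nonneg _
  have hsplit := Finset.add_sum_erase Finset.univ (fun γ => z γ * z γ) (Finset.mem_univ β)
  simp only [hsq] at hsplit
  have hrest : 0 ≤ ∑ γ ∈ Finset.univ.erase β, z γ * z γ := Finset.sum_nonneg fun γ _ => hle γ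
  have hb : z β * z β = 1 := by
    have := hle β
    omega
  have hz0 : ∀ γ, γ ≠ β → z γ = 0 := by
    intro γ hγ
    have h1 := (Finset.sum_eq_zero_iff_of_nonneg fun γ _ => hle γ).1
      (show ∑ γ ∈ Finset.univ.erase β, z γ * z γ = 0 by omega) γ
      (Finset.mem_erase.2 ⟨hγ, Finset.mem_univ _⟩)
    exact mul_self_eq_zero.1 h1
  refine ⟨β, z β, mul_self_eq_one_iff.1 hb, fun c => ?_⟩
  have h := congrFun hexp c
  rw [Finset.sum_apply, Finset.sum_eq_single β (fun γ _ hγ => by simp [hz0 γ hγ]) (by simp)] at h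
  simpa using h

theorem sign_irr_unique {β β' : IrrCharacter C} {ε ε' : ℤ} (hε : ε = 1 ∨ ε = -1)
    (h : ∀ c : C, (ε : ℂ) * (β : C → ℂ) c = (ε' : ℂ) * (β' : C → ℂ) c) : β = β' ∧ ε = ε' := by
  classical
  have h1 : classInner ((ε : ℂ) • (β : C → ℂ)) (β : C → ℂ) =
      classInner ((ε' : ℂ) • (β' : C → ℂ)) (β : C → ℂ) :=
    congrArg (fun f => classInner f (β : C → ℂ)) (funext h)
  rw [classInner_smul_left, classInner_smul_left, classInner_irr, classInner_irr, if_pos rfl,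
    mul_one] at h1
  by_cases hb : β' = β
  · rw [if_pos hb, mul_one] at h1
    exact ⟨hb.symm, by exact_mod_cast h1⟩
  · rw [if_neg hb, mul_zero] at h1
    rcases hε with rfl | rfl <;> norm_num at h1

/-- The character occurs in the restriction. -/
theorem value_constituent (hrange : j.range = G ⊓ Subgroup.centralizer {s}) (χ : IrrCharacter Γ)
    {β : IrrCharacter C} {ε : ℤ} (hε : ε = 1 ∨ ε = -1)
    (h : ∀ c : C, (χ : Γ → ℂ) (j c * s) = (ε : ℂ) * (β : C → ℂ) c) :
    classInner (fun c : C => (χ : Γ → ℂ) (j c)) (β : C → ℂ) ≠ 0 := by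
  classical
  let A : Subgroup Γ := Subgroup.zpowers s
  let Φ : C × A →* Γ := MonoidHom.noncommCoprod j A.subtype fun c x => by
    obtain ⟨i, hi⟩ := Subgroup.mem_zpowers_iff.1 x.2
    show Commute (j c) (x : Γ)
    rw [← hi]
    exact (j_comm hrange c).zpow_right i
  obtain ⟨m, hm⟩ := IsCharacter.exists_mult
    (coef_isCharacter (IsCharacter.comp (isCharacter_irr χ) Φ) β)
  have h1 := congrFun hm 1
  have h2 := congrFun hm ⟨s, Subgroup.mem_zpowers s⟩
  simp only [Function.comp_apply, Φ, MonoidHom.noncommCoprod_apply, Subgroup.coe_subtype,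
    OneMemClass.coe_one, mul_one, Finset.sum_apply, Pi.smul_apply, smul_eq_mul,
    irr_apply_one] at h1 h2
  rw [h1]
  intro h0
  have hz : ∀ η, m η = 0 := by
    intro η
    have h3 : ∑ η : IrrCharacter A, m η * degree (η : A → ℂ) = 0 := by exact_mod_cast h0
    have h4 := (Finset.sum_eq_zero_iff.1 h3) η (Finset.mem_univ _)
    exact (Nat.mul_eq_zero.1 h4).resolve_right (irr_degree_pos η).ne'
  rw [funext h, show (fun c => (ε : ℂ) * (β : C → ℂ) c) = (ε : ℂ) • (β : C → ℂ) from rfl,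
    classInner_smul_left, classInner_irr_self, mul_one] at h2
  simp only [hz, Nat.cast_zero, zero_mul, Finset.sum_const_zero] at h2
  rcases hε with rfl | rfl <;> norm_num at h2

end Core

end H12.Cyclic

namespace H12.Cyclic

open H12.Glauberman H12.InvConst H12.CoprimeCount

universe w'

variable {Γ : Type w'} [Group Γ] [Fintype Γ] (G S : Subgroup Γ) [Fintype G]

theorem normal_of_sup_eq_top (hnorm : ∀ s ∈ S, ∀ g ∈ G, s * g * s⁻¹ ∈ G) (htop : G ⊔ S = ⊤) :
    G.Normal :=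
  Subgroup.normalizer_eq_top_iff.1 (top_le_iff.1 (htop ▸ sup_le Subgroup.le_normalizer
    (Subgroup.le_normalizer_iff.2 fun s hs g hg => hnorm s hs g hg)))

theorem centralizer_eq_singleton {S : Subgroup Γ} {s : Γ} (hs : Subgroup.zpowers s = S) :
    Subgroup.centralizer (S : Set Γ) = Subgroup.centralizer {s} := by
  refine le_antisymm (Subgroup.centralizer_le (by
    rintro x rfl; exact hs ▸ Subgroup.mem_zpowers x)) fun x hx => ?_
  rw [Subgroup.mem_centralizer_iff]
  intro y hy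
  obtain ⟨i, rfl⟩ := Subgroup.mem_zpowers_iff.1 (hs.symm ▸ hy : y ∈ Subgroup.zpowers s)
  have h : Commute x s := Subgroup.mem_centralizer_singleton_iff.1 hx
  exact (h.zpow_right i).eq.symm

/-- An invariant character extends canonically. -/
theorem exists_extension (hnorm : ∀ s ∈ S, ∀ g ∈ G, s * g * s⁻¹ ∈ G)
    (hcop : (Nat.card G).Coprime (Nat.card S)) (htop : G ⊔ S = ⊤) (χ : IrrCharacter G)
    (hinv : Inv (conjHom G S hnorm) (χ : G → ℂ)) :
    ∃ χh : IrrCharacter Γ, (∀ g : G, (χh : Γ → ℂ) g = (χ : G → ℂ) g) ∧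
      (detOrder (χh : Γ → ℂ)).Coprime (Nat.card S) := by
  have hn : G.Normal := normal_of_sup_eq_top G S hnorm htop
  have hindex : G.index = Nat.card S := by
    have h1 := H1.card_sup_of_coprime (D := G) (H := S)
      (by rw [Subgroup.normalizer_eq_top]; exact le_top) hcop
    rw [htop, Subgroup.card_top, ← Subgroup.card_mul_index G] at h1
    exact Nat.eq_of_mul_eq_mul_left Nat.card_pos h1
  have hinvall : ∀ (x : Γ) (n : G),
      (χ : G → ℂ) ⟨x * n * x⁻¹, hn.conj_mem n n.2 x⟩ = (χ : G → ℂ) n := by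
    intro x n
    obtain ⟨g, hg, s, hs, rfl⟩ := Subgroup.mem_sup_of_normal_left.1
      (htop ▸ Subgroup.mem_top x : x ∈ G ⊔ S)
    rw [show (⟨g * s * n * (g * s)⁻¹, hn.conj_mem n n.2 _⟩ : G) =
      ⟨g, hg⟩ * conjHom G S hnorm ⟨s, hs⟩ n * (⟨g, hg⟩ : G)⁻¹ from Subtype.ext (by
        show g * s * n * (g * s)⁻¹ = g * (s * n * s⁻¹) * g⁻¹
        group)]
    rw [irr_isClassFunction χ _ ⟨g, hg⟩]
    exact hinv ⟨s, hs⟩ n
  obtain ⟨ψ, ⟨hψ, hres, hdet⟩, -⟩ := H14.exists_canonical_extension G (χ : G → ℂ) χ.2 hinvall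
    (degree (χ : G → ℂ)) (irr_apply_one χ) (by
      rw [hindex]
      exact (Nat.Coprime.mul_left (hcop.coprime_dvd_left (detOrder_dvd_card χ.2))
        (hcop.coprime_dvd_left (irr_degree_dvd_card χ))).symm)
  exact ⟨⟨ψ, hψ⟩, hres, by rw [hdet]; exact hcop.coprime_dvd_left (detOrder_dvd_card χ.2)⟩

/-- The values at all generators. -/
theorem exists_value_generators (hnorm : ∀ s ∈ S, ∀ g ∈ G, s * g * s⁻¹ ∈ G)
    (hcop : (Nat.card G).Coprime (Nat.card S)) (htop : G ⊔ S = ⊤) (hcyc : IsCyclic S)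
    (C : Subgroup Γ) [Fintype C] (hC : C = G ⊓ Subgroup.centralizer (S : Set Γ))
    (χh : IrrCharacter Γ) (hχ : IsIrrCharacter G (fun g : G => (χh : Γ → ℂ) g))
    (hdet : (detOrder (χh : Γ → ℂ)).Coprime (Nat.card S)) :
    ∃ (β : IrrCharacter C) (ε : ℤ), (ε = 1 ∨ ε = -1) ∧
      (∀ c : C, ∀ s : Γ, Subgroup.zpowers s = S →
        (χh : Γ → ℂ) ((c : Γ) * s) = (ε : ℂ) * (β : C → ℂ) c) ∧
      classInner (fun c : C => (χh : Γ → ℂ) c) (β : C → ℂ) ≠ 0 := by
  have hn : G.Normal := normal_of_sup_eq_top G S hnorm htop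
  obtain ⟨s, hs⟩ := S.isCyclic_iff_exists_zpowers_eq_top.1 hcyc
  have hord : orderOf s = Nat.card S := by rw [← Nat.card_zpowers, hs]
  have hrange : C.subtype.range = G ⊓ Subgroup.centralizer {s} := by
    rw [Subgroup.range_subtype, hC, centralizer_eq_singleton hs]
  rw [← hord] at hcop hdet
  have htop' : G ⊔ Subgroup.zpowers s = ⊤ := by rw [hs]; exact htop
  obtain ⟨β, ε, hε, hval⟩ := exists_value hcop htop' hrange C.subtype_injective χh hχ hdet
  refine ⟨β, ε, hε, fun c t ht => ?_, value_constituent hrange χh hε hval⟩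
  rw [← hval c]
  obtain ⟨i, hi⟩ := mem_powers_iff_mem_zpowers.2
    (show t ∈ Subgroup.zpowers s by rw [hs, ← ht]; exact Subgroup.mem_zpowers t)
  have hi' : s ^ i = t := hi
  subst hi'
  refine value_pow hcop htop' hrange χh hχ hdet c ?_
  have h1 : orderOf (s ^ i) = orderOf s := by rw [← Nat.card_zpowers, ht, hord]
  rw [orderOf_pow] at h1
  exact Nat.Coprime.symm (((Nat.div_eq_self).1 h1).resolve_left (orderOf_pos s).ne')

end H12.Cyclic
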