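import Cfsg.Agent.H12.Glauberman
import Cfsg.Agent.H12.Linear
import Cfsg.Agent.H12.InvConstituents

/-!
Characters of a cyclic group with values `±1` away from the identity.
-/

set_option autoImplicit false
set_option linter.unusedSectionVars false

open Cfsg
open scoped ComplexConjugate

namespace H12.SignedVirtual

open H12.Glauberman

universe u

theorem isIntegral_int (z : ℤ) : IsIntegral ℤ (z : ℂ) := by
  simpa using isIntegral_algebraMap (R := ℤ) (A := ℂ) (x := z)

section CongPow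

variable {p : ℕ} [hp : Fact p.Prime]

theorem cong_int_mul {a b : ℤ} (h : (a : ZMod p) = (b : ZMod p)) {c : ℂ} (hc : IsIntegral ℤ c) :
    Cong p ((a : ℂ) * c) ((b : ℂ) * c) := by
  obtain ⟨z, hz⟩ : (p : ℤ) ∣ a - b := by
    rw [← ZMod.intCast_zmod_eq_zero_iff_dvd, Int.cast_sub, sub_eq_zero]; exact h
  have hp0 : (p : ℂ) ≠ 0 := by exact_mod_cast hp.out.ne_zero
  have hz' : (a : ℂ) - (b : ℂ) = (p : ℂ) * (z : ℂ) := by exact_mod_cast hz
  rw [Cong, ← sub_mul, hz', mul_assoc, mul_div_cancel_left₀ _ hp0]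
  exact (isIntegral_int z).mul hc

theorem cong_sum_pow {ι : Type*} (s : Finset ι) (f : ι → ℂ) (hf : ∀ i, IsIntegral ℤ (f i))
    (k : ℕ) : Cong p ((∑ i ∈ s, f i) ^ p ^ k) (∑ i ∈ s, f i ^ p ^ k) := by
  classical
  have hadd : ∀ a b : ℂ, IsIntegral ℤ a → IsIntegral ℤ b →
      Cong p ((a + b) ^ p ^ k) (a ^ p ^ k + b ^ p ^ k) := by
    intro a b ha hb
    obtain ⟨r, hr⟩ := exists_add_pow_prime_pow_eq (R := integralClosure ℤ ℂ) hp.out ⟨a, ha⟩ ⟨b, hb⟩ k
    have h1 := congrArg Subtype.val hr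
    push_cast at h1
    have hp0 : (p : ℂ) ≠ 0 := by exact_mod_cast hp.out.ne_zero
    rw [Cong, h1, add_sub_cancel_left, mul_assoc, mul_assoc, mul_div_cancel_left₀ _ hp0]
    exact ha.mul (hb.mul r.2)
  induction s using Finset.induction with
  | empty => simpa [zero_pow (pow_ne_zero k hp.out.ne_zero)] using Cong.refl 0
  | insert i s hi ih =>
    rw [Finset.sum_insert hi, Finset.sum_insert hi]
    refine (hadd _ _ (hf i) (IsIntegral.sum _ fun j _ => hf j)).trans ?_
    unfold Cong at ih ⊢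
    rwa [add_sub_add_left_eq_sub]

end CongPow

variable {A : Type u} [CommGroup A] [Fintype A]

theorem irr_eq_hom (l : IrrCharacter A) : ∃ f : A →* ℂˣ, ∀ a, (f a : ℂ) = (l : A → ℂ) a := by
  obtain ⟨f, hf⟩ := exists_monoidHom_of_apply_one_eq_one (isCharacter_irr l)
    (irr_apply_one_of_comm mul_comm l)
  exact ⟨f, congrFun hf⟩

theorem irr_one (l : IrrCharacter A) : (l : A → ℂ) 1 = 1 := irr_apply_one_of_comm mul_comm l

theorem irr_mul (l : IrrCharacter A) (a b : A) :
    (l : A → ℂ) (a * b) = (l : A → ℂ) a * (l : A → ℂ) b := by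
  obtain ⟨f, hf⟩ := irr_eq_hom l
  rw [← hf, ← hf, ← hf, map_mul, Units.val_mul]

theorem irr_pow (l : IrrCharacter A) (a : A) (k : ℕ) :
    (l : A → ℂ) (a ^ k) = (l : A → ℂ) a ^ k := by
  obtain ⟨f, hf⟩ := irr_eq_hom l
  rw [← hf, ← hf, map_pow, Units.val_pow_eq_pow_val]

/-- An integral character is constant modulo `p` on cosets of `p`-elements. -/
theorem value_congr {p : ℕ} [hp : Fact p.Prime] {X : A → ℤ}
    (hX : IsCharacter A (fun a => (X a : ℂ))) {x y : A} {k : ℕ} (hy : y ^ p ^ k = 1) :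
    (X (x * y) : ZMod p) = (X x : ZMod p) := by
  classical
  obtain ⟨m, hm⟩ := IsCharacter.exists_mult hX
  have hval : ∀ a, (X a : ℂ) = ∑ l, (m l : ℂ) * (l : A → ℂ) a := fun a => by
    have := congrFun hm a
    simpa using this
  have key : ∀ a, Cong p ((X a : ℂ) ^ p ^ k) (X (a ^ p ^ k) : ℂ) := by
    intro a
    rw [hval, hval]
    refine (cong_sum_pow _ _ (fun l => (isIntegral_nat _).mul
      (IsCharacter.isIntegral (isCharacter_irr l) a)) k).trans (Cong.sum _ fun l _ => ?_)
    rw [mul_pow, irr_pow, show ((m l : ℂ) ^ p ^ k) = (((m l : ℤ) ^ p ^ k : ℤ) : ℂ) by push_cast; rfl,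
      show ((m l : ℂ)) = ((m l : ℤ) : ℂ) by push_cast; rfl]
    exact cong_int_mul (by push_cast; rw [ZMod.pow_card_pow])
      ((IsCharacter.isIntegral (isCharacter_irr l) a).pow _)
  have h1 := key (x * y)
  rw [mul_pow, hy, mul_one] at h1
  have h2 : Cong p (((X (x * y)) ^ p ^ k : ℤ) : ℂ) (((X x) ^ p ^ k : ℤ) : ℂ) := by
    push_cast
    exact h1.trans (key x).symm
  have h3 := Cong.zmod_eq h2
  push_cast at h3
  rwa [ZMod.pow_card_pow, ZMod.pow_card_pow] at h3

/-- A function on the non-trivial elements of a cyclic group, invariant under multiplication by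
`p`-elements for the primes `p` of a set, only depends on the other primary parts. -/
theorem eq_of_steps {T : Type*} (F : A → T) {g : A} (s : Finset ℕ)
    (hs : ∀ p ∈ s, p.Prime ∧ p ∣ orderOf g)
    (hstep : ∀ p ∈ s, ∀ (x y : A) (k : ℕ), x ≠ 1 → x * y ≠ 1 → y ^ p ^ k = 1 → F (x * y) = F x) :
    ∀ i j : ℕ, g ^ i ≠ 1 → g ^ j ≠ 1 → (∀ p ∈ s, j ≡ 1 [MOD p ^ (orderOf g).factorization p]) →
      (∀ p, p.Prime → p ∉ s → i ≡ j [MOD p ^ (orderOf g).factorization p]) → F (g ^ i) = F (g ^ j) := by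
  classical
  induction s using Finset.induction with
  | empty =>
    intro i j _ _ _ h
    congr 1
    rw [pow_eq_pow_iff_modEq]
    have hn := orderOf_pos g
    rw [Nat.modEq_iff_dvd]
    have key : ∀ p, p.Prime → ((p ^ (orderOf g).factorization p : ℕ) : ℤ) ∣ (j : ℤ) - i := fun p hp =>
      Nat.modEq_iff_dvd.1 (h p hp (Finset.notMem_empty p))
    rw [← Int.dvd_natAbs, Int.natCast_dvd_natCast]
    rcases Nat.eq_zero_or_pos (((j : ℤ) - i).natAbs) with h0 | h0
    · rw [h0]; exact dvd_zero _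
    rw [← Nat.factorization_le_iff_dvd hn.ne' h0.ne']
    intro p
    by_cases hp : p.Prime
    · refine (hp.pow_dvd_iff_le_factorization h0.ne').1 ?_
      rw [← Int.natCast_dvd_natCast, Int.dvd_natAbs]
      exact key p hp
    · rw [Nat.factorization_eq_zero_of_not_prime _ hp]; exact Nat.zero_le _
  | insert p s hps ih =>
    intro i j hi hj hj1 hij
    obtain ⟨hp, hpn⟩ := hs p (Finset.mem_insert_self p s)
    set n := orderOf g with hn
    set P := p ^ n.factorization p with hP
    have hn0 : n ≠ 0 := (orderOf_pos g).ne'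
    have hPn : P ∣ n := Nat.ordProj_dvd n p
    have hcop : (n / P).Coprime P :=
      (Nat.Coprime.pow_right _ (Nat.coprime_ordCompl hp hn0).symm)
    obtain ⟨i', hi'1, hi'2⟩ := Nat.chineseRemainder hcop i 1
    have hpos : 0 < n.factorization p := hp.factorization_pos_of_dvd hn0 hpn
    have hi'0 : g ^ i' ≠ 1 := by
      intro h
      have h1 : n ∣ i' := orderOf_dvd_of_pow_eq_one h
      have h2 : p ∣ i' := hpn.trans h1
      have h3 : i' ≡ 1 [MOD p] := hi'2.of_dvd (dvd_pow_self p hpos.ne')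
      exact hp.not_dvd_one ((h3.dvd_iff dvd_rfl).1 h2)
    obtain ⟨t, ht⟩ : ∃ t : A, g ^ i * t = g ^ i' := ⟨(g ^ i)⁻¹ * g ^ i', mul_inv_cancel_left _ _⟩
    have htp : t ^ P = 1 := by
      have h1 : (g ^ i * t) ^ P = (g ^ i') ^ P := by rw [ht]
      rw [mul_pow, ← pow_mul, ← pow_mul] at h1
      have h2 : g ^ (i * P) = g ^ (i' * P) := by
        rw [pow_eq_pow_iff_modEq, ← hn]
        have h3 : i * P ≡ i' * P [MOD (n / P) * P] := Nat.ModEq.mul_right' P hi'1.symm
        rwa [Nat.div_mul_cancel hPn] at h3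
      rw [← h2] at h1
      exact mul_eq_left.1 h1
    have hstep1 : F (g ^ i') = F (g ^ i) := by
      rw [← ht]
      exact hstep p (Finset.mem_insert_self p s) (g ^ i) t _ hi (by rw [ht]; exact hi'0) htp
    rw [← hstep1]
    refine ih (fun q hq => hs q (Finset.mem_insert_of_mem hq))
      (fun q hq => hstep q (Finset.mem_insert_of_mem hq)) i' j hi'0 hj
      (fun q hq => hj1 q (Finset.mem_insert_of_mem hq)) (fun q hq hqs => ?_)
    by_cases hqp : q = p
    · subst hqp
      exact hi'2.trans (hj1 q (Finset.mem_insert_self q s)).symm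
    · refine (hi'1.of_dvd ?_).trans (hij q hq (by simp [hqp, hqs]))
      refine Nat.Coprime.dvd_of_dvd_mul_right (Nat.Coprime.pow _ (n.factorization p) ((Nat.coprime_primes hq hp).2 hqp)) ?_
      rw [Nat.div_mul_cancel hPn]
      exact Nat.ordProj_dvd n q

/-- Any two non-trivial elements of a cyclic group are linked by steps by elements of prime power
order. -/
theorem eq_of_all_steps {T : Type*} (F : A → T) {g : A} (hg : ∀ a, a ∈ Subgroup.zpowers g)
    (hstep : ∀ p : ℕ, p.Prime → ∀ (x y : A) (k : ℕ), x ≠ 1 → x * y ≠ 1 → y ^ p ^ k = 1 →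
      F (x * y) = F x) {x : A} (hx : x ≠ 1) : F x = F g := by
  obtain ⟨i, hi⟩ := mem_powers_iff_mem_zpowers.2 (hg x)
  have hi' : g ^ i = x := hi
  subst hi'
  have hg1 : g ≠ 1 := fun h => hx (by rw [h, one_pow])
  have := eq_of_steps F (g := g) (orderOf g).primeFactors
    (fun p hp => ⟨Nat.prime_of_mem_primeFactors hp, Nat.dvd_of_mem_primeFactors hp⟩)
    (fun p hp => hstep p (Nat.prime_of_mem_primeFactors hp)) i 1 hx (by rwa [pow_one])
    (fun p _ => rfl) (fun p hp hps => by
      rw [Nat.factorization_eq_zero_of_not_dvd (fun h => hps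
        (Nat.mem_primeFactors.2 ⟨hp, h, (orderOf_pos g).ne'⟩)), pow_zero]
      exact Nat.modEq_one)
  rwa [pow_one] at this

open scoped Classical in
theorem shifted_eq {X : A → ℤ} (hX : IsCharacter A (fun a => (X a : ℂ))) (l : IrrCharacter A)
    (e : ℤ) : ∃ z : ℕ, (Nat.card A : ℂ) * (z : ℂ) =
      ((X 1 - e : ℤ) : ℂ) + ∑ a : A, ((if a = 1 then e else X a : ℤ) : ℂ) * conj ((l : A → ℂ) a) := by
  classical
  obtain ⟨z, hz⟩ := IsCharacter.classInner_nat hX (isCharacter_irr l)
  refine ⟨z, ?_⟩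
  rw [← hz, ← sum_mul_conj_eq_card_mul]
  have : ∀ a : A, ((X a : ℤ) : ℂ) * conj ((l : A → ℂ) a) =
      (if a = 1 then ((X 1 - e : ℤ) : ℂ) else 0) +
        ((if a = 1 then e else X a : ℤ) : ℂ) * conj ((l : A → ℂ) a) := by
    intro a
    split_ifs with ha
    · subst ha; rw [irr_one, map_one]; push_cast; ring
    · rw [zero_add]
  simp only [this, Finset.sum_add_distrib, Finset.sum_ite_eq', Finset.mem_univ, if_true]

/-- The extended sign function is a sign times a linear character once the congruence holds. -/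
theorem exists_linear_of_dvd {X : A → ℤ} (hX : IsCharacter A (fun a => (X a : ℂ)))
    (h1 : ∀ a, a ≠ 1 → X a = 1 ∨ X a = -1) {e : ℤ} (he : e = 1 ∨ e = -1)
    (hdvd : (Nat.card A : ℤ) ∣ X 1 - e) :
    ∃ μ : IrrCharacter A, (∀ a, (μ : A → ℂ) a * (μ : A → ℂ) a = 1) ∧
      ∀ a, a ≠ 1 → (X a : ℂ) = (e : ℂ) * (μ : A → ℂ) a := by
  classical
  obtain ⟨q, hq⟩ := hdvd
  let h : A → ℤ := fun a => if a = 1 then e else X a
  have hh : ∀ a, h a = 1 ∨ h a = -1 := fun a => by
    simp only [h]; split_ifs with ha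
    · exact he
    · exact h1 a ha
  choose z hz using fun l => shifted_eq hX l e
  let c : IrrCharacter A → ℤ := fun l => (z l : ℤ) - q
  have hc : ∀ l : IrrCharacter A, classInner (fun a => (h a : ℂ)) (l : A → ℂ) = (c l : ℂ) := by
    intro l
    have h2 := hz l
    rw [hq, sum_mul_conj_eq_card_mul] at h2
    apply mul_left_cancel₀ (card_ne_zero' (G := A))
    simp only [c, h]
    push_cast at h2 ⊢
    linear_combination -h2
  have hcl : IsClassFunction A (fun a => (h a : ℂ)) := fun a b => by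
    show (h (b * a * b⁻¹) : ℂ) = _
    rw [mul_comm b a, mul_inv_cancel_right]
  have hexp := classFunction_eq_sum hcl
  simp only [hc] at hexp
  have hnorm : classInner (fun a => (h a : ℂ)) (fun a => (h a : ℂ)) = 1 := by
    rw [classInner_def, Finset.sum_congr rfl (fun a _ =>
      show (h a : ℂ) * conj (h a : ℂ) = 1 by rcases hh a with e | e <;> simp [e])]
    simp [Nat.card_eq_fintype_card]
  rw [hexp, classInner_sum_smul_sum_smul] at hnorm
  have hsq : ∑ l, c l * c l = 1 := by
    have : ((∑ l, c l * c l : ℤ) : ℂ) = ((1 : ℤ) : ℂ) := by push_cast; simpa using hnorm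
    exact_mod_cast this
  obtain ⟨l₀, -, hl₀⟩ : ∃ l ∈ (Finset.univ : Finset (IrrCharacter A)), c l * c l ≠ 0 :=
    Finset.exists_ne_zero_of_sum_ne_zero (by rw [hsq]; exact one_ne_zero)
  have hsplit := Finset.add_sum_erase Finset.univ (fun l => c l * c l) (Finset.mem_univ l₀)
  simp only [hsq] at hsplit
  have hnn : ∀ l, 0 ≤ c l * c l := fun l => mul_self_nonneg _
  have hrest : 0 ≤ ∑ l ∈ Finset.univ.erase l₀, c l * c l := Finset.sum_nonneg fun l _ => hnn l
  have hzero : ∀ l, l ≠ l₀ → c l = 0 := fun l hl => by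
    have := hnn l₀
    exact mul_self_eq_zero.1 ((Finset.sum_eq_zero_iff_of_nonneg fun l _ => hnn l).1
      (show ∑ l ∈ Finset.univ.erase l₀, c l * c l = 0 by omega) l
      (Finset.mem_erase.2 ⟨hl, Finset.mem_univ _⟩))
  have hval : ∀ a, (h a : ℂ) = (c l₀ : ℂ) * (l₀ : A → ℂ) a := fun a => by
    have := congrFun hexp a
    rw [Finset.sum_apply, Finset.sum_eq_single l₀ (fun l _ hl => by simp [hzero l hl]) (by simp)] at this
    simpa using this
  have hce : (c l₀ : ℂ) = (e : ℂ) := by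
    have := hval 1
    simpa [h, irr_one] using this.symm
  refine ⟨l₀, fun a => ?_, fun a ha => ?_⟩
  · have hsq1 : (h a : ℂ) * (h a : ℂ) = 1 := by rcases hh a with e | e <;> simp [e]
    have hee : (e : ℂ) * (e : ℂ) = 1 := by rcases he with e | e <;> simp [e]
    rw [hval, hce] at hsq1
    linear_combination hsq1 - (l₀ : A → ℂ) a * (l₀ : A → ℂ) a * hee
  · rw [← hce, ← hval]
    simp [h, ha]

/-- A character of a cyclic group with values `±1` away from `1` is, up to a multiple of the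
regular character, a sign times a quadratic character. -/
theorem exists_sign_linear {X : A → ℤ} (hX : IsCharacter A (fun a => (X a : ℂ))) {g : A}
    (hg : ∀ a, a ∈ Subgroup.zpowers g) (h1 : ∀ a, a ≠ 1 → X a = 1 ∨ X a = -1) :
    ∃ (e : ℤ) (μ : IrrCharacter A), (e = 1 ∨ e = -1) ∧ (∀ a, (μ : A → ℂ) a * (μ : A → ℂ) a = 1) ∧
      (∀ a, a ≠ 1 → (X a : ℂ) = (e : ℂ) * (μ : A → ℂ) a) ∧ (Nat.card A : ℤ) ∣ X 1 - e := by
  classical
  suffices h : ∃ e : ℤ, (e = 1 ∨ e = -1) ∧ (Nat.card A : ℤ) ∣ X 1 - e by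
    obtain ⟨e, he, hd⟩ := h
    obtain ⟨μ, hμ1, hμ2⟩ := exists_linear_of_dvd hX h1 he hd
    exact ⟨e, μ, he, hμ1, hμ2, hd⟩
  set n := Nat.card A with hn
  have hord : orderOf g = n := orderOf_eq_card_of_forall_mem_zpowers hg
  have hn0 : n ≠ 0 := Nat.card_pos.ne'
  by_cases hodd : ∃ p, p.Prime ∧ p ≠ 2 ∧ p ∣ n
  · obtain ⟨p, hp, hp2, hpn⟩ := hodd
    let s : Finset ℕ := n.primeFactors.filter (· ≠ 2)
    let T := 2 ^ n.factorization 2
    let v := g ^ T
    have hTn : T ∣ n := Nat.ordProj_dvd n 2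
    have hv : v ≠ 1 := fun h => by
      have h1 : n ∣ T := hord ▸ orderOf_dvd_of_pow_eq_one h
      exact hp2 ((Nat.prime_dvd_prime_iff_eq hp Nat.prime_two).1 (hp.dvd_of_dvd_pow (hpn.trans h1)))
    have hstep : ∀ q ∈ s, ∀ (x y : A) (k : ℕ), x ≠ 1 → x * y ≠ 1 → y ^ q ^ k = 1 →
        X (x * y) = X x := by
      intro q hq x y k hx hxy hy
      obtain ⟨hq1, hq2⟩ := Finset.mem_filter.1 hq
      haveI := Fact.mk (Nat.prime_of_mem_primeFactors hq1)
      have hc := value_congr hX (x := x) hy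
      rw [ZMod.intCast_eq_intCast_iff, Int.modEq_iff_dvd] at hc
      have hq3 : 3 ≤ q := by
        have := (Nat.prime_of_mem_primeFactors hq1).two_le
        omega
      rcases h1 x hx with e1 | e1 <;> rcases h1 (x * y) hxy with e2 | e2 <;>
        rw [e1, e2] at hc ⊢
      all_goals
        have h2 := Nat.le_of_dvd (by norm_num) (Int.natCast_dvd.1 hc)
        norm_num at h2
        omega
    have hfun : ∀ i j : ℕ, g ^ i ≠ 1 → g ^ j ≠ 1 → i ≡ j [MOD T] → X (g ^ i) = X (g ^ j) := by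
      intro i j hi hj hij
      have hcop : (n / T).Coprime T :=
        Nat.Coprime.pow_right _ (Nat.coprime_ordCompl Nat.prime_two hn0).symm
      obtain ⟨t, ht1, ht2⟩ := Nat.chineseRemainder hcop 1 i
      have hts : ∀ q ∈ s, t ≡ 1 [MOD q ^ (orderOf g).factorization q] := by
        intro q hq
        obtain ⟨hq1, hq2⟩ := Finset.mem_filter.1 hq
        rw [hord]
        refine ht1.of_dvd (Nat.Coprime.dvd_of_dvd_mul_right
          (Nat.Coprime.pow _ (n.factorization 2) ((Nat.coprime_primes (Nat.prime_of_mem_primeFactors hq1) Nat.prime_two).2 hq2)) ?_)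
        rw [Nat.div_mul_cancel hTn]
        exact Nat.ordProj_dvd n q
      have ht0 : g ^ t ≠ 1 := by
        intro h
        have hps : p ∈ s := Finset.mem_filter.2 ⟨Nat.mem_primeFactors.2 ⟨hp, hpn, hn0⟩, hp2⟩
        have h3 := (hts p hps).of_dvd (dvd_pow_self p
          (hp.factorization_pos_of_dvd (hord ▸ hn0) (hord ▸ hpn)).ne')
        exact hp.not_dvd_one ((h3.dvd_iff dvd_rfl).1 (hpn.trans (hord ▸ orderOf_dvd_of_pow_eq_one h)))
      have hgo : ∀ i', g ^ i' ≠ 1 → i' ≡ i [MOD T] → X (g ^ i') = X (g ^ t) := fun i' hi' hii =>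
        eq_of_steps X s (fun q hq => ⟨Nat.prime_of_mem_primeFactors (Finset.mem_filter.1 hq).1,
            hord ▸ Nat.dvd_of_mem_primeFactors (Finset.mem_filter.1 hq).1⟩) hstep i' t hi' ht0 hts
          (fun q hq hqs => by
            rw [hord]
            by_cases hq2 : q = 2
            · subst hq2; exact hii.trans ht2.symm
            · rw [Nat.factorization_eq_zero_of_not_dvd (fun hd => hqs (Finset.mem_filter.2
                ⟨Nat.mem_primeFactors.2 ⟨hq, hd, hn0⟩, hq2⟩)), pow_zero]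
              exact Nat.modEq_one)
      exact (hgo i hi rfl).trans (hgo j hj hij.symm).symm
    refine ⟨X v, h1 v hv, ?_⟩
    obtain ⟨l, hl⟩ : ∃ l : IrrCharacter A, (l : A → ℂ) v ≠ 1 := by
      by_contra hcon
      push Not at hcon
      exact hv (isConj_iff_eq.1 ((isConj_iff_irr v 1).2 fun χ => by rw [hcon χ, irr_one]))
    obtain ⟨z, hz⟩ := shifted_eq hX l (X v)
    let h : A → ℤ := fun a => if a = 1 then X v else X a
    have hinv : ∀ a, h (v * a) = h a := by
      intro a
      obtain ⟨i, hi⟩ := mem_powers_iff_mem_zpowers.2 (hg a)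
      have hi' : g ^ i = a := hi
      subst hi'
      have hmul : v * g ^ i = g ^ (T + i) := (pow_add g T i).symm
      have hmod : T + i ≡ i [MOD T] := Nat.add_modEq_left
      rw [hmul]
      simp only [h]
      split_ifs with h2 h3 h3
      · rfl
      · refine (hfun T i hv h3 ?_)
        have h4 : T + i ≡ 0 [MOD T] :=
          (Nat.modEq_zero_iff_dvd.2 (hord ▸ orderOf_dvd_of_pow_eq_one h2 : n ∣ T + i)).of_dvd hTn
        exact (Nat.modEq_zero_iff_dvd.2 dvd_rfl).trans (hmod.symm.trans h4).symm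
      · refine (hfun T (T + i) hv h2 ?_).symm
        have h4 : i ≡ 0 [MOD T] :=
          (Nat.modEq_zero_iff_dvd.2 (hord ▸ orderOf_dvd_of_pow_eq_one h3 : n ∣ i)).of_dvd hTn
        exact (Nat.modEq_zero_iff_dvd.2 dvd_rfl).trans (hmod.trans h4).symm
      · exact hfun (T + i) i h2 h3 hmod
    have hS : ∑ a : A, (h a : ℂ) * conj ((l : A → ℂ) a) = 0 := by
      have h2 : ∑ a : A, (h a : ℂ) * conj ((l : A → ℂ) a) =
          conj ((l : A → ℂ) v) * ∑ a : A, (h a : ℂ) * conj ((l : A → ℂ) a) := by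
        rw [Finset.mul_sum]
        refine (Fintype.sum_equiv (Equiv.mulLeft v) _ _ fun a => ?_).symm
        show _ = (h (v * a) : ℂ) * conj ((l : A → ℂ) (v * a))
        rw [hinv, irr_mul, map_mul]; ring
      by_contra hne
      refine hl ((starRingEnd ℂ).injective ?_)
      rw [map_one]
      exact mul_right_cancel₀ hne (by rw [← h2, one_mul])
    rw [hS, add_zero] at hz
    exact ⟨(z : ℤ), by exact_mod_cast hz.symm⟩
  · -- the order is a power of two
    push Not at hodd
    obtain ⟨k, hk⟩ : ∃ k, n = 2 ^ k := ⟨_,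
      Nat.eq_prime_pow_of_unique_prime_dvd hn0 fun {q} hq hqn => by
        by_contra h; exact hodd q hq h hqn⟩
    choose z hz using fun l => shifted_eq hX l 0
    have hsq : (n : ℤ) ∣ X 1 * X 1 - 1 := by
      obtain ⟨m, hm⟩ := IsCharacter.exists_mult hX
      have h2 : classInner (fun a => (X a : ℂ)) (fun a => (X a : ℂ)) =
          ((∑ l, m l * m l : ℕ) : ℂ) := by
        rw [hm, classInner_sum_smul_sum_smul]; simp
      have h3 : ((n : ℤ) * (∑ l, (m l : ℤ) * (m l : ℤ)) : ℤ) = ∑ a, X a * X a := by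
        have h4 := sum_mul_conj_eq_card_mul (fun a : A => (X a : ℂ)) (fun a : A => (X a : ℂ))
        rw [h2] at h4
        have h5 : ((∑ a, X a * X a : ℤ) : ℂ) = ((n : ℤ) * ∑ l, (m l : ℤ) * (m l : ℤ) : ℤ) := by
          push_cast at h4 ⊢
          simpa [hn, Nat.card_eq_fintype_card] using h4
        exact_mod_cast h5.symm
      have h6 : ∑ a, X a * X a = X 1 * X 1 - 1 + (n : ℤ) := by
        rw [← Finset.add_sum_erase _ _ (Finset.mem_univ (1 : A)),
          Finset.sum_congr rfl (fun a ha => show X a * X a = 1 by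
            rcases h1 a (Finset.mem_erase.1 ha).1 with e | e <;> rw [e] <;> rfl),
          Finset.sum_const, Finset.card_erase_of_mem (Finset.mem_univ _), Finset.card_univ,
          ← Nat.card_eq_fintype_card, ← hn, nsmul_eq_mul, mul_one,
          Nat.cast_sub (Nat.one_le_iff_ne_zero.2 hn0)]
        push_cast; ring
      exact ⟨(∑ l, (m l : ℤ) * (m l : ℤ)) - 1, by rw [mul_sub, mul_one, h3, h6]; ring⟩
    rcases Nat.eq_zero_or_pos k with rfl | hk0
    · exact ⟨1, Or.inl rfl, by rw [hk]; exact ⟨X 1 - 1, by push_cast; ring⟩⟩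
    by_contra hcon
    push Not at hcon
    obtain ⟨k', rfl⟩ : ∃ k', k = k' + 1 := ⟨k - 1, by omega⟩
    have hd1 := hcon 1 (Or.inl rfl)
    have hd2 := hcon (-1) (Or.inr rfl)
    rw [hk] at hsq hd1 hd2
    push_cast at hsq hd1 hd2
    rw [sub_neg_eq_add] at hd2
    -- exactly one of the two neighbours of `X 1` is divisible by four
    have h2dvd : (2 : ℤ) ∣ X 1 * X 1 - 1 := (dvd_pow_self 2 (Nat.succ_ne_zero k')).trans hsq
    have hodd1 : X 1 % 2 = 1 := by
      rcases Int.emod_two_eq (X 1) with h | h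
      · exfalso
        obtain ⟨c, hc⟩ := Int.dvd_of_emod_eq_zero h
        rw [hc, show 2 * c * (2 * c) - 1 = 2 * (2 * c * c) - 1 by ring] at h2dvd
        omega
      · exact h
    obtain ⟨c, hc⟩ : ∃ c, X 1 = 2 * c + 1 := ⟨X 1 / 2, by omega⟩
    have hd12 : (2 : ℤ) ^ k' ∣ 2 * c * (c + 1) := by
      have h : X 1 * X 1 - 1 = 2 * (2 * c * (c + 1)) := by rw [hc]; ring
      rw [h, pow_succ'] at hsq
      exact Int.dvd_of_mul_dvd_mul_left two_ne_zero hsq
    have hce : ∃ e : ℤ, (e = 1 ∨ e = -1) ∧ (2 : ℤ) ^ k' ∣ X 1 - e := by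
      rcases Int.even_or_odd c with ⟨d, hd⟩ | ⟨d, hd⟩
      · refine ⟨1, Or.inl rfl, ?_⟩
        have hcop : IsCoprime ((2 : ℤ) ^ k') (c + 1) :=
          IsCoprime.pow_left ⟨-d, 1, by rw [hd]; ring⟩
        have := hcop.dvd_of_dvd_mul_right hd12
        rwa [hc, add_sub_cancel_right]
      · refine ⟨-1, Or.inr rfl, ?_⟩
        have hcop : IsCoprime ((2 : ℤ) ^ k') c :=
          IsCoprime.pow_left ⟨-d, 1, by rw [hd]; ring⟩
        rw [show 2 * c * (c + 1) = 2 * (c + 1) * c by ring] at hd12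
        have := hcop.dvd_of_dvd_mul_right hd12
        rwa [hc, show 2 * c + 1 - -1 = 2 * (c + 1) by ring]
    obtain ⟨e, he, q, hq⟩ := hce
    choose w hw using fun l => shifted_eq hX l e
    have hqodd : q % 2 = 1 := by
      by_contra h
      obtain ⟨q', hq'⟩ : (2 : ℤ) ∣ q := Int.dvd_of_emod_eq_zero (by omega)
      have : (2 : ℤ) ^ (k' + 1) ∣ X 1 - e := ⟨q', by rw [hq, hq', pow_succ]; ring⟩
      rcases he with rfl | rfl
      · exact hd1 this
      · exact hd2 (by rwa [sub_neg_eq_add] at this)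
    let h : A → ℤ := fun a => if a = 1 then e else X a
    have hcoef : ∀ l : IrrCharacter A, (2 : ℂ) * classInner (fun a => (h a : ℂ)) (l : A → ℂ) =
        ((2 * (w l : ℤ) - q : ℤ) : ℂ) := by
      intro l
      have h2 := hw l
      rw [hq, sum_mul_conj_eq_card_mul, ← hn, hk] at h2
      simp only [h]
      push_cast at h2 ⊢
      apply mul_left_cancel₀ (pow_ne_zero k' (two_ne_zero : (2 : ℂ) ≠ 0))
      rw [pow_succ] at h2
      linear_combination -h2
    have hnorm : classInner (fun a => (h a : ℂ)) (fun a => (h a : ℂ)) = 1 := by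
      rw [classInner_def, Finset.sum_congr rfl (fun a _ =>
        show (h a : ℂ) * conj (h a : ℂ) = 1 by
          simp only [h]; split_ifs with ha
          · rcases he with e | e <;> simp [e]
          · rcases h1 a ha with e | e <;> simp [e])]
      simp [Nat.card_eq_fintype_card]
    have hcl : IsClassFunction A (fun a => (h a : ℂ)) := fun a b => by
      show (h (b * a * b⁻¹) : ℂ) = _
      rw [mul_comm b a, mul_inv_cancel_right]
    rw [classInner_eq_sum_mul hcl hcl] at hnorm
    have hfour : ∑ l : IrrCharacter A, (2 * (w l : ℤ) - q) * (2 * (w l : ℤ) - q) = 4 := by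
      have h5 : ((∑ l : IrrCharacter A, (2 * (w l : ℤ) - q) * (2 * (w l : ℤ) - q) : ℤ) : ℂ) =
          ((4 : ℤ) : ℂ) := by
        rw [Int.cast_sum]
        simp only [Int.cast_mul, ← hcoef]
        rw [show ((4 : ℤ) : ℂ) = 4 * 1 by push_cast; ring, ← hnorm, Finset.mul_sum]
        refine Finset.sum_congr rfl fun l _ => ?_
        have hreal : conj ((2 : ℂ) * classInner (fun a => (h a : ℂ)) (l : A → ℂ)) =
            2 * classInner (fun a => (h a : ℂ)) (l : A → ℂ) := by
          rw [hcoef]; simp [map_ofNat]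
        rw [map_mul, map_ofNat] at hreal
        linear_combination -(2 * classInner (fun a => (h a : ℂ)) (l : A → ℂ)) * hreal
      exact_mod_cast h5
    have hge : (n : ℤ) ≤ 4 := by
      rw [← hfour]
      have hcard : Fintype.card (IrrCharacter A) = n := by
        rw [← Nat.card_eq_fintype_card, card_irrCharacter]
        exact (Nat.card_congr (ConjClasses.mkEquiv (α := A))).symm
      calc (n : ℤ) = ∑ _l : IrrCharacter A, (1 : ℤ) := by simp [hcard]
        _ ≤ _ := Finset.sum_le_sum fun l _ => by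
          have hne : 2 * (w l : ℤ) - q ≠ 0 := by omega
          exact Int.add_one_le_iff.2 (mul_self_pos.2 hne)
    rw [hk] at hge
    have hk2 : k' ≤ 1 := by
      by_contra hk2
      have h8 : (2 : ℤ) ^ 3 ≤ 2 ^ (k' + 1) := pow_le_pow_right₀ (by norm_num) (by omega)
      push_cast at hge
      norm_num at h8
      linarith
    rcases Nat.le_one_iff_eq_zero_or_eq_one.1 hk2 with rfl | rfl
    · exact hd1 (by norm_num; omega)
    · norm_num at hd1 hd2
      rw [hc] at hd1 hd2
      omega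

end H12.SignedVirtual
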