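import Cfsg.Agent.H12.CyclicCorr
import Cfsg.Agent.H12.SignedVirtual
import Cfsg.Agent.H18.FixedExtension

/-!
The Glauberman correspondence for cyclic operators with the same fixed points for every nontrivial
element.
-/

set_option autoImplicit false
set_option linter.unusedSectionVars false

open Cfsg
open scoped ComplexConjugate

namespace H12.CyclicFPF

open H12.Glauberman H12.Cyclic

universe u

variable {Γ : Type u} [Group Γ] [Fintype Γ] (G S C : Subgroup Γ) [Fintype G] [Fintype C]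

/-- The signed irreducible value on the coset of any nontrivial element. -/
theorem exists_value_at (hnorm : ∀ s ∈ S, ∀ g ∈ G, s * g * s⁻¹ ∈ G)
    (hcop : (Nat.card G).Coprime (Nat.card S)) (htop : G ⊔ S = ⊤)
    (χ : IrrCharacter G) (χh : IrrCharacter Γ) (hext : ∀ g : G, (χh : Γ → ℂ) g = (χ : G → ℂ) g)
    (hdet : (detOrder (χh : Γ → ℂ)).Coprime (Nat.card S)) {x : Γ} (hx : x ∈ S)
    (hfix : G ⊓ Subgroup.centralizer {x} = C) :
    ∃ (β : IrrCharacter C) (ε : ℤ), (ε = 1 ∨ ε = -1) ∧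
      ∀ c : C, (χh : Γ → ℂ) ((c : Γ) * x) = (ε : ℂ) * (β : C → ℂ) c := by
  classical
  haveI : G.Normal := normal_of_sup_eq_top G S hnorm htop
  let T : Subgroup Γ := G ⊔ Subgroup.zpowers x
  have hGT : G ≤ T := le_sup_left
  have hxT : x ∈ T := Subgroup.mem_sup_right (Subgroup.mem_zpowers x)
  haveI : Fintype T := Fintype.ofFinite _
  let G' : Subgroup T := G.subgroupOf T
  haveI : G'.Normal := Subgroup.normal_subgroupOf
  haveI : Fintype G' := Fintype.ofFinite _
  let t : T := ⟨x, hxT⟩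
  have hCG : C ≤ G := hfix ▸ inf_le_left
  let j : C →* T := Subgroup.inclusion (hCG.trans hGT)
  have htop' : G' ⊔ Subgroup.zpowers t = ⊤ := by
    refine eq_top_iff.2 fun y _ => ?_
    obtain ⟨g, hg, z, hz, hy⟩ := Subgroup.mem_sup_of_normal_left.1 y.2
    obtain ⟨i, rfl⟩ := Subgroup.mem_zpowers_iff.1 hz
    rw [show y = ⟨g, hGT hg⟩ * t ^ i from Subtype.ext (by simp [t, hy])]
    exact Subgroup.mul_mem_sup (Subgroup.mem_subgroupOf.2 hg) (Subgroup.zpow_mem_zpowers t i)
  have hrange : j.range = G' ⊓ Subgroup.centralizer {t} := by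
    refine le_antisymm ?_ fun y hy => ?_
    · rintro y ⟨c, rfl⟩
      have hc : (c : Γ) ∈ G ⊓ Subgroup.centralizer {x} := hfix.symm ▸ c.2
      exact ⟨hc.1, Subgroup.mem_centralizer_singleton_iff.2
        (Subtype.ext (Subgroup.mem_centralizer_singleton_iff.1 hc.2))⟩
    · refine ⟨⟨y, hfix ▸ (⟨hy.1, Subgroup.mem_centralizer_singleton_iff.2
        (congrArg Subtype.val (Subgroup.mem_centralizer_singleton_iff.1 hy.2))⟩ :
        (y : Γ) ∈ G ⊓ Subgroup.centralizer {x})⟩, Subtype.ext rfl⟩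
  have hord : orderOf t ∣ Nat.card S := by
    rw [Subgroup.orderOf_mk]
    exact S.orderOf_dvd_natCard hx
  have hcardG : Nat.card G' = Nat.card G :=
    Nat.card_congr (Subgroup.subgroupOfEquivOfLe hGT).toEquiv
  have hirrG : IsIrrCharacter G' (fun g : G' => (χh : Γ → ℂ) ((g : T) : Γ)) := by
    have h : (fun g : G' => (χh : Γ → ℂ) ((g : T) : Γ)) =
        (χ : G → ℂ) ∘ (Subgroup.subgroupOfEquivOfLe hGT).toMonoidHom :=
      funext fun g => hext ((Subgroup.subgroupOfEquivOfLe hGT) g)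
    rw [h]
    exact IsIrrCharacter.comp_surjective χ.2 (f := (Subgroup.subgroupOfEquivOfLe hGT).toMonoidHom) (Subgroup.subgroupOfEquivOfLe hGT).surjective
  have hirrT : IsIrrCharacter T (fun y : T => (χh : Γ → ℂ) y) :=
    H18.irr_of_comp_irr G'.subtype (IsCharacter.res (isCharacter_irr χh) T) hirrG rfl
  have hdetT : detOrder (fun y : T => (χh : Γ → ℂ) y) ∣ detOrder (χh : Γ → ℂ) := by
    rw [detOrder, detOrder, show detChar (fun y : T => (χh : Γ → ℂ) y) =
      (MonoidHom.pi fun y : T => Pi.evalMonoidHom (fun _ : Γ => ℂ) y) (detChar (χh : Γ → ℂ)) from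
        funext fun y => (H14.detChar_res T hirrT χh.2 (fun _ => rfl) y).symm]
    exact orderOf_map_dvd _ _
  obtain ⟨β, ε, hε, hval⟩ := exists_value (G := G') (s := t) (j := j)
    (by rw [hcardG]; exact hcop.coprime_dvd_right hord) htop' hrange
    (Subgroup.inclusion_injective _) ⟨_, hirrT⟩ hirrG
    ((hdet.coprime_dvd_left hdetT).coprime_dvd_right hord)
  exact ⟨β, ε, hε, hval⟩

/-- The correspondence when all nontrivial operators have the same fixed points. -/
theorem main (hnorm : ∀ s ∈ S, ∀ g ∈ G, s * g * s⁻¹ ∈ G)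
    (hcop : (Nat.card G).Coprime (Nat.card S)) (htop : G ⊔ S = ⊤) (hcyc : IsCyclic S)
    (hC : C = G ⊓ Subgroup.centralizer (S : Set Γ)) (hCG : C ≤ G)
    (hfpf : ∀ x ∈ S, x ≠ 1 → G ⊓ Subgroup.centralizer ({x} : Set Γ) = C)
    (χ : IrrCharacter G) (χh : IrrCharacter Γ) (hext : ∀ g : G, (χh : Γ → ℂ) g = (χ : G → ℂ) g)
    (hdet : (detOrder (χh : Γ → ℂ)).Coprime (Nat.card S)) (β : IrrCharacter C) (ε₀ : ℤ)
    (hε₀ : ε₀ = 1 ∨ ε₀ = -1)
    (hβ : ∀ c : C, ∀ s : Γ, Subgroup.zpowers s = S →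
      (χh : Γ → ℂ) ((c : Γ) * s) = (ε₀ : ℂ) * (β : C → ℂ) c) :
    ∃ ε : ℤ, (ε = 1 ∨ ε = -1) ∧ (∃ μ : S → ℂ, IsCharacter S μ ∧ μ 1 = 1 ∧
        (∀ x : S, μ x * μ x = 1) ∧ ∀ c : C, ∀ x : S, x ≠ 1 →
          (χh : Γ → ℂ) ((c : Γ) * x) = (ε : ℂ) * (β : C → ℂ) c * μ x) ∧
      (∃ ϑ : C → ℂ, IsCharacter C ϑ ∧ (fun c : C => (χ : G → ℂ) ⟨c, hCG c.2⟩) =
        fun c => (Nat.card S : ℂ) * ϑ c + (ε : ℂ) * (β : C → ℂ) c) ∧
      (Nat.card S : ℤ) ∣ (charDegree (χ : G → ℂ) : ℤ) - ε * (charDegree (β : C → ℂ) : ℤ) := by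
  classical
  haveI : Fintype S := Fintype.ofFinite _
  letI : CommGroup S := { (inferInstance : Group S) with
    mul_comm := fun a b => (IsCyclic.isMulCommutative (α := S)).is_comm.comm a b }
  obtain ⟨g, hg⟩ := IsCyclic.exists_generator (α := S)
  have hgS : Subgroup.zpowers (g : Γ) = S := by
    refine le_antisymm (Subgroup.zpowers_le.2 g.2) fun y hy => ?_
    obtain ⟨i, hi⟩ := Subgroup.mem_zpowers_iff.1 (hg ⟨y, hy⟩)
    exact ⟨i, congrArg Subtype.val hi⟩
  have hcomm : ∀ (c : C) (x : S), Commute (c : Γ) (x : Γ) := fun c x =>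
    (Subgroup.mem_centralizer_iff.1 (hC ▸ c.2 : (c : Γ) ∈ G ⊓ Subgroup.centralizer (S : Set Γ)).2
      x x.2).symm
  let Φ : C × S →* Γ := MonoidHom.noncommCoprod C.subtype S.subtype hcomm
  have hch : ∀ γ : IrrCharacter C,
      IsCharacter S (fun x : S => classInner (fun c : C => (χh : Γ → ℂ) ((c : Γ) * x)) (γ : C → ℂ)) :=
    fun γ => by
      have := coef_isCharacter (IsCharacter.comp (isCharacter_irr χh) Φ) γ
      exact this
  choose! B E hE hval using fun (x : S) (hx : x ≠ 1) => exists_value_at G S C hnorm hcop htop χ χh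
    hext hdet x.2 (hfpf x x.2 (by simpa using hx))
  obtain ⟨m, hm⟩ := IsCharacter.exists_mult (IsCharacter.res (isCharacter_irr χh) C)
  have hm' : ∀ γ : IrrCharacter C, classInner (fun c : C => (χh : Γ → ℂ) c) (γ : C → ℂ) = (m γ : ℂ) := fun γ => by
    rw [hm]; exact classInner_sum_smul_irr (fun l => (m l : ℂ)) γ
  let X : IrrCharacter C → S → ℤ := fun γ x =>
    if x = 1 then (m γ : ℤ) else if B x = γ then E x else 0
  have hX : ∀ (γ : IrrCharacter C) (x : S),
      classInner (fun c : C => (χh : Γ → ℂ) ((c : Γ) * x)) (γ : C → ℂ) = (X γ x : ℂ) := by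
    intro γ x
    by_cases hx : x = 1
    · subst hx
      simp [X, hm']
    · simp only [X, if_neg hx]
      rw [funext (hval x hx), show (fun c => (E x : ℂ) * (B x : C → ℂ) c) =
        (E x : ℂ) • (B x : C → ℂ) from rfl, classInner_smul_left, classInner_irr]
      split_ifs <;> simp
  have hXc : ∀ γ, IsCharacter S (fun x : S => (X γ x : ℂ)) := fun γ => by
    have := hch γ
    simpa [hX] using this
  have hBβ : ∀ x : S, x ≠ 1 → B x = β := by
    intro x hx
    have hg1 : g ≠ 1 := by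
      intro h
      obtain ⟨i, hi⟩ := Subgroup.mem_zpowers_iff.1 (hg x)
      exact hx (by rw [← hi, h, one_zpow])
    have hBg : B g = β :=
      (sign_irr_unique (hE g hg1) fun c => by rw [← hval g hg1 c, hβ c g hgS]).1
    rw [← hBg]
    refine SignedVirtual.eq_of_all_steps B hg (fun p hp y z k hy hyz hz => ?_) hx
    haveI := Fact.mk hp
    by_contra hne
    have hc := SignedVirtual.value_congr (hXc (B y)) (x := y) hz
    simp only [X, if_neg hy, if_neg hyz, if_true, if_neg hne] at hc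
    rcases hE y hy with e | e <;> rw [e] at hc <;> simp at hc
  have hXβ : ∀ x : S, x ≠ 1 → X β x = 1 ∨ X β x = -1 := fun x hx => by
    simp only [X, if_neg hx, hBβ x hx, if_true]
    exact hE x hx
  set n := Nat.card S with hn
  have hdvd : ∀ γ, γ ≠ β → n ∣ m γ := by
    intro γ hγ
    obtain ⟨z, hz⟩ := IsCharacter.classInner_nat (hXc γ) (isCharacter_one (G := S))
    refine ⟨z, ?_⟩
    have h1 := sum_mul_conj_eq_card_mul (fun x : S => (X γ x : ℂ)) (fun _ => 1)
    rw [hz, ← hn, Finset.sum_eq_single (1 : S) (fun x _ hx => by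
      simp [X, hx, hBβ x hx, Ne.symm hγ]) (by simp)] at h1
    simp only [X, if_true, map_one, mul_one] at h1
    exact_mod_cast h1
  obtain ⟨e, μ, he, hμ, hμX, hde, hne⟩ : ∃ (e : ℤ) (μ : IrrCharacter S), (e = 1 ∨ e = -1) ∧
      (∀ a, (μ : S → ℂ) a * (μ : S → ℂ) a = 1) ∧
      (∀ a, a ≠ 1 → (X β a : ℂ) = (e : ℂ) * (μ : S → ℂ) a) ∧ (n : ℤ) ∣ X β 1 - e ∧
      (n = 1 → e = 1 ∧ 1 ≤ m β) := by
    by_cases h1 : n = 1
    · refine ⟨1, oneIrr S, Or.inl rfl, by simp [oneIrr_apply], fun a ha => ?_,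
        by rw [h1]; exact one_dvd _, fun _ => ⟨rfl, ?_⟩⟩
      · haveI := Finite.card_le_one_iff_subsingleton.1 h1.le
        exact absurd (Subsingleton.elim a 1) ha
      · have hg0 : (g : Γ) = 1 := by
          haveI := Finite.card_le_one_iff_subsingleton.1 h1.le
          simp [Subsingleton.elim g 1]
        have hmβ := hm' β
        rw [funext (fun c : C => show (χh : Γ → ℂ) c = (ε₀ : ℂ) * (β : C → ℂ) c by
          rw [← hβ c g hgS, hg0, mul_one]), show (fun c => (ε₀ : ℂ) * (β : C → ℂ) c) =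
            (ε₀ : ℂ) • (β : C → ℂ) from rfl, classInner_smul_left, classInner_irr_self,
          mul_one] at hmβ
        rcases hε₀ with e0 | e0 <;> rw [e0] at hmβ
        · have : (1 : ℤ) = m β := by exact_mod_cast hmβ
          omega
        · have : (-1 : ℤ) = m β := by exact_mod_cast hmβ
          omega
    · obtain ⟨e, μ, he, hμ, hμX, hde⟩ := SignedVirtual.exists_sign_linear (hXc β) hg hXβ
      exact ⟨e, μ, he, hμ, hμX, hde, fun h => absurd h h1⟩
  have hXβ1 : X β 1 = (m β : ℤ) := by simp [X]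
  rw [hXβ1] at hde
  obtain ⟨q, hq⟩ := hde
  have hq0 : 0 ≤ q := by
    by_contra hq0
    have hn1 : (1 : ℤ) ≤ n := by exact_mod_cast (Nat.card_pos (α := S))
    have h2 : (n : ℤ) * q ≤ -(n : ℤ) := by nlinarith
    rcases Nat.lt_or_ge 1 n with h | h
    · omega
    · obtain ⟨-, h3⟩ := hne (by omega)
      omega
  let a : IrrCharacter C → ℕ := fun γ => if γ = β then q.toNat else m γ / n
  have hma : ∀ γ, (m γ : ℂ) = (n : ℂ) * (a γ : ℂ) + if γ = β then (e : ℂ) else 0 := by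
    intro γ
    by_cases hγ : γ = β
    · subst hγ
      have h3 : (m γ : ℤ) = (n : ℤ) * (a γ : ℤ) + e := by
        simp only [a, if_true, Int.toNat_of_nonneg hq0]; linarith
      rw [if_pos rfl]
      exact_mod_cast h3
    · rw [if_neg hγ, add_zero]
      simp only [a, if_neg hγ]
      exact_mod_cast (Nat.mul_div_cancel' (hdvd γ hγ)).symm
  let θ : C → ℂ := ∑ γ, (a γ : ℂ) • (γ : C → ℂ)
  have hres : ∀ c : C, (χ : G → ℂ) ⟨c, hCG c.2⟩ = (n : ℂ) * θ c + (e : ℂ) * (β : C → ℂ) c := by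
    intro c
    rw [← hext]
    show (fun c : C => (χh : Γ → ℂ) c) c = _
    rw [hm]
    simp only [θ, Finset.sum_apply, Pi.smul_apply, smul_eq_mul, hma, add_mul, mul_assoc,
      Finset.sum_add_distrib, Finset.mul_sum, ite_mul, zero_mul, Finset.sum_ite_eq',
      Finset.mem_univ, if_true]
  refine ⟨e, he, ⟨μ, isCharacter_irr μ, SignedVirtual.irr_one μ, hμ, fun c x hx => ?_⟩,
    ⟨θ, isCharacter_sum_natCast_smul a, funext hres⟩, ?_⟩
  · have h1 := hμX x hx
    simp only [X, if_neg hx, hBβ x hx, if_true] at h1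
    rw [hval x hx c, hBβ x hx, h1]
    ring
  · obtain ⟨d, hd⟩ := IsCharacter.apply_one (isCharacter_sum_natCast_smul a)
    have h1 := hres 1
    rw [show (⟨((1 : C) : Γ), hCG (1 : C).2⟩ : G) = 1 from rfl, irr_apply_one, irr_apply_one,
      show θ 1 = (d : ℂ) from hd] at h1
    have h2 : (degree (χ : G → ℂ) : ℤ) = (n : ℤ) * d + e * (degree (β : C → ℂ) : ℤ) := by
      exact_mod_cast h1
    refine ⟨d, ?_⟩
    show (degree (χ : G → ℂ) : ℤ) - e * (degree (β : C → ℂ) : ℤ) = _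
    rw [h2]; ring

end H12.CyclicFPF
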