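import Cfsg.Agent.H17.MajorPairs
import Cfsg.Agent.H19.CentralRank
import Cfsg.Agent.H23.LocalIndex
import Cfsg.Agent.H23.LocalBlock
import Cfsg.Agent.H23.Nilpotent
import Cfsg.Agent.H28.PowerGraph
import Cfsg.Agent.S4689
import Mathlib

/-!
# Pairs of a 2-block with dihedral defect group

The data `Dih` fixes a maximal pair `(D, f₀)` with `D` dihedral of order `2 ^ (m + 1)`, generated by
`r` and `s`; we compute fusion on `⟨r⟩` and the subsection blocks at `r` and at the central involution.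
-/

set_option autoImplicit false
set_option linter.unusedSectionVars false
set_option linter.style.haveILetI false

open Cfsg
open scoped MonoidAlgebra

namespace H12.DihPairs

universe u

/-! ## Group lemmas -/

section Group

variable {G : Type u} [Group G]

/-- An automorphism of odd order of a cyclic 2-group is trivial, for inner automorphisms of an
ambient group. -/
theorem conj_eq_self_of_zpowers [Finite G] {q g : G} {j : ℕ} (hq : orderOf q = 2 ^ j)
    (hg : Odd (orderOf g)) (hn : g ∈ Subgroup.normalizer (Subgroup.zpowers q : Set G)) :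
    g * q * g⁻¹ = q := by
  classical
  haveI : Finite (Subgroup.zpowers q) := inferInstance
  let α := H23.toAut (Subgroup.zpowers q) ⟨g, hn⟩
  have h1 : orderOf α ∣ orderOf g :=
    (orderOf_map_dvd _ (⟨g, hn⟩ : Subgroup.normalizer (Subgroup.zpowers q : Set G))).trans
      (dvd_of_eq (Subgroup.orderOf_mk g hn))
  have h2 : orderOf α ∣ (2 ^ j).totient := by
    rw [← hq, ← Nat.card_zpowers q]
    haveI : NeZero (Nat.card (Subgroup.zpowers q)) := ⟨Nat.card_pos.ne'⟩
    rw [← ZMod.card_units_eq_totient (Nat.card (Subgroup.zpowers q)), ← Nat.card_eq_fintype_card,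
      ← Nat.card_congr (IsCyclic.mulAutMulEquiv (Subgroup.zpowers q)).toEquiv]
    exact orderOf_dvd_natCard α
  have h3 : Nat.Coprime (orderOf g) ((2 ^ j).totient) := by
    suffices hd : (2 ^ j).totient ∣ 2 ^ j from
      Nat.Coprime.coprime_dvd_right hd ((Nat.coprime_two_right.2 hg).pow_right j)
    rcases Nat.eq_zero_or_pos j with rfl | hj
    · simp
    · rw [Nat.totient_prime_pow Nat.prime_two hj]
      simpa using pow_dvd_pow 2 (Nat.sub_le j 1)
  have h4 : α = 1 := orderOf_eq_one_iff.1 (Nat.eq_one_of_dvd_coprimes h3 h1 h2)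
  have h5 := congrArg Subtype.val (DFunLike.congr_fun h4 ⟨q, Subgroup.mem_zpowers q⟩)
  exact h5

end Group

/-! ## The data -/

variable {G : Type u} [Group G] [Fintype G] {M : Ideal AlgInt} [M.IsPrime]
  [CharP (H20.k M) 2] [IsAlgClosed (H20.k M)]

local notation "C[" x "]" => Subgroup.centralizer ({x} : Set G)

/-- A 2-block with maximal pair `(D, f₀)`, `D = ⟨r, s⟩` dihedral of order `2 ^ (m + 1)`. -/
structure Dih (M : Ideal AlgInt) [M.IsPrime] [CharP (H20.k M) 2] [IsAlgClosed (H20.k M)]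
    (B : Set (IrrCharacter G)) (D : Subgroup G) (f0 : (H20.k M)[G]) (r s : G) (m : ℕ) : Prop where
  hM : IsPModular 2 M
  hB : IsPBlock M B
  hmax : H23.IsMax 2 (H23.eB M B) D f0
  hm : 2 ≤ m
  hord : orderOf r = 2 ^ m
  rD : r ∈ D
  sD : s ∈ D
  s2 : s * s = 1
  snot : s ∉ Subgroup.zpowers r
  sr : s * r * s⁻¹ = r⁻¹
  cover : ∀ d ∈ D, d ∈ Subgroup.zpowers r ∨ s * d ∈ Subgroup.zpowers r

namespace Dih

variable {B : Set (IrrCharacter G)} {D : Subgroup G} {f0 : (H20.k M)[G]} {r s : G} {m : ℕ}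

theorem zpowers_le (h : Dih M B D f0 r s m) : Subgroup.zpowers r ≤ D :=
  Subgroup.zpowers_le.2 h.rD

theorem s_inv (h : Dih M B D f0 r s m) : s⁻¹ = s := inv_eq_of_mul_eq_one_right h.s2

theorem s_conj (h : Dih M B D f0 r s m) {a : G} (ha : a ∈ Subgroup.zpowers r) :
    s * a * s⁻¹ = a⁻¹ := by
  obtain ⟨i, rfl⟩ := Subgroup.mem_zpowers_iff.1 ha
  rw [← conj_zpow, h.sr, inv_zpow]

/-- An element of `D` acts on `⟨r⟩` by `1` or `-1`. -/
theorem conj_cases (h : Dih M B D f0 r s m) {d a : G} (hd : d ∈ D)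
    (ha : a ∈ Subgroup.zpowers r) : d * a * d⁻¹ = a ∨ d * a * d⁻¹ = a⁻¹ := by
  have hc : ∀ b ∈ Subgroup.zpowers r, b * a * b⁻¹ = a := by
    intro b hb
    obtain ⟨i, rfl⟩ := Subgroup.mem_zpowers_iff.1 hb
    obtain ⟨j, rfl⟩ := Subgroup.mem_zpowers_iff.1 ha
    group
  rcases h.cover d hd with hd' | hd'
  · exact Or.inl (hc d hd')
  · refine Or.inr ?_
    have e : d = s * (s * d) := by rw [← mul_assoc, h.s2, one_mul]
    calc d * a * d⁻¹ = s * ((s * d) * a * (s * d)⁻¹) * s⁻¹ := by (conv_lhs => rw [e]); group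
      _ = a⁻¹ := by rw [hc _ hd', h.s_conj ha]

theorem le_normalizer (h : Dih M B D f0 r s m) {a : G} (ha : a ∈ Subgroup.zpowers r) :
    D ≤ Subgroup.normalizer (Subgroup.zpowers a : Set G) := by
  intro d hd
  apply H23.mem_normalizer_of_cjS_eq
  rw [H23.cjS, MonoidHom.map_zpowers]
  show Subgroup.zpowers (d * a * d⁻¹) = _
  rcases h.conj_cases hd ha with e | e <;> rw [e]
  exact Subgroup.zpowers_inv

/-- Elements of `D` outside `⟨r⟩` are involutions. -/
theorem sq_eq_one (h : Dih M B D f0 r s m) {d : G} (hd : d ∈ D) (hn : d ∉ Subgroup.zpowers r) :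
    d * d = 1 := by
  have ha := (h.cover d hd).resolve_left hn
  have e : d = s * (s * d) := by rw [← mul_assoc, h.s2, one_mul]
  calc d * d = (s * (s * d) * s⁻¹) * (s * d) := by rw [h.s_inv]; (conv_lhs => rw [e]); group
    _ = 1 := by rw [h.s_conj ha, inv_mul_cancel]

theorem mem_zpowers_of_sq_ne (h : Dih M B D f0 r s m) {d : G} (hd : d ∈ D) (h2 : d * d ≠ 1) :
    d ∈ Subgroup.zpowers r :=
  by_contra fun hn => h2 (h.sq_eq_one hd hn)

/-- (a) The order of the defect group. -/
theorem card_D (h : Dih M B D f0 r s m) :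
    Nat.card D = 2 ^ (m + 1) ∧ blockDefect 2 B = m + 1 := by
  have hcard : Nat.card D = 2 ^ (m + 1) := by
    let φ : Subgroup.zpowers r ⊕ Subgroup.zpowers r → D := Sum.elim
      (fun a => ⟨a, h.zpowers_le a.2⟩) (fun a => ⟨s * a, mul_mem h.sD (h.zpowers_le a.2)⟩)
    have hφ : Function.Bijective φ := by
      have hne : ∀ a b : Subgroup.zpowers r, (a : G) ≠ s * b := by
        intro a b hab
        refine h.snot ?_
        rw [show s = (a : G) * (b : G)⁻¹ by rw [hab, mul_inv_cancel_right]]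
        exact mul_mem a.2 (inv_mem b.2)
      refine ⟨?_, fun d => ?_⟩
      · rintro (a | a) (b | b) hab <;> have hab' := congrArg Subtype.val hab
        · exact congrArg Sum.inl (Subtype.ext hab')
        · exact absurd hab' (hne a b)
        · exact absurd hab'.symm (hne b a)
        · exact congrArg Sum.inr (Subtype.ext (mul_left_cancel hab'))
      · rcases h.cover d d.2 with hd | hd
        · exact ⟨Sum.inl ⟨d, hd⟩, Subtype.ext rfl⟩
        · exact ⟨Sum.inr ⟨s * d, hd⟩, Subtype.ext (by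
            show s * (s * (d : G)) = d
            rw [← mul_assoc, h.s2, one_mul])⟩
    rw [← Nat.card_congr (Equiv.ofBijective φ hφ), Nat.card_sum, Nat.card_zpowers, h.hord,
      pow_succ, mul_two]
  refine ⟨hcard, ?_⟩
  have h1 := H20.card_defectGroup h.hM h.hB (H23.isDefectGroup_of_isMax h.hB h.hmax)
  rw [hcard] at h1
  exact (Nat.pow_right_injective le_rfl h1).symm

/-- (b) Fusion on the cyclic subgroup. -/
theorem fusion_pow (h : Dih M B D f0 r s m) {a : G} (ha : a ∈ Subgroup.zpowers r)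
    {f : (H20.k M)[G]} (hle : H23.Le 2 (Subgroup.zpowers a, f) (D, f0)) {g : G}
    (hg : g ∈ H23.stab (Subgroup.zpowers a) f) : g * a * g⁻¹ = a ∨ g * a * g⁻¹ = a⁻¹ := by
  classical
  set Q := Subgroup.zpowers a with hQ
  set T := H23.stab Q f with hT
  have hf := hle.pair_left 2 h.hmax.1
  have hDT : D ≤ T := fun d hd => H23.inf_normalizer_le_stab 2 hle h.hmax.1
    ⟨hd, h.le_normalizer ha hd⟩
  have hl : H23.LocMax 2 Q f T D f0 :=
    ⟨hf, H23.le_stab 2 hf, H23.centralizer_le_stab 2 hf, le_rfl,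
      ⟨h.hmax.1, hDT, (H23.le_iff_inBlk 2 hf (H23.centralizer_le_stab 2 hf) le_rfl h.hmax.1
          (hle.le 2) hDT).1 hle,
        fun R' g' hg' _ _ hl' => h.hmax.2.2 R' g' hg'
          ((hl'.inBlk_iff 2 (H23.cidem_eB h.hB)).2 h.hmax.2.1) hl'⟩, hle⟩
  obtain ⟨j, -, hj⟩ := (Nat.dvd_prime_pow Nat.prime_two).1
    (h.hord ▸ orderOf_dvd_of_mem_zpowers ha : orderOf a ∣ 2 ^ m)
  have hA : IsPGroup 2 (H23.autImg Q T) := by
    refine (IsPGroup.of_card (n := if j = 0 then 0 else j - 1) ?_ :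
      IsPGroup 2 (MulAut Q)).to_subgroup _
    haveI : NeZero (Nat.card Q) := ⟨Nat.card_pos.ne'⟩
    rw [Nat.card_congr (IsCyclic.mulAutMulEquiv Q).toEquiv, Nat.card_eq_fintype_card,
      ZMod.card_units_eq_totient, hQ, Nat.card_zpowers, hj]
    split_ifs with h0
    · subst h0; simp
    · rw [Nat.totient_prime_pow Nat.prime_two (Nat.pos_of_ne_zero h0)]
      simp
  have heq : H23.autImg Q D = H23.autImg Q T :=
    Subgroup.eq_of_le_of_card_ge (H23.autImg_mono Q hDT) (hl.card_le_image hA le_rfl)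
  have hgn := hg.1
  have hmem : H23.toAut Q ⟨g, hgn⟩ ∈ H23.autImg Q D := heq ▸ ⟨⟨g, hgn⟩, hg, rfl⟩
  obtain ⟨d, hd, -, hact⟩ := H23.mem_autImg.1 hmem
  have h1 := hact ⟨a, Subgroup.mem_zpowers a⟩
  rw [H23.toAut_apply] at h1
  simp only at h1
  rw [h1]
  exact h.conj_cases hd ha

/-- The blocks below `(D, f₀)` at `⟨r⟩`: the defect group is `⟨r⟩`. -/
theorem defectGroup_gen (h : Dih M B D f0 r s m) {b : Set (IrrCharacter C[r])}
    (hb : IsPBlock M b)
    (hle : H23.Le 2 (Subgroup.zpowers r, H23.eG M C[r] b) (D, f0)) :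
    IsDefectGroup 2 M b ((Subgroup.zpowers r).subgroupOf C[r]) := by
  classical
  have hCeq := H17.Major.centralizer_zpowers_eq r
  have hf := hle.pair_left 2 h.hmax.1
  have hQC : Subgroup.zpowers r ≤ C[r] := Subgroup.zpowers_le.2 fun w hw => by
    rw [Set.mem_singleton_iff.1 hw]
  obtain ⟨R, e, hl⟩ := H23.exists_locMax 2 hf (T := C[r]) hQC hCeq.le
    (hCeq.ge.trans (H23.centralizer_le_stab 2 hf))
  have hQR := hl.le_sub 2
  have hinR : H23.InBlk (H23.eB M B) R e := (hl.le.inBlk_iff 2 (H23.cidem_eB h.hB)).2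
    ((hle.inBlk_iff 2 (H23.cidem_eB h.hB)).1 h.hmax.2.1)
  obtain ⟨x, hx⟩ := H23.exists_conj_le 2 (H23.isBlk_eB h.hB) h.hmax hl.max.1 hinR
  have hxle := hx.le 2
  have hgen : x * r * x⁻¹ ∈ Subgroup.zpowers r := by
    refine h.mem_zpowers_of_sq_ne (hxle ⟨r, hQR (Subgroup.mem_zpowers r), rfl⟩) fun e2 => ?_
    have : r ^ 2 = 1 := by
      rw [pow_two]
      calc r * r = x⁻¹ * ((x * r * x⁻¹) * (x * r * x⁻¹)) * x := by group
        _ = 1 := by rw [e2]; group
    have h2 := orderOf_dvd_of_pow_eq_one this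
    rw [h.hord] at h2
    have h4 : 2 ^ 2 ≤ 2 ^ m := Nat.pow_le_pow_right (by norm_num) h.hm
    have := Nat.le_of_dvd (by norm_num) h2
    omega
  have hzeq : Subgroup.zpowers (x * r * x⁻¹) = Subgroup.zpowers r :=
    Subgroup.eq_of_le_of_card_ge (Subgroup.zpowers_le.2 hgen) (by
      rw [Nat.card_zpowers, Nat.card_zpowers, ← MulAut.conj_apply, MulEquiv.orderOf_eq])
  have hsub : H23.cjS x R ≤ Subgroup.zpowers r := by
    rintro d hd
    refine by_contra fun hn => ?_
    have hdD := hxle hd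
    have hcomm : d * (x * r * x⁻¹) = (x * r * x⁻¹) * d := by
      obtain ⟨y, hy, rfl⟩ := hd
      have := (hl.max.2.1 hy) r rfl
      show x * y * x⁻¹ * (x * r * x⁻¹) = x * r * x⁻¹ * (x * y * x⁻¹)
      calc x * y * x⁻¹ * (x * r * x⁻¹) = x * (y * r) * x⁻¹ := by group
        _ = x * (r * y) * x⁻¹ := by rw [this]
        _ = _ := by group
    have hcr : d * r = r * d := by
      have : r ∈ Subgroup.centralizer ({d} : Set G) := by
        refine Subgroup.zpowers_le.2 ?_ (hzeq.ge (Subgroup.mem_zpowers r))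
        exact Subgroup.mem_centralizer_singleton_iff.2 hcomm.symm
      exact (Subgroup.mem_centralizer_singleton_iff.1 this).symm
    have hsd := (h.cover d hdD).resolve_left hn
    obtain ⟨i, hi⟩ := Subgroup.mem_zpowers_iff.1 hsd
    have e1 : d * r * d⁻¹ = r⁻¹ := by
      have e : d = s * r ^ i := by rw [hi, ← mul_assoc, h.s2, one_mul]
      rw [e]
      calc s * r ^ i * r * (s * r ^ i)⁻¹ = s * r * s⁻¹ := by group
        _ = r⁻¹ := h.sr
    rw [hcr, mul_inv_cancel_right] at e1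
    have : r ^ 2 = 1 := by rw [pow_two]; nth_rewrite 1 [e1]; rw [inv_mul_cancel]
    have h2 := orderOf_dvd_of_pow_eq_one this
    rw [h.hord] at h2
    have h4 : 2 ^ 2 ≤ 2 ^ m := Nat.pow_le_pow_right (by norm_num) h.hm
    have := Nat.le_of_dvd (by norm_num) h2
    omega
  obtain rfl : Subgroup.zpowers r = R :=
    Subgroup.eq_of_le_of_card_ge hQR (by
      rw [← H23.card_cjS x R]; exact Subgroup.card_le_of_le hsub)
  exact H23.isDefectGroup_locMax h.hM hl hb rfl

/-- (c) The subsection blocks at `r`. -/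
theorem rank_gen (h : Dih M B D f0 r s m) {b : Set (IrrCharacter C[r])} (hb : IsPBlock M b)
    (hle : H23.Le 2 (Subgroup.zpowers r, H23.eG M C[r] b) (D, f0)) :
    blockDefect 2 b = m ∧ blockRank 2 b = 1 := by
  classical
  have hD := h.defectGroup_gen hb hle
  have hQC : Subgroup.zpowers r ≤ C[r] := Subgroup.zpowers_le.2 fun w hw => by
    rw [Set.mem_singleton_iff.1 hw]
  have hc := H20.card_defectGroup h.hM hb hD
  rw [H23.card_subgroupOf hQC, Nat.card_zpowers, h.hord] at hc
  have hd : blockDefect 2 b = m := (Nat.pow_right_injective le_rfl hc).symm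
  refine ⟨hd, le_antisymm ?_ (H19.CentralRank.one_le_blockRank (H20.block_nonempty hb))⟩
  refine H19.CentralRank.blockRank_le_one h.hM hb _ ?_
    (IsPGroup.of_card (n := m) (by rw [H23.card_subgroupOf hQC, Nat.card_zpowers, h.hord])) ?_
  · intro x hx
    refine Subgroup.mem_center_iff.2 fun y => Subtype.ext ?_
    obtain ⟨i, hi⟩ := Subgroup.mem_zpowers_iff.1 (Subgroup.mem_subgroupOf.1 hx)
    have hy : Commute r (y : G) := y.2 r rfl
    show (y : G) * x = x * y
    rw [← hi]
    exact (hy.zpow_left i).eq.symm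
  · rw [hd, H23.card_subgroupOf hQC, Nat.card_zpowers, h.hord,
      Nat.Prime.factorization_pow Nat.prime_two, Finsupp.single_eq_same]

theorem orderOf_centre (h : Dih M B D f0 r s m) : orderOf (r ^ 2 ^ (m - 1)) = 2 := by
  have hm := h.hm
  rw [orderOf_pow' _ (by positivity), h.hord,
    Nat.gcd_eq_right (pow_dvd_pow 2 (Nat.sub_le m 1)), Nat.pow_div (Nat.sub_le m 1) (by norm_num),
    show m - (m - 1) = 1 by omega, pow_one]

theorem le_cent_centre (h : Dih M B D f0 r s m) : D ≤ C[r ^ 2 ^ (m - 1)] := by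
  intro d hd
  set z := r ^ 2 ^ (m - 1) with hz
  have hz2 : z⁻¹ = z := by
    have h1 := pow_orderOf_eq_one z
    rw [h.orderOf_centre, pow_two] at h1
    exact inv_eq_of_mul_eq_one_right h1
  rw [Subgroup.mem_centralizer_singleton_iff]
  refine mul_inv_eq_iff_eq_mul.1 ?_
  rcases h.conj_cases hd (Subgroup.npow_mem_zpowers r (2 ^ (m - 1))) with e | e
  · exact e
  · exact e.trans hz2

/-- An element of odd order normalising a subgroup of `D` and fixing the central involution
centralises it. -/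
theorem centralizes (h : Dih M B D f0 r s m) {Q : Subgroup G} (hQ : Q ≤ D) {g : G}
    (hg : Odd (orderOf g)) (hn : g ∈ Subgroup.normalizer (Q : Set G))
    (hz : g * r ^ 2 ^ (m - 1) * g⁻¹ = r ^ 2 ^ (m - 1)) :
    g ∈ Subgroup.centralizer (Q : Set G) := by
  classical
  set z := r ^ 2 ^ (m - 1) with hzdef
  have hcyc : ∀ q ∈ Q, q ∈ Subgroup.zpowers r → g * q * g⁻¹ = q := by
    intro q hq hqr
    by_cases h2 : q * q = 1
    · have hzz : Subgroup.zpowers q ≤ Subgroup.zpowers z := by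
        haveI : IsCyclic (Subgroup.zpowers r) := inferInstance
        obtain ⟨i, rfl⟩ := Subgroup.mem_zpowers_iff.1 hqr
        rw [← zpow_add, ← orderOf_dvd_iff_zpow_eq_one, h.hord,
          show (2 ^ m : ℕ) = 2 ^ (m - 1) * 2 by rw [← pow_succ]; congr 1; have := h.hm; omega,
          ← two_mul] at h2
        push_cast at h2
        obtain ⟨k, hk⟩ := h2
        refine Subgroup.zpowers_le.2 ⟨k, ?_⟩
        show z ^ k = r ^ i
        rw [hzdef, ← zpow_natCast r, ← zpow_mul]
        congr 1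
        push_cast
        linarith
      obtain ⟨k, hk⟩ := Subgroup.mem_zpowers_iff.1 (hzz (Subgroup.mem_zpowers q))
      rw [← hk, ← conj_zpow, hz]
    · have hq' : g * q * g⁻¹ ∈ Subgroup.zpowers r := by
        refine h.mem_zpowers_of_sq_ne (hQ ((Subgroup.mem_normalizer_iff.1 hn q).1 hq)) fun e => h2 ?_
        calc q * q = g⁻¹ * ((g * q * g⁻¹) * (g * q * g⁻¹)) * g := by group
          _ = 1 := by rw [e]; group
      obtain ⟨j, -, hj⟩ := (Nat.dvd_prime_pow Nat.prime_two).1
        (h.hord ▸ orderOf_dvd_of_mem_zpowers hqr : orderOf q ∣ 2 ^ m)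
      refine conj_eq_self_of_zpowers hj hg (H23.mem_normalizer_of_cjS_eq ?_)
      rw [H23.cjS, MonoidHom.map_zpowers]
      show Subgroup.zpowers (g * q * g⁻¹) = _
      have hoe : orderOf (g * q * g⁻¹) = orderOf q := by rw [← MulAut.conj_apply, MulEquiv.orderOf_eq]
      exact H28.PG.zpowers_eq_of_orderOf_eq hq' hqr hoe
  rw [Subgroup.mem_centralizer_iff]
  intro q hq
  suffices e : g * q * g⁻¹ = q by exact (mul_inv_eq_iff_eq_mul.1 e).symm
  by_cases hqr : q ∈ Subgroup.zpowers r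
  · exact hcyc q hq hqr
  have hq' : g * q * g⁻¹ ∈ Q := (Subgroup.mem_normalizer_iff.1 hn q).1 hq
  have hqr' : g * q * g⁻¹ ∉ Subgroup.zpowers r := by
    intro hc
    have e := hcyc _ hq' hc
    refine hqr ?_
    have e2 : g * q * g⁻¹ = q := by
      have := congrArg (fun x => g⁻¹ * x * g) e
      simpa [mul_assoc] using this
    rwa [e2] at hc
  set w := q⁻¹ * (g * q * g⁻¹) with hw
  have hwr : w ∈ Subgroup.zpowers r := by
    have h1 := (h.cover q (hQ hq)).resolve_left hqr
    have h2 := (h.cover _ (hQ hq')).resolve_left hqr'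
    have := mul_mem (inv_mem h1) h2
    rwa [show (s * q)⁻¹ * (s * (g * q * g⁻¹)) = w by rw [hw]; group] at this
  have hwfix : g * w * g⁻¹ = w := hcyc w (mul_mem (inv_mem hq) hq') hwr
  have hiter : ∀ n : ℕ, g ^ n * q * (g ^ n)⁻¹ = q * w ^ n := by
    intro n
    induction n with
    | zero => simp
    | succ n ih =>
      have hwn : g * w ^ n * g⁻¹ = w ^ n := by rw [← conj_pow, hwfix]
      calc g ^ (n + 1) * q * (g ^ (n + 1))⁻¹ = g * (g ^ n * q * (g ^ n)⁻¹) * g⁻¹ := by
            rw [pow_succ']; group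
        _ = g * (q * w ^ n) * g⁻¹ := by rw [ih]
        _ = (g * q * g⁻¹) * (g * w ^ n * g⁻¹) := by group
        _ = q * (w * w ^ n) := by
            rw [hwn, show g * q * g⁻¹ = q * w by rw [hw]; group, mul_assoc]
        _ = q * w ^ (n + 1) := by rw [pow_succ']
  have hw1 : w = 1 := by
    have e := hiter (orderOf g)
    rw [pow_orderOf_eq_one, one_mul, inv_one, mul_one] at e
    have h1 : orderOf w ∣ orderOf g :=
      orderOf_dvd_of_pow_eq_one (left_eq_mul.1 e)
    have h2 : orderOf w ∣ 2 ^ m := h.hord ▸ orderOf_dvd_of_mem_zpowers hwr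
    exact orderOf_eq_one_iff.1
      (Nat.eq_one_of_dvd_coprimes ((Nat.coprime_two_right.2 hg).pow_right m) h1 h2)
  rw [hw] at hw1
  exact (inv_mul_eq_one.1 hw1).symm

/-- The subsection block at the central involution is nilpotent. -/
theorem nilpotent_centre (h : Dih M B D f0 r s m)
    {b : Set (IrrCharacter C[r ^ 2 ^ (m - 1)])} (hb : IsPBlock M b)
    (hle : H23.Le 2 (Subgroup.zpowers (r ^ 2 ^ (m - 1)), H23.eG M C[r ^ 2 ^ (m - 1)] b) (D, f0)) :
    IsNilpotentBlock 2 M b ∧ blockDefect 2 b = m + 1 := by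
  classical
  obtain ⟨z, hz⟩ : ∃ z, z = r ^ 2 ^ (m - 1) := ⟨_, rfl⟩
  have hDC : D ≤ C[z] := hz ▸ h.le_cent_centre
  revert hb hle
  revert b
  rw [← hz]
  intro b hb hle
  haveI := Fintype.ofFinite C[z]
  have hCeq := H17.Major.centralizer_zpowers_eq z
  have hf := hle.pair_left 2 h.hmax.1
  have hl : H23.LocMax 2 (Subgroup.zpowers z) (H23.eG M C[z] b) C[z] D f0 := by
    have hm' := H17.Major.maxIn_of_max h.hB h.hmax hle (hDC.trans hCeq.ge)
    rw [hCeq] at hm'
    exact ⟨hf, (hle.le 2).trans hDC, hCeq.le, hCeq.ge.trans (H23.centralizer_le_stab 2 hf), hm', hle⟩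
  have hD' := H23.isDefectGroup_locMax h.hM hl hb rfl
  refine ⟨?_, ?_⟩
  · obtain ⟨e, he⟩ := H23.exists_maxPair_defect (p := 2) hb h.hM hD'
    obtain ⟨e', he', heq⟩ := H23.exists_of_isPair he.1
    subst heq
    rw [H23.isNilpotentBlock_iff (H23.isMaximalBrauerPair_of hb he' he)]
    intro Q f hQ x hx hreg
    have hQD : Q.map C[z].subtype ≤ D := by
      rintro _ ⟨q, hq, rfl⟩
      exact Subgroup.mem_subgroupOf.1 (hQ.le 2 hq)
    have hxodd : Odd (orderOf (x : G)) := by
      rw [Subgroup.orderOf_coe, ← Nat.not_even_iff_odd, even_iff_two_dvd]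
      exact hreg
    have hxn : (x : G) ∈ Subgroup.normalizer ((Q.map C[z].subtype : Subgroup G) : Set G) := by
      rw [Subgroup.mem_normalizer_iff]
      intro q
      constructor
      · rintro ⟨q', hq', rfl⟩
        exact ⟨x * q' * x⁻¹, (Subgroup.mem_normalizer_iff.1 hx.1 q').1 hq', rfl⟩
      · rintro ⟨q', hq', he⟩
        refine ⟨x⁻¹ * q' * x, (Subgroup.mem_normalizer_iff.1 hx.1 _).2 (by simpa [mul_assoc] using hq'), ?_⟩
        show ((x⁻¹ * q' * x : C[z]) : G) = q
        simp only [Subgroup.coe_mul, Subgroup.coe_inv]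
        rw [show (q' : G) = x * q * (x : G)⁻¹ from he]
        group
    have hfix : (x : G) * z * (x : G)⁻¹ = z := by
      rw [← show z * (x : G) = x * z from x.2 z rfl, mul_inv_cancel_right]
    have hc := h.centralizes hQD hxodd hxn (hz ▸ hfix)
    rw [Subgroup.mem_centralizer_iff] at hc ⊢
    exact fun q hq => Subtype.ext (hc q ⟨q, hq, rfl⟩)
  · have h1 := H20.card_defectGroup h.hM hb hD'
    rw [H23.card_subgroupOf hDC, h.card_D.1] at h1
    exact (Nat.pow_right_injective le_rfl h1).symm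

/-- (d) The subsection blocks at the central involution. -/
theorem rank_centre (h : Dih M B D f0 r s m)
    {b : Set (IrrCharacter C[r ^ 2 ^ (m - 1)])} (hb : IsPBlock M b)
    (hle : H23.Le 2 (Subgroup.zpowers (r ^ 2 ^ (m - 1)), H23.eG M C[r ^ 2 ^ (m - 1)] b) (D, f0)) :
    blockDefect 2 b = m + 1 ∧ blockRank 2 b = 1 := by
  haveI := Fintype.ofFinite C[r ^ 2 ^ (m - 1)]
  obtain ⟨hnil, hd⟩ := h.nilpotent_centre hb hle
  exact ⟨hd, (Cfsg.Agent.S4689.result 2 M h.hM b hnil).1⟩

end Dih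

end H12.DihPairs
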