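import Mathlib

/-!
# The integers behind a 2-block with quaternion defect group

The forms `X`, `Y` at the central involution and at `1`, and the rotation totals `T`.
-/

set_option autoImplicit false

open Finset

namespace H12.QuatInt

variable {ι : Type*}

/-- The integral data of a block with quaternion defect group of order `2 ^ (a + 2)`. -/
structure Data (s : Finset ι) (ht : ι → ℕ) (T : ι → ℤ) (X Y : ι → ι → ℤ) (a u l lz : ℕ) :
    Prop where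
  ha : 1 ≤ a
  hl : 1 ≤ l
  hlz : lz + u = 3
  hH : (s.filter fun χ => ht χ = 0).card = 4
  tsum : ∑ χ ∈ s, T χ = 2 * 2 ^ a * (2 ^ a - 1)
  tH : ∀ ψ ∈ s, ht ψ = 0 →
    T ψ = 2 * 2 ^ a - 1 ∨ (T ψ = 2 ^ a - 1 ∧ (2 * 2 ^ a : ℤ) ∣ Y ψ ψ - X ψ ψ)
  tN : ∀ χ ∈ s, ht χ ≠ 0 → T χ = 0 ∨ T χ = 2 * 2 ^ a - 4
  diag : ∀ χ ∈ s, Y χ χ + X χ χ + 2 * T χ + 2 ^ a * (if ht χ = 0 then (u : ℤ) else 0) = 4 * 2 ^ a
  y1 : ∀ χ ∈ s, 1 ≤ Y χ χ
  x1 : ∀ χ ∈ s, 1 ≤ X χ χ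
  ysum : ∑ χ ∈ s, Y χ χ = 4 * 2 ^ a * (l : ℤ)
  xsum : ∑ χ ∈ s, X χ χ = 4 * 2 ^ a * (lz : ℤ)
  yrow : ∀ χ ∈ s, ∑ ψ ∈ s, Y χ ψ ^ 2 = 4 * 2 ^ a * Y χ χ
  xrow : ∀ χ ∈ s, ∑ ψ ∈ s, X χ ψ ^ 2 = 4 * 2 ^ a * X χ χ
  ysymm : ∀ χ ∈ s, ∀ ψ ∈ s, Y χ ψ = Y ψ χ
  xsymm : ∀ χ ∈ s, ∀ ψ ∈ s, X χ ψ = X ψ χ
  ydvd : ∀ χ ∈ s, 0 < ht χ → (2 : ℤ) ^ (ht χ + 1) ∣ Y χ χ
  xdvd : ∀ χ ∈ s, 0 < ht χ → (2 : ℤ) ^ (ht χ + 1) ∣ X χ χ
  exact_zero : ∀ χ ∈ s, ∀ ψ ∈ s, ht ψ = 0 → ¬ (2 : ℤ) ^ (ht χ + 1) ∣ Y χ ψ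
  hR : ∀ φ ∈ s, ht φ ≠ 0 → T φ = 0 → (2 * 2 ^ a : ℤ) ∣ Y φ φ - X φ φ ∧
    ∀ ψ ∈ s, ht ψ = 0 → Y φ ψ + X φ ψ = 0 ∧ (2 * 2 ^ a : ℤ) ∣ Y φ ψ - X φ ψ

namespace Data

variable {s : Finset ι} {ht : ι → ℕ} {T : ι → ℤ} {X Y : ι → ι → ℤ} {a u l lz : ℕ}

theorem two_le (h : Data s ht T X Y a u l lz) : (2 : ℤ) ≤ 2 ^ a := by
  calc (2 : ℤ) = 2 ^ 1 := (pow_one 2).symm
    _ ≤ _ := pow_le_pow_right₀ (by norm_num) h.ha

theorem four_le (h : Data s ht T X Y a u l lz) (hne : (2 : ℤ) ^ a ≠ 2) : (4 : ℤ) ≤ 2 ^ a := by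
  have ha2 : 2 ≤ a := by
    by_contra hlt
    obtain rfl : a = 1 := by have := h.ha; omega
    exact hne (pow_one 2)
  calc (4 : ℤ) = 2 ^ 2 := by norm_num
    _ ≤ _ := pow_le_pow_right₀ (by norm_num) ha2

/-- The number of members. -/
theorem card (h : Data s ht T X Y a u l lz) : s.card = l + 2 ^ a + 2 := by
  classical
  have e := sum_congr (s₁ := s) rfl h.diag
  simp only [sum_add_distrib, ← mul_sum, ← sum_filter, sum_const, nsmul_eq_mul, h.hH, h.ysum,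
    h.xsum, h.tsum] at e
  push_cast at e
  have hq := h.two_le
  have hz : (lz : ℤ) + u = 3 := by exact_mod_cast h.hlz
  have : (4 * 2 ^ a : ℤ) * (s.card : ℤ) = 4 * 2 ^ a * ((l + 2 ^ a + 2 : ℕ) : ℤ) := by
    push_cast
    linear_combination -e + 4 * 2 ^ a * hz
  exact_mod_cast mul_left_cancel₀ (by positivity) this

/-- Members without rotations meet every member of height zero. -/
theorem meet (h : Data s ht T X Y a u l lz) {φ ψ : ι} (hφ : φ ∈ s) (h0 : ht φ ≠ 0)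
    (hT : T φ = 0) (hψ : ψ ∈ s) (hψ0 : ht ψ = 0) :
    (2 : ℤ) ^ a ∣ Y φ ψ ∧ Y φ ψ ≠ 0 ∧ X φ ψ = -Y φ ψ ∧
      (2 : ℤ) ^ a * 2 ^ a ≤ Y φ ψ ^ 2 := by
  obtain ⟨hsum, n, hn⟩ := (h.hR φ hφ h0 hT).2 ψ hψ hψ0
  have he : Y φ ψ = 2 ^ a * n := by linarith
  have hne : Y φ ψ ≠ 0 := fun e => h.exact_zero φ hφ ψ hψ hψ0 (e ▸ dvd_zero _)
  refine ⟨⟨n, he⟩, hne, by linarith, ?_⟩
  have hn0 : n ≠ 0 := fun e => hne (by rw [he, e, mul_zero])
  have : 1 ≤ n ^ 2 := by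
    have : 0 < n ^ 2 := by positivity
    omega
  rw [he]
  nlinarith [h.two_le]

/-- The members without rotations are few beside a value one. -/
theorem card_rest_le (h : Data s ht T X Y a u l lz) {ψ : ι} (hψ : ψ ∈ s) (hψ0 : ht ψ = 0)
    (h1 : Y ψ ψ = 1 ∨ X ψ ψ = 1) :
    (2 : ℤ) ^ a * 2 ^ a * ((s.filter fun χ => ht χ ≠ 0 ∧ T χ = 0).card : ℤ) < 4 * 2 ^ a := by
  classical
  set R := s.filter fun χ => ht χ ≠ 0 ∧ T χ = 0 with hRd
  have hnR : ψ ∉ R := fun e => (mem_filter.1 e).2.1 hψ0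
  have key : ∀ Z : ι → ι → ℤ, Z ψ ψ = 1 → ∑ χ ∈ s, Z ψ χ ^ 2 = 4 * 2 ^ a * Z ψ ψ →
      (∀ φ ∈ R, (2 : ℤ) ^ a * 2 ^ a ≤ Z ψ φ ^ 2) →
      (2 : ℤ) ^ a * 2 ^ a * (R.card : ℤ) < 4 * 2 ^ a := by
    intro Z hz hrow hle
    rw [hz, mul_one] at hrow
    have h2 : ∑ χ ∈ insert ψ R, Z ψ χ ^ 2 ≤ ∑ χ ∈ s, Z ψ χ ^ 2 :=
      sum_le_sum_of_subset_of_nonneg (insert_subset hψ (filter_subset _ _)) fun _ _ _ => sq_nonneg _
    rw [sum_insert hnR, hrow, hz] at h2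
    have h3 := card_nsmul_le_sum R (fun χ => Z ψ χ ^ 2) _ hle
    rw [nsmul_eq_mul] at h3
    linarith
  rcases h1 with h1 | h1
  · refine key Y h1 (h.yrow ψ hψ) fun φ hφ => ?_
    obtain ⟨hφs, hφ0, hT⟩ := mem_filter.1 hφ
    rw [h.ysymm ψ hψ φ hφs]
    exact (h.meet hφs hφ0 hT hψ hψ0).2.2.2
  · refine key X h1 (h.xrow ψ hψ) fun φ hφ => ?_
    obtain ⟨hφs, hφ0, hT⟩ := mem_filter.1 hφ
    rw [h.xsymm ψ hψ φ hφs, (h.meet hφs hφ0 hT hψ hψ0).2.2.1, neg_sq]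
    exact (h.meet hφs hφ0 hT hψ hψ0).2.2.2

theorem split_card (h : Data s ht T X Y a u l lz) :
    s.card = 4 + (s.filter fun χ => ht χ ≠ 0 ∧ T χ ≠ 0).card +
      (s.filter fun χ => ht χ ≠ 0 ∧ T χ = 0).card := by
  classical
  rw [← h.hH, ← card_filter_add_card_filter_not (s := s) (fun χ => ht χ = 0),
    ← card_filter_add_card_filter_not (s := s.filter fun χ => ¬ ht χ = 0) (fun χ => T χ = 0),
    filter_filter, filter_filter]
  simp only [ne_eq]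
  omega

/-- **The members of height zero** have total `q - 1`; the others with rotations are `q - 1`. -/
theorem shape (h : Data s ht T X Y a u l lz) :
    (∀ ψ ∈ s, ht ψ = 0 → T ψ = 2 ^ a - 1 ∧ (2 * 2 ^ a : ℤ) ∣ Y ψ ψ - X ψ ψ) ∧
      ((2 : ℤ) ^ a = 2 → (s.filter fun χ => ht χ ≠ 0 ∧ T χ ≠ 0) = ∅) ∧
      ((2 : ℤ) ^ a ≠ 2 →
        ((s.filter fun χ => ht χ ≠ 0 ∧ T χ ≠ 0).card : ℤ) = 2 ^ a - 1) := by
  classical
  set q : ℤ := 2 ^ a with hqd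
  set H := s.filter fun χ => ht χ = 0 with hHd
  set N := s.filter fun χ => ht χ ≠ 0 ∧ T χ ≠ 0 with hNd
  set β := H.filter fun χ => T χ = 2 * q - 1 with hβd
  have hq2 : 2 ≤ q := h.two_le
  have hTH : ∀ ψ ∈ H, T ψ = (q - 1) + q * (if T ψ = 2 * q - 1 then 1 else 0) := by
    intro ψ hψ
    obtain ⟨hs, h0⟩ := mem_filter.1 hψ
    split_ifs with e
    · rw [e]; ring
    · rw [mul_zero, add_zero]; exact ((h.tH ψ hs h0).resolve_left e).1
  have hsum : q * (β.card : ℤ) + (2 * q - 4) * (N.card : ℤ) = 2 * (q - 1) * (q - 2) := by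
    have e := h.tsum
    rw [← sum_filter_add_sum_filter_not s (fun χ => ht χ = 0),
      ← sum_filter_ne_zero (s := s.filter fun χ => ¬ ht χ = 0), filter_filter,
      sum_congr rfl hTH, sum_congr (s₁ := s.filter fun χ => ¬ ht χ = 0 ∧ T χ ≠ 0) rfl
        (g := fun _ => 2 * q - 4) (fun χ hχ => by
          obtain ⟨hs, h0, hT⟩ := mem_filter.1 hχ
          exact (h.tN χ hs h0).resolve_left hT), sum_add_distrib, ← mul_sum, sum_boole] at e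
    simp only [sum_const, nsmul_eq_mul, ← hHd] at e
    rw [h.hH, ← hβd, ← hNd] at e
    push_cast at e
    linarith
  have hN2 : q = 2 → N = ∅ := by
    intro e
    refine filter_eq_empty_iff.2 fun χ hs hc => ?_
    rcases h.tN χ hs hc.1 with e1 | e1
    · exact hc.2 e1
    · exact hc.2 (by rw [e1, ← hqd, e]; norm_num)
  have hβ : β = ∅ := by
    by_contra hne
    obtain ⟨ψ, hψ⟩ := nonempty_iff_ne_empty.2 hne
    have hb : (1 : ℤ) ≤ β.card := by exact_mod_cast card_pos.2 ⟨ψ, hψ⟩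
    have hq0 : q ≠ 2 := fun e => by rw [hN2 e, e] at hsum; norm_num at hsum; exact hne hsum
    have hq4 : 4 ≤ q := h.four_le hq0
    have hN : (N.card : ℤ) ≤ q - 2 := by
      have hn0 : (0 : ℤ) ≤ N.card := Int.natCast_nonneg _
      nlinarith
    obtain ⟨hψH, hT⟩ := mem_filter.1 hψ
    obtain ⟨hs, h0⟩ := mem_filter.1 hψH
    have hd := h.diag ψ hs
    rw [if_pos h0, hT] at hd
    have := h.y1 ψ hs
    have := h.x1 ψ hs
    have hY : Y ψ ψ = 1 := by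
      have : (0 : ℤ) ≤ u := Int.natCast_nonneg _
      nlinarith
    have hR := h.card_rest_le hs h0 (Or.inl hY)
    have hR0 : (1 : ℤ) ≤ ((s.filter fun χ => ht χ ≠ 0 ∧ T χ = 0).card : ℤ) := by
      have e1 := congrArg (fun n : ℕ => (n : ℤ)) (h.card.symm.trans h.split_card)
      push_cast at e1
      rw [← hNd, ← hqd] at e1
      have := h.hl
      omega
    nlinarith
  have hNc : q ≠ 2 → (N.card : ℤ) = q - 1 := by
    intro hne
    have hq4 := h.four_le hne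
    rw [hβ, card_empty, Nat.cast_zero, mul_zero, zero_add] at hsum
    exact mul_left_cancel₀ (show (2 * q - 4) ≠ 0 by omega) (hsum.trans (by ring))
  refine ⟨fun ψ hs h0 => (h.tH ψ hs h0).resolve_left fun e => ?_, hN2, hNc⟩
  have : ψ ∈ β := mem_filter.2 ⟨mem_filter.2 ⟨hs, h0⟩, e⟩
  rw [hβ] at this
  exact notMem_empty _ this

/-- A member of positive height with rotations. -/
theorem height_one (h : Data s ht T X Y a u l lz) {χ : ι} (hs : χ ∈ s) (h0 : ht χ ≠ 0)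
    (hT : T χ ≠ 0) : ht χ = 1 ∧ X χ χ = Y χ χ := by
  have hd := h.diag χ hs
  rw [if_neg h0, (h.tN χ hs h0).resolve_left hT] at hd
  have hpos : 0 < ht χ := Nat.pos_of_ne_zero h0
  have h4 : (2 : ℤ) ^ 2 ∣ 2 ^ (ht χ + 1) := pow_dvd_pow 2 (by omega)
  obtain ⟨x, hx⟩ := h4.trans (h.xdvd χ hs hpos)
  obtain ⟨y, hy⟩ := h4.trans (h.ydvd χ hs hpos)
  have := h.x1 χ hs
  have := h.y1 χ hs
  refine ⟨?_, by omega⟩
  by_contra hne
  have h8 : (2 : ℤ) ^ 3 ∣ Y χ χ := (pow_dvd_pow 2 (by omega)).trans (h.ydvd χ hs hpos)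
  obtain ⟨z, hz⟩ := h8
  omega

/-- A member of positive height without rotations. -/
theorem height_top (h : Data s ht T X Y a u l lz) {φ : ι} (hs : φ ∈ s) (h0 : ht φ ≠ 0)
    (hT : T φ = 0) : ht φ = a ∧ X φ φ = Y φ φ := by
  classical
  obtain ⟨ψ, hψ⟩ := card_pos.1 (by rw [h.hH]; norm_num :
    0 < (s.filter fun χ => ht χ = 0).card)
  obtain ⟨hψs, hψ0⟩ := mem_filter.1 hψ
  have hpos : 0 < ht φ := Nat.pos_of_ne_zero h0
  have hge : a ≤ ht φ := by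
    by_contra hlt
    exact h.exact_zero φ hs ψ hψs hψ0 ((pow_dvd_pow 2 (by omega)).trans (h.meet hs h0 hT hψs hψ0).1)
  have hd := h.diag φ hs
  rw [if_neg h0, hT] at hd
  have := h.x1 φ hs
  have := h.y1 φ hs
  obtain ⟨y, hy⟩ := h.ydvd φ hs hpos
  obtain ⟨n, hn⟩ := (h.hR φ hs h0 hT).1
  have hp : (2 : ℤ) ^ (ht φ + 1) = 2 * 2 ^ a * 2 ^ (ht φ - a) := by
    rw [← pow_succ', ← pow_add]; congr 1; omega
  have hq := h.two_le
  have hy' : Y φ φ = 2 * 2 ^ a := by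
    obtain ⟨x, hx⟩ := h.xdvd φ hs hpos
    rw [hp] at hx hy
    have hxy : 2 * 2 ^ a * ((2 : ℤ) ^ (ht φ - a) * (x + y)) = 2 * 2 ^ a * 2 := by
      linear_combination hd - hx - hy
    have hxy' := mul_left_cancel₀ (by positivity) hxy
    have hpos' : (0 : ℤ) ≤ 2 * 2 ^ a * 2 ^ (ht φ - a) := by positivity
    have hx1 : 1 ≤ x := by
      by_contra hx0
      have := mul_nonpos_of_nonneg_of_nonpos hpos' (show x ≤ 0 by omega)
      linarith
    have hy1 : 1 ≤ y := by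
      by_contra hy0
      have := mul_nonpos_of_nonneg_of_nonpos hpos' (show y ≤ 0 by omega)
      linarith
    have hp1 : (1 : ℤ) ≤ 2 ^ (ht φ - a) := one_le_pow₀ (by norm_num)
    have : (2 : ℤ) ^ (ht φ - a) = 1 := by nlinarith
    have : y = 1 := by nlinarith
    rw [hy]
    simp [*]
  refine ⟨le_antisymm ?_ hge, by linarith⟩
  by_contra hlt
  have h1 : 2 * 2 ^ a * 2 ≤ (2 : ℤ) ^ (ht φ + 1) := by
    rw [← pow_succ', ← pow_succ]
    exact pow_le_pow_right₀ (by norm_num) (by omega)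
  have h2 := Int.le_of_dvd (by linarith) (h.ydvd φ hs hpos)
  linarith

/-- **The rank**. -/
theorem rank_le (h : Data s ht T X Y a u l lz) : l ≤ 3 := by
  classical
  by_cases hall : ∀ ψ ∈ s, ht ψ = 0 → X ψ ψ = Y ψ ψ
  · have e : ∑ χ ∈ s, X χ χ = ∑ χ ∈ s, Y χ χ := sum_congr rfl fun χ hs => by
      by_cases h0 : ht χ = 0
      · exact hall χ hs h0
      by_cases hT : T χ = 0
      · exact (h.height_top hs h0 hT).2
      · exact (h.height_one hs h0 hT).2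
    rw [h.xsum, h.ysum] at e
    have e' : lz = l := by exact_mod_cast mul_left_cancel₀ (by positivity) e
    have := h.hlz
    omega
  push Not at hall
  obtain ⟨ψ, hs, h0, hne⟩ := hall
  obtain ⟨hT, n, hn⟩ := h.shape.1 ψ hs h0
  have hd := h.diag ψ hs
  rw [if_pos h0, hT] at hd
  have := h.x1 ψ hs
  have := h.y1 ψ hs
  have hq := h.two_le
  have hu : (0 : ℤ) ≤ u := Int.natCast_nonneg _
  have hn0 : n ≠ 0 := fun e => hne (by rw [e, mul_zero] at hn; linarith)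
  have hqu : (0 : ℤ) ≤ 2 ^ a * u := by positivity
  have h1 : Y ψ ψ = 1 ∨ X ψ ψ = 1 := by
    rcases (show 1 ≤ n ∨ n ≤ -1 by omega) with hn1 | hn1
    · right; nlinarith
    · left; nlinarith
  have hR := h.card_rest_le hs h0 h1
  have hc := h.split_card
  rw [h.card] at hc
  by_cases hq2 : (2 : ℤ) ^ a = 2
  · rw [h.shape.2.1 hq2, card_empty] at hc
    rw [hq2] at hR
    have : (2 : ℕ) ^ a = 2 := by exact_mod_cast hq2
    omega
  · have hq4 := h.four_le hq2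
    have hN := h.shape.2.2 hq2
    have hR0 : ((s.filter fun χ => ht χ ≠ 0 ∧ T χ = 0).card : ℤ) = 0 := by
      have : (0 : ℤ) ≤ ((s.filter fun χ => ht χ ≠ 0 ∧ T χ = 0).card : ℤ) := Int.natCast_nonneg _
      nlinarith
    have e := congrArg (fun k : ℕ => (k : ℤ)) hc
    push_cast at e
    omega

/-- Every member has height zero, one or `a`. -/
theorem height_cases (h : Data s ht T X Y a u l lz) {χ : ι} (hs : χ ∈ s) :
    ht χ = 0 ∨ ht χ = 1 ∨ ht χ = a := by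
  by_cases h0 : ht χ = 0
  · exact Or.inl h0
  by_cases hT : T χ = 0
  · exact Or.inr (Or.inr (h.height_top hs h0 hT).1)
  · exact Or.inr (Or.inl (h.height_one hs h0 hT).1)

/-- The members of height one. -/
theorem card_height_one (h : Data s ht T X Y a u l lz) (ha : 2 ≤ a) :
    (s.filter fun χ => ht χ = 1).card = 2 ^ a - 1 := by
  classical
  have hne : (2 : ℤ) ^ a ≠ 2 := fun e => by
    have : (2 : ℤ) ^ 2 ≤ 2 ^ a := pow_le_pow_right₀ (by norm_num) ha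
    linarith
  have e : (s.filter fun χ => ht χ = 1) = s.filter fun χ => ht χ ≠ 0 ∧ T χ ≠ 0 := by
    refine filter_congr fun χ hs => ⟨fun h1 => ⟨by omega, fun hT => ?_⟩, fun hc =>
      (h.height_one hs hc.1 hc.2).1⟩
    have := (h.height_top hs (by omega) hT).1
    omega
  rw [e]
  have := h.shape.2.2 hne
  have h1 : 1 ≤ 2 ^ a := Nat.one_le_two_pow
  have h2 : ((s.filter fun χ => ht χ ≠ 0 ∧ T χ ≠ 0).card : ℤ) = ((2 ^ a - 1 : ℕ) : ℤ) := by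
    rw [Nat.cast_sub h1]
    push_cast
    exact this
  exact_mod_cast h2

end Data

end H12.QuatInt
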