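import Cfsg.Agent.H12.QuatCount
import Cfsg.Agent.H12.QuatInt

/-!
# A 2-block with quaternion defect group gives the integral data
-/

set_option autoImplicit false
set_option linter.unusedSectionVars false
set_option linter.style.haveILetI false
set_option maxHeartbeats 1600000

open Cfsg Finset
open scoped MonoidAlgebra ComplexConjugate

namespace H12.QuatBasic.Quat

universe u

variable {G : Type u} [Group G] [Fintype G] {M : Ideal AlgInt} [hMp : M.IsPrime]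
  [CharP (H20.k M) 2] [IsAlgClosed (H20.k M)]
  {B : Set (IrrCharacter G)} {D : Subgroup G} {f0 : (H20.k M)[G]} {r s : G} {a : ℕ}

open H12.QuatLocal.Loc4 (col)

/-- Four odd entries exhaust a square sum equal to four. -/
theorem squares_four {ι : Type*} {S : Finset ι} {P : ι → Prop} [DecidablePred P]
    (hcard : (S.filter P).card = 4) {f : ι → ℤ} (hsum : ∑ x ∈ S, f x ^ 2 = 4)
    (hodd : ∀ x ∈ S, P x → ¬ (2 : ℤ) ∣ f x) :
    ∀ x ∈ S, (P x → f x ^ 2 = 1) ∧ (¬ P x → f x = 0) := by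
  have h1 : ∀ x ∈ S.filter P, (1 : ℤ) ≤ f x ^ 2 := by
    intro x hx
    obtain ⟨hx, hP⟩ := mem_filter.1 hx
    have hne : f x ≠ 0 := fun e => hodd x hx hP (e ▸ dvd_zero _)
    have : 0 < f x ^ 2 := by positivity
    omega
  rw [← sum_filter_add_sum_filter_not S P] at hsum
  have h2 := card_nsmul_le_sum (S.filter P) _ _ h1
  rw [hcard] at h2
  have h3 : 0 ≤ ∑ x ∈ S.filter fun x => ¬ P x, f x ^ 2 := sum_nonneg fun x _ => sq_nonneg _
  norm_num at h2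
  intro x hx
  constructor
  · intro hP
    have h4 : ∑ y ∈ S.filter P, (f y ^ 2 - 1) = 0 := by
      rw [sum_sub_distrib, sum_const, hcard, nsmul_one]
      push_cast
      linarith
    have := (sum_eq_zero_iff_of_nonneg fun y hy => by have := h1 y hy; linarith).1 h4 x
      (mem_filter.2 ⟨hx, hP⟩)
    linarith
  · intro hP
    have h4 : ∑ y ∈ S.filter (fun x => ¬ P x), f y ^ 2 = 0 := by linarith
    have := (sum_eq_zero_iff_of_nonneg fun y _ => sq_nonneg _).1 h4 x (mem_filter.2 ⟨hx, hP⟩)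
    exact pow_eq_zero_iff two_ne_zero |>.1 this

/-- A column with total zero vanishes. -/
theorem col_eq_zero {q : ℕ} {ζ : ℂ} {m : ℕ → ℕ} {k : ℕ} (hk : 1 ≤ k) (hqk : q = 2 * k)
    (hζ : IsPrimitiveRoot ζ (2 * q)) (hm : H12.QuatCols.Sym q m) (hT : H12.QuatCols.tot q m = 0)
    {j : ℕ} (hj : j ∈ Ico 1 q) : col (2 * q) ζ m j = 0 := by
  have hs := H12.QuatCols.sum_sq hk hqk hζ hm
  rw [hT, Int.cast_zero, sum_congr rfl fun i _ => show col (2 * q) ζ m i ^ 2 =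
      ((Complex.normSq (col (2 * q) ζ m i) : ℝ) : ℂ) by
    rw [← Complex.mul_conj, H12.QuatCols.col_real (by omega) hζ hm, pow_two],
    ← Complex.ofReal_sum, Complex.ofReal_eq_zero] at hs
  exact Complex.normSq_eq_zero.1
    ((sum_eq_zero_iff_of_nonneg fun i _ => Complex.normSq_nonneg _).1 hs j hj)

/-- In height zero the minimal total makes the columns signs. -/
theorem col_sq_eq_one {q : ℕ} {ζ : ℂ} {m : ℕ → ℕ} {k : ℕ} (hk : 1 ≤ k) (hqk : q = 2 * k)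
    (h3 : k ≠ 3) (hζ : IsPrimitiveRoot ζ (2 * q)) (hm : H12.QuatCols.Sym q m)
    (hd : ((m 0 : ℤ) - m q) ^ 2 = 1)
    (hle : H12.QuatCols.tot q m ≤ 2 * (q : ℤ) - 2) :
    H12.QuatCols.tot q m = (q : ℤ) - 1 ∧ ∀ j ∈ Ico 1 q, col (2 * q) ζ m j ^ 2 = 1 := by
  have hh : q / 2 = k := by omega
  obtain ⟨_, hmin⟩ := H12.QuatCombi.total_height_zero (h := q / 2) (by omega) (by omega)
    (fun i => (m (2 * (i : ℕ) + 1) : ℤ)) (m 0) (m q) (fun i => (m (2 * (i : ℕ) + 2) : ℤ)) hd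
  have hcast : ((q / 2 : ℕ) : ℤ) * 2 = q := by rw [hh, hqk]; push_cast; ring
  obtain ⟨hT, hA, hB⟩ := hmin (by unfold H12.QuatCols.tot at hle; linarith)
  refine ⟨by unfold H12.QuatCols.tot; linarith, fun j hj => ?_⟩
  have hodd : ∀ l ∈ Ico 1 q, ¬ Even l → m l = m 1 := by
    intro l hl hev
    rw [Finset.mem_Ico] at hl
    obtain ⟨i, rfl⟩ := Nat.not_even_iff_odd.1 hev
    have := hA ⟨i, by omega⟩ ⟨0, by omega⟩
    simpa using this
  have hd' : ((m 0 : ℂ) - m q) ^ 2 = 1 := by exact_mod_cast hd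
  have heven : ∀ l ∈ Ico 1 q, Even l → ∃ i : Fin (q / 2 - 1), l = 2 * (i : ℕ) + 2 := by
    intro l hl hev
    rw [Finset.mem_Ico] at hl
    obtain ⟨i, rfl⟩ := hev
    exact ⟨⟨i - 1, by omega⟩, by simp only; omega⟩
  rcases hB with hB | hB
  · rw [H12.QuatCols.col_shape hqk hζ hm (α := m 1) (β := m 0) hodd (fun l hl hev => by
      obtain ⟨i, rfl⟩ := heven l hl hev
      exact_mod_cast hB i) hj, sub_self, zero_add, mul_pow, ← pow_mul,
      (even_two.mul_left j).neg_one_pow, mul_one, sub_sq_comm, hd']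
  · rw [H12.QuatCols.col_shape hqk hζ hm (α := m 1) (β := m q) hodd (fun l hl hev => by
      obtain ⟨i, rfl⟩ := heven l hl hev
      exact_mod_cast hB i) hj, sub_self, zero_mul, add_zero, hd']

/-- The odd columns give four units. -/
theorem sum_sq_diff (h : Quat M B D f0 r s a) {u : ℕ} {w : Fin u → G}
    (hF : H12.SubsecFam.Fam (M := M) 2 B (reps r a w) (fun i => bl M D f0 (reps r a w i)))
    {ζ : ℂ} {m : IrrCharacter G → ℕ → ℕ} (hζ : IsPrimitiveRoot ζ (2 * 2 ^ a))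
    (hsym : ∀ χ, H12.QuatCols.Sym (2 ^ a) (m χ))
    (hpair : ∀ j, 1 ≤ j → j < 2 ^ a → ∀ χ ψ : IrrCharacter G,
        H23.pairC 2 (r ^ j) (bl M D f0 (r ^ j)) χ ψ =
          col (2 * 2 ^ a) ζ (m χ) j * conj (col (2 * 2 ^ a) ζ (m ψ) j) /
            ((2 * 2 ^ a : ℕ) : ℂ)) :
    ∑ χ ∈ H22.blockFinset B, ((m χ 0 : ℤ) - m χ (2 ^ a)) ^ 2 = 4 := by
  classical
  have hq := h.two_mul_h
  have hh : 1 ≤ 2 ^ (a - 1) := Nat.one_le_two_pow
  have hq0 : ((2 ^ a : ℕ) : ℂ) ≠ 0 := Nat.cast_ne_zero.2 (by positivity)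
  have e : ∀ χ ∈ H22.blockFinset B, ((2 ^ a : ℕ) : ℂ) ^ 2 * ((m χ 0 : ℂ) - m χ (2 ^ a)) ^ 2 =
      4 * ∑ i : Fin (2 ^ (a - 1)), ∑ k : Fin (2 ^ (a - 1)),
        conj (col (2 * 2 ^ a) ζ (m χ) (2 * (i : ℕ) + 1)) *
          col (2 * 2 ^ a) ζ (m χ) (2 * (k : ℕ) + 1) := by
    intro χ _
    rw [← mul_pow, ← H12.QuatCols.sum_odd hh hq hζ (hsym χ), mul_pow, pow_two (∑ i, _),
      sum_mul_sum]
    norm_num
    simp only [H12.QuatCols.col_real (by omega) hζ (hsym χ)]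
  have e2 := sum_congr rfl e
  rw [← mul_sum, ← mul_sum, sum_comm (s := H22.blockFinset B),
    sum_congr rfl fun i _ => sum_comm (s := H22.blockFinset B)] at e2
  rw [sum_congr (s₁ := (univ : Finset (Fin (2 ^ (a - 1))))) rfl fun i _ => show
      ∑ k : Fin (2 ^ (a - 1)), ∑ χ ∈ H22.blockFinset B,
        conj (col (2 * 2 ^ a) ζ (m χ) (2 * (i : ℕ) + 1)) *
          col (2 * 2 ^ a) ζ (m χ) (2 * (k : ℕ) + 1) = ((2 * 2 ^ a : ℕ) : ℂ) by
    rw [sum_eq_single i (fun k _ hne => h.col_orth hF hpair (by omega)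
        (by have := i.isLt; omega) (by omega) (by have := k.isLt; omega)
        (fun e' => hne (Fin.ext (by omega)))) (fun e' => absurd (mem_univ i) e'),
      sum_congr rfl fun χ _ => mul_comm _ _]
    exact h.sum_col_sq hpair (by omega) (by have := i.isLt; omega)] at e2
  rw [sum_const, card_univ, Fintype.card_fin, nsmul_eq_mul] at e2
  have hqC : ((2 ^ a : ℕ) : ℂ) = 2 * ((2 ^ (a - 1) : ℕ) : ℂ) := by exact_mod_cast hq
  have e3 : ∑ χ ∈ H22.blockFinset B, ((m χ 0 : ℂ) - m χ (2 ^ a)) ^ 2 = 4 := by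
    refine mul_left_cancel₀ (pow_ne_zero 2 hq0) (e2.trans ?_)
    rw [Nat.cast_mul, hqC]
    push_cast
    ring
  exact_mod_cast e3

/-- **The integral data.** -/
theorem exists_data (h : Quat M B D f0 r s a) (e : D ≃* QuaternionGroup (2 ^ a)) :
    ∃ (T : IrrCharacter G → ℤ) (X Y : IrrCharacter G → IrrCharacter G → ℤ) (u lz : ℕ),
      H12.QuatInt.Data (H22.blockFinset B)
        (fun χ : IrrCharacter G => blockHeight 2 B (χ : G → ℂ)) T X Y a u (blockRank 2 B) lz := by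
  classical
  haveI : Fact (Nat.Prime 2) := ⟨Nat.prime_two⟩
  obtain ⟨ζ, m, hζ, hsym, -, hpair⟩ := h.exists_rot
  obtain ⟨u, w, lz, hout, hF, hlz, hlzu⟩ := h.exists_reps_rank e
  choose c hc hcsum _ hcodd using fun i => h.exists_out (hout i)
  obtain ⟨X, lz', -, hX, hXsymm, hXrow, hX1, hXdvd, hXsum⟩ := h.exists_zform
  obtain ⟨Y, hYval, hY⟩ := H22.exists_isDeltaMatrix (p := 2) h.hM h.hB
  set sB := H22.blockFinset B with hsBd
  set g : IrrCharacter G → ℕ → ℂ := fun χ j => col (2 * 2 ^ a) ζ (m χ) j with hgd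
  set T : IrrCharacter G → ℤ := fun χ => H12.QuatCols.tot (2 ^ a) (m χ) with hTd
  set ht : IrrCharacter G → ℕ := fun χ => blockHeight 2 B (χ : G → ℂ) with hhtd
  set q : ℂ := ((2 ^ a : ℕ) : ℂ) with hqd
  have hmem : ∀ {χ}, χ ∈ sB → χ ∈ B := fun hχ => H22.mem_blockFinset.1 hχ
  have hq := h.two_mul_h
  have hh1 : 1 ≤ 2 ^ (a - 1) := Nat.one_le_two_pow
  have hh3 : 2 ^ (a - 1) ≠ 3 := by
    rcases Nat.eq_zero_or_pos (a - 1) with e0 | e0
    · rw [e0]; norm_num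
    · obtain ⟨t, ht'⟩ := Nat.exists_eq_succ_of_ne_zero e0.ne'
      rw [ht', pow_succ]
      omega
  have hq0 : q ≠ 0 := Nat.cast_ne_zero.2 (by positivity)
  have hd : blockDefect 2 B = a + 2 := h.card_D.2
  have hYv : ∀ χ ∈ sB, ∀ ψ ∈ sB, (Y χ ψ : ℂ) = 4 * q * H12.SubsecFam.reg0 M 2 B χ ψ := by
    intro χ hχ ψ hψ
    rw [hYval χ (hmem hχ) ψ, H12.SubsecFam.reg0_eq_Delta h.hB (hmem hχ) (hmem hψ), hd, hqd]
    push_cast
    ring
  have hXv : ∀ χ ψ, (X χ ψ : ℂ) =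
      4 * q * H23.pairC 2 (r ^ 2 ^ a) (bl M D f0 (r ^ 2 ^ a)) χ ψ := by
    intro χ ψ
    rw [hX, hqd]
    push_cast
    ring
  have hrot : ∀ j ∈ Ico 1 (2 ^ a), ∀ χ ψ,
      H23.pairC 2 (r ^ j) (bl M D f0 (r ^ j)) χ ψ = g χ j * g ψ j / (2 * q) := by
    intro j hj χ ψ
    rw [Finset.mem_Ico] at hj
    rw [hpair j hj.1 hj.2, H12.QuatCols.col_real (by omega) hζ (hsym ψ), hqd]
    push_cast
    rfl
  have horth : ∀ χ ∈ sB, ∀ ψ ∈ sB, (Y χ ψ : ℂ) + X χ ψ +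
      2 * (∑ j ∈ Ico 1 (2 ^ a), g χ j * g ψ j) + q * ∑ i, ((c i χ * c i ψ : ℤ) : ℂ) =
      4 * q * classInner (χ : G → ℂ) (ψ : G → ℂ) := by
    intro χ hχ ψ hψ
    rw [h.delta_reps hF (hmem hχ) ψ, hYv χ hχ ψ hψ, hXv, sum_congr rfl fun j hj => hrot j hj χ ψ,
      sum_congr rfl fun i _ => hc i χ ψ, ← sum_div, ← sum_div]
    field_simp
    ring
  have hlam : ∀ χ ∈ sB, ∀ ψ ∈ sB, ∃ n : ℤ, (Y χ ψ : ℂ) - X χ ψ +
      ∑ j ∈ Ico 1 (2 ^ a), (ζ ^ j + ζ ^ (2 * 2 ^ a - j)) * (g χ j * g ψ j) = 2 * q * n := by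
    intro χ hχ ψ hψ
    obtain ⟨n, hn⟩ := h.exists_int_lam hout hF hζ (hmem hχ) ψ
    refine ⟨n, ?_⟩
    rw [← hn, hYv χ hχ ψ hψ, hXv, sum_congr rfl fun j hj => show
      (ζ ^ j + ζ ^ (2 * 2 ^ a - j)) * H23.pairC 2 (r ^ j) (bl M D f0 (r ^ j)) χ ψ =
        (ζ ^ j + ζ ^ (2 * 2 ^ a - j)) * (g χ j * g ψ j) / (2 * q) by
      rw [hrot j hj, mul_div_assoc'], ← sum_div]
    field_simp
    ring
  have hTsum : ∀ χ, ∑ j ∈ Ico 1 (2 ^ a), g χ j * g χ j = (T χ : ℂ) := by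
    intro χ
    rw [← H12.QuatCols.sum_sq hh1 hq hζ (hsym χ)]
    exact sum_congr rfl fun j _ => (pow_two _).symm
  have hT0 : ∀ χ, T χ = 0 → ∀ j ∈ Ico 1 (2 ^ a), g χ j = 0 := fun χ hT j hj =>
    col_eq_zero hh1 hq hζ (hsym χ) hT hj
  -- the members of height zero
  have hodd : ∀ χ ∈ sB, ht χ = 0 → ¬ (2 : ℤ) ∣ (m χ 0 : ℤ) - m χ (2 ^ a) := fun χ hχ h0 =>
    h.odd_m hζ hsym hpair (hmem hχ) h0
  have hsum4 := h.sum_sq_diff hF hζ hsym hpair
  have hYrow : ∀ χ ∈ sB, ∑ ψ ∈ sB, Y χ ψ ^ 2 = 4 * 2 ^ a * Y χ χ := by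
    intro χ hχ
    rw [hY.row χ (hmem hχ), hd]
    push_cast
    ring
  have hH : (sB.filter fun χ => ht χ = 0).card = 4 := by
    obtain ⟨χ₀, hχ₀, he⟩ := H22.exists_height_zero (p := 2) (H20.block_nonempty h.hB)
    have hmem0 : χ₀ ∈ sB.filter fun χ => ht χ = 0 :=
      mem_filter.2 ⟨H22.mem_blockFinset.2 hχ₀, Nat.sub_eq_zero_of_le he.le⟩
    have hle : ((sB.filter fun χ => ht χ = 0).card : ℤ) ≤ 4 := by
      rw [← hsum4]
      refine le_trans ?_ (sum_le_sum_of_subset_of_nonneg (filter_subset (fun χ => ht χ = 0) sB)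
        fun χ _ _ => sq_nonneg _)
      rw [card_eq_sum_ones, Nat.cast_sum]
      refine sum_le_sum fun χ hχ => ?_
      obtain ⟨hχ, h0⟩ := mem_filter.1 hχ
      have hne : (m χ 0 : ℤ) - m χ (2 ^ a) ≠ 0 := fun e => hodd χ hχ h0 (e ▸ dvd_zero _)
      have : 0 < ((m χ 0 : ℤ) - m χ (2 ^ a)) ^ 2 := by positivity
      push_cast
      omega
    have h4 : (4 : ℤ) ∣ ((sB.filter fun χ => ht χ = 0).card : ℤ) := by
      have hrow : ((∑ ψ ∈ sB, Y χ₀ ψ ^ 2 : ℤ) : ZMod 4) = 0 := by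
        rw [hYrow χ₀ (H22.mem_blockFinset.2 hχ₀), ZMod.intCast_zmod_eq_zero_iff_dvd]
        exact ⟨2 ^ a * Y χ₀ χ₀, by push_cast; ring⟩
      rw [show (4 : ℤ) = ((4 : ℕ) : ℤ) by rfl, ← ZMod.intCast_zmod_eq_zero_iff_dvd, ← hrow,
        Int.cast_natCast, Int.cast_sum, card_filter, Nat.cast_sum]
      refine sum_congr rfl fun ψ hψ => ?_
      have h00 : ht χ₀ = 0 := (mem_filter.1 hmem0).2
      split_ifs with h0
      · have hodd' := hY.exact_zero χ₀ hχ₀ ψ (hmem hψ) h0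
        rw [show blockHeight 2 B (χ₀ : G → ℂ) = 0 from h00, zero_add, pow_one, Nat.cast_ofNat]
          at hodd'
        obtain ⟨t, ht'⟩ := Int.not_even_iff_odd.1 fun he' => hodd' (even_iff_two_dvd.1 he')
        rw [ht']
        push_cast
        have h4 : (4 : ZMod 4) = 0 := rfl
        linear_combination -((t : ZMod 4) * t + t) * h4
      · have hdvd := hY.dvd_succ χ₀ hχ₀ ψ (hmem hψ) (Nat.pos_of_ne_zero h0)
        rw [show blockHeight 2 B (χ₀ : G → ℂ) = 0 from h00, zero_add, pow_one, Nat.cast_ofNat]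
          at hdvd
        obtain ⟨t, ht'⟩ := hdvd
        rw [ht']
        push_cast
        have h4 : (4 : ZMod 4) = 0 := rfl
        linear_combination -((t : ZMod 4) * t) * h4
    have hpos : 0 < (sB.filter fun χ => ht χ = 0).card := card_pos.2 ⟨χ₀, hmem0⟩
    omega
  have hdiff := squares_four hH hsum4 hodd
  have houtv := fun i => squares_four hH (hcsum i) fun χ hχ h0 => hcodd i χ (hmem hχ) h0
  have hcdiag : ∀ χ ∈ sB, ∑ i, ((c i χ * c i χ : ℤ) : ℂ) = if ht χ = 0 then (u : ℂ) else 0 := by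
    intro χ hχ
    split_ifs with h0
    · rw [sum_congr rfl fun i _ => show ((c i χ * c i χ : ℤ) : ℂ) = 1 by
        rw [← pow_two, (houtv i χ hχ).1 h0, Int.cast_one]]
      simp
    · exact sum_eq_zero fun i _ => by rw [(houtv i χ hχ).2 h0]; simp
  have hdiag : ∀ χ ∈ sB, Y χ χ + X χ χ + 2 * T χ +
      2 ^ a * (if ht χ = 0 then (u : ℤ) else 0) = 4 * 2 ^ a := by
    intro χ hχ
    have h1 := horth χ hχ χ hχ
    rw [hTsum, hcdiag χ hχ, H12.classInner_irr_self, hqd] at h1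
    split_ifs at h1 ⊢ <;>
    · push_cast at h1
      rw [← Int.cast_inj (α := ℂ)]
      push_cast
      linear_combination h1
  have hY1 : ∀ χ ∈ sB, 1 ≤ Y χ χ := by
    intro χ hχ
    obtain ⟨χ₀, hχ₀⟩ := card_pos.1 (by rw [hH]; norm_num : 0 < (sB.filter fun χ => ht χ = 0).card)
    obtain ⟨hχ₀s, h00⟩ := mem_filter.1 hχ₀
    have hne : Y χ χ₀ ≠ 0 := fun e0 =>
      hY.exact_zero χ (hmem hχ) χ₀ (hmem hχ₀s) h00 (e0 ▸ dvd_zero _)
    have hle := single_le_sum (f := fun ψ => Y χ ψ ^ 2) (fun ψ _ => sq_nonneg _) hχ₀s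
    rw [hYrow χ hχ] at hle
    have : 0 < Y χ χ₀ ^ 2 := by positivity
    have hq' : (0 : ℤ) < 4 * 2 ^ a := by positivity
    exact pos_of_mul_pos_right (lt_of_lt_of_le this hle) hq'.le
  have hTle : ∀ χ ∈ sB, T χ ≤ 2 * 2 ^ a - 1 := by
    intro χ hχ
    have := hdiag χ hχ
    have := hX1 χ (hmem hχ)
    have := hY1 χ hχ
    have hu : (0 : ℤ) ≤ 2 ^ a * (if ht χ = 0 then (u : ℤ) else 0) := by split_ifs <;> positivity
    linarith
  have hcastq : ((2 ^ a / 2 : ℕ) : ℤ) * 2 = 2 ^ a := by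
    rw [hq, Nat.mul_div_cancel_left _ two_pos]
    push_cast
    rw [← pow_succ, Nat.sub_add_cancel h.ha]
  have hlz' : lz' = lz := by
    have h1 : ((∑ χ ∈ sB, X χ χ : ℤ) : ℂ) = ((4 * 2 ^ a * lz' : ℤ) : ℂ) := by rw [hXsum]
    rw [Int.cast_sum, sum_congr rfl fun χ _ => hXv χ χ, ← mul_sum, hlz, hqd] at h1
    push_cast at h1
    exact (Nat.cast_injective (R := ℂ) (mul_left_cancel₀
      (mul_ne_zero (by norm_num) (pow_ne_zero _ two_ne_zero)) h1)).symm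
  refine ⟨T, X, Y, u, lz, h.ha, H19.CentralRank.one_le_blockRank (H20.block_nonempty h.hB), hlzu,
    hH, ?_, ?_, ?_, hdiag, hY1, fun χ hχ => hX1 χ (hmem hχ), ?_, ?_, hYrow, fun χ _ => hXrow χ,
    fun χ hχ ψ hψ => hY.symm χ (hmem hχ) ψ (hmem hψ), fun χ _ ψ _ => hXsymm χ ψ, ?_,
    fun χ hχ h0 => hXdvd χ (hmem hχ) h0, ?_, ?_⟩
  · rw [← Int.cast_inj (α := ℂ), Int.cast_sum, ← sum_congr rfl fun χ _ => hTsum χ, sum_comm,
      sum_congr rfl fun j hj => show ∑ χ ∈ sB, g χ j * g χ j = ((2 * 2 ^ a : ℕ) : ℂ) by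
        rw [Finset.mem_Ico] at hj
        rw [← h.sum_col_sq hpair hj.1 hj.2]
        exact sum_congr rfl fun χ _ => by rw [H12.QuatCols.col_real (by omega) hζ (hsym χ)],
      sum_const, Nat.card_Ico, nsmul_eq_mul, Nat.cast_sub Nat.one_le_two_pow]
    push_cast
    ring
  · intro ψ hψ h0
    by_cases hle : T ψ ≤ 2 * ((2 ^ a : ℕ) : ℤ) - 2
    · right
      obtain ⟨hT, hsq⟩ := col_sq_eq_one hh1 hq hh3 hζ (hsym ψ) ((hdiff ψ hψ).1 h0) hle
      refine ⟨by simpa using hT, ?_⟩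
      obtain ⟨n, hn⟩ := hlam ψ hψ ψ hψ
      rw [sum_congr rfl fun j hj => by rw [← pow_two, hsq j hj, mul_one],
        H12.QuatCols.sum_lam h.two_le_q hζ, add_zero, hqd] at hn
      push_cast at hn
      exact ⟨n, by rw [← Int.cast_inj (α := ℂ)]; push_cast; exact hn⟩
    · left
      have := hTle ψ hψ
      push_cast at hle
      omega
  · intro χ hχ h0
    have h00 := (hdiff χ hχ).2 h0
    have he : (m χ (2 ^ a) : ℤ) = m χ 0 := by linarith
    have hle := hTle χ hχ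
    rcases H12.QuatCombi.total_height_pos (h := 2 ^ a / 2) (by omega)
      (fun i => (m χ (2 * (i : ℕ) + 1) : ℤ)) (m χ 0) (fun i => (m χ (2 * (i : ℕ) + 2) : ℤ))
      (by
        have : T χ ≤ 4 * ((2 ^ a / 2 : ℕ) : ℤ) - 1 := by linarith
        simpa [T, H12.QuatCols.tot, he] using this) with e1 | e1
    · exact Or.inl (by simpa [T, H12.QuatCols.tot, he] using e1)
    · refine Or.inr ?_
      have : T χ = 4 * (((2 ^ a / 2 : ℕ) : ℤ) - 1) := by simpa [T, H12.QuatCols.tot, he] using e1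
      linarith
  · rw [← Int.cast_inj (α := ℂ), Int.cast_sum, sum_congr rfl fun χ hχ => hYv χ hχ χ hχ, ← mul_sum,
      H12.SubsecFam.sum_reg0 h.hM h.hB, hqd]
    push_cast
    ring
  · rw [hXsum, hlz']
  · intro χ hχ h0
    exact_mod_cast hY.dvd_succ χ (hmem hχ) χ (hmem hχ) h0
  · intro χ hχ ψ hψ h0
    exact_mod_cast hY.exact_zero χ (hmem hχ) ψ (hmem hψ) h0
  · intro φ hφ h0 hT
    have hg := hT0 φ hT
    have key : ∀ ψ ∈ sB, (2 * 2 ^ a : ℤ) ∣ Y φ ψ - X φ ψ := by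
      intro ψ hψ
      obtain ⟨n, hn⟩ := hlam φ hφ ψ hψ
      rw [sum_eq_zero (fun j hj => by rw [hg j hj, zero_mul, mul_zero]), add_zero, hqd] at hn
      push_cast at hn
      exact ⟨n, by rw [← Int.cast_inj (α := ℂ)]; push_cast; exact hn⟩
    refine ⟨key φ hφ, fun ψ hψ hψ0 => ⟨?_, key ψ hψ⟩⟩
    have h1 := horth φ hφ ψ hψ
    rw [sum_eq_zero (fun j hj => by rw [hg j hj, zero_mul]),
      sum_eq_zero (fun i _ => by rw [(houtv i φ hφ).2 h0]; simp),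
      H12.classInner_irr_ne (fun e0 : φ = ψ => h0 (by rw [e0]; exact hψ0))] at h1
    rw [← Int.cast_inj (α := ℂ)]
    push_cast
    simpa using h1

/-- **The invariants of a 2-block with quaternion defect group.** -/
theorem invariants (h : Quat M B D f0 r s a) (e : D ≃* QuaternionGroup (2 ^ a)) :
    1 ≤ blockRank 2 B ∧ blockRank 2 B ≤ 3 ∧ Nat.card B = blockRank 2 B + 2 ^ a + 2 ∧
      Nat.card {χ : IrrCharacter G // χ ∈ B ∧ blockHeight 2 B (χ : G → ℂ) = 0} = 4 ∧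
      (∀ χ ∈ B, blockHeight 2 B (χ : G → ℂ) = 0 ∨ blockHeight 2 B (χ : G → ℂ) = 1 ∨
        blockHeight 2 B (χ : G → ℂ) = a) ∧
      (2 ≤ a →
        Nat.card {χ : IrrCharacter G // χ ∈ B ∧ blockHeight 2 B (χ : G → ℂ) = 1} = 2 ^ a - 1) := by
  classical
  obtain ⟨T, X, Y, u, lz, hd⟩ := h.exists_data e
  have hcount : ∀ k : ℕ, Nat.card {χ : IrrCharacter G // χ ∈ B ∧ blockHeight 2 B (χ : G → ℂ) = k} =
      ((H22.blockFinset B).filter fun χ : IrrCharacter G => blockHeight 2 B (χ : G → ℂ) = k).card := by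
    intro k
    haveI : Finite (IrrCharacter G) := inferInstance
    rw [← Nat.card_eq_finsetCard]
    exact Nat.card_congr (Equiv.subtypeEquivRight fun χ => by
      rw [mem_filter, H22.mem_blockFinset])
  refine ⟨hd.hl, hd.rank_le, by rw [H22.natCard_block, hd.card], ?_,
    fun χ hχ => hd.height_cases (H22.mem_blockFinset.2 hχ), fun ha => ?_⟩
  · rw [hcount]; exact hd.hH
  · rw [hcount]; exact hd.card_height_one ha

end H12.QuatBasic.Quat
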