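import Cfsg.Agent.H12.QuatLocal
import Cfsg.Agent.H23.LocalIndex
import Cfsg.Agent.H23.LocalBlock
import Cfsg.Agent.H23.Nilpotent

/-!
# A 2-block with quaternion defect group: pairs

The data `Quat`, fusion on `⟨r⟩`, the local hypotheses `Loc4` at the rotations and at the elements
outside `⟨r⟩` that are not fused into it, and a family of representatives of all subsections.
-/

set_option autoImplicit false
set_option linter.unusedSectionVars false
set_option linter.style.haveILetI false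
set_option maxHeartbeats 800000

open Cfsg Finset
open scoped MonoidAlgebra ComplexConjugate

namespace H12.QuatBasic

universe u

variable {G : Type u} [Group G] [Fintype G] {M : Ideal AlgInt} [hMp : M.IsPrime]
  [CharP (H20.k M) 2] [IsAlgClosed (H20.k M)]

local notation "C[" x "]" => (Subgroup.centralizer ({x} : Set _))

/-- An element of order four in `⟨v⟩` is `v` or `v⁻¹` when `v` has order four. -/
theorem four_cases {t v : G} (hv : orderOf v = 4) (ht : t ∈ Subgroup.zpowers v)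
    (ht4 : orderOf t = 4) : t = v ∨ t = v⁻¹ := by
  classical
  obtain ⟨i, hi, rfl⟩ := Finset.mem_image.1
    (show t ∈ (Finset.range (orderOf v)).image (v ^ ·) from mem_zpowers_iff_mem_range_orderOf.1 ht)
  try simp only at ht4 ⊢
  rw [hv, Finset.mem_range] at hi
  have h4 : v ^ 4 = 1 := hv ▸ pow_orderOf_eq_one v
  interval_cases i
  · simp [orderOf_one] at ht4
  · exact Or.inl (pow_one v)
  · have hd : (v ^ 2) ^ 2 = 1 := by rw [← pow_mul]; exact h4
    have := Nat.le_of_dvd (by norm_num) (orderOf_dvd_of_pow_eq_one hd)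
    omega
  · exact Or.inr (eq_inv_of_mul_eq_one_left (by rw [← pow_succ]; exact h4))

/-- A 2-block with maximal pair `(D, f₀)`, `D = ⟨r, s⟩` quaternion of order `2 ^ (a + 2)`. -/
structure Quat (M : Ideal AlgInt) [M.IsPrime] [CharP (H20.k M) 2] [IsAlgClosed (H20.k M)]
    (B : Set (IrrCharacter G)) (D : Subgroup G) (f0 : (H20.k M)[G]) (r s : G) (a : ℕ) : Prop where
  hM : IsPModular 2 M
  hB : IsPBlock M B
  hmax : H23.IsMax 2 (H23.eB M B) D f0
  ha : 1 ≤ a
  hord : orderOf r = 2 ^ (a + 1)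
  rD : r ∈ D
  sD : s ∈ D
  s2 : s * s = r ^ 2 ^ a
  snot : s ∉ Subgroup.zpowers r
  sr : s * r * s⁻¹ = r⁻¹
  cover : ∀ d ∈ D, d ∈ Subgroup.zpowers r ∨ s * d ∈ Subgroup.zpowers r

open Classical in
/-- The block below `(D, f₀)` at `x`. -/
noncomputable def bl (M : Ideal AlgInt) [M.IsPrime] (D : Subgroup G) (f0 : (H20.k M)[G]) (x : G) :
    (H20.k M)[G] :=
  if h : ∃ f, H23.Le 2 (Subgroup.zpowers x, f) (D, f0) then h.choose else 0

/-- Two elements of `D` whose pairs are conjugate. -/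
def Fused (M : Ideal AlgInt) [M.IsPrime] (D : Subgroup G) (f0 : (H20.k M)[G]) (x y : G) : Prop :=
  ∃ g : G, g * x * g⁻¹ = y ∧ H23.cj g (bl M D f0 x) = bl M D f0 y

theorem Fused.refl (D : Subgroup G) (f0 : (H20.k M)[G]) (x : G) : Fused M D f0 x x :=
  ⟨1, by group, H23.cj_one _⟩

theorem Fused.symm {D : Subgroup G} {f0 : (H20.k M)[G]} {x y : G} (h : Fused M D f0 x y) :
    Fused M D f0 y x := by
  obtain ⟨g, h1, h2⟩ := h
  refine ⟨g⁻¹, by rw [← h1]; group, ?_⟩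
  rw [← h2, H23.cj_inv_cancel]

theorem Fused.trans {D : Subgroup G} {f0 : (H20.k M)[G]} {x y w : G} (h : Fused M D f0 x y)
    (h' : Fused M D f0 y w) : Fused M D f0 x w := by
  obtain ⟨g, h1, h2⟩ := h
  obtain ⟨g', h1', h2'⟩ := h'
  refine ⟨g' * g, ?_, by rw [← H23.cj_cj, h2, h2']⟩
  rw [← h1', ← h1]
  group

namespace Quat

variable {B : Set (IrrCharacter G)} {D : Subgroup G} {f0 : (H20.k M)[G]} {r s : G} {a : ℕ}

theorem zpowers_le (h : Quat M B D f0 r s a) : Subgroup.zpowers r ≤ D :=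
  Subgroup.zpowers_le.2 h.rD

theorem two_pow_succ (_h : Quat M B D f0 r s a) : 2 ^ (a + 1) = 2 * 2 ^ a := pow_succ' 2 a

theorem two_le_q (h : Quat M B D f0 r s a) : 2 ≤ 2 ^ a := by
  calc 2 = 2 ^ 1 := (pow_one 2).symm
    _ ≤ _ := Nat.pow_le_pow_right (by norm_num) h.ha

theorem orderOf_z (h : Quat M B D f0 r s a) : orderOf (r ^ 2 ^ a) = 2 := by
  rw [orderOf_pow' _ (by positivity), h.hord, Nat.gcd_eq_right (pow_dvd_pow 2 (by omega)),
    Nat.pow_div (by omega) (by norm_num), show a + 1 - a = 1 by omega, pow_one]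

theorem z_sq (h : Quat M B D f0 r s a) : r ^ 2 ^ a * r ^ 2 ^ a = 1 := by
  have := pow_orderOf_eq_one (r ^ 2 ^ a)
  rwa [h.orderOf_z, pow_two] at this

theorem z_ne_one (h : Quat M B D f0 r s a) : r ^ 2 ^ a ≠ 1 := fun e => by
  have := h.orderOf_z
  rw [e, orderOf_one] at this
  omega

theorem orderOf_y0 (h : Quat M B D f0 r s a) : orderOf (r ^ 2 ^ (a - 1)) = 4 := by
  have := h.ha
  rw [orderOf_pow' _ (by positivity), h.hord, Nat.gcd_eq_right (pow_dvd_pow 2 (by omega)),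
    Nat.pow_div (by omega) (by norm_num), show a + 1 - (a - 1) = 2 by omega]

theorem s_conj (h : Quat M B D f0 r s a) {c : G} (hc : c ∈ Subgroup.zpowers r) :
    s * c * s⁻¹ = c⁻¹ := by
  obtain ⟨i, rfl⟩ := Subgroup.mem_zpowers_iff.1 hc
  rw [← conj_zpow, h.sr, inv_zpow]

theorem comm_r (_h : Quat M B D f0 r s a) {c d : G} (hc : c ∈ Subgroup.zpowers r)
    (hd : d ∈ Subgroup.zpowers r) : c * d = d * c := by
  obtain ⟨i, rfl⟩ := Subgroup.mem_zpowers_iff.1 hc
  obtain ⟨j, rfl⟩ := Subgroup.mem_zpowers_iff.1 hd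
  exact (Commute.zpow_zpow (Commute.refl r) i j).eq

/-- Elements outside `⟨r⟩`. -/
theorem exists_eq (h : Quat M B D f0 r s a) {d : G} (hd : d ∈ D) (hn : d ∉ Subgroup.zpowers r) :
    ∃ c ∈ Subgroup.zpowers r, d = s * c := by
  refine ⟨(s * s)⁻¹ * (s * d),
    mul_mem (inv_mem (h.s2 ▸ Subgroup.npow_mem_zpowers r _)) ((h.cover d hd).resolve_left hn), ?_⟩
  group

theorem not_mem (h : Quat M B D f0 r s a) {c : G} (hc : c ∈ Subgroup.zpowers r) :
    s * c ∉ Subgroup.zpowers r := fun e => h.snot (by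
  have := mul_mem e (inv_mem hc)
  rwa [mul_inv_cancel_right] at this)

theorem conj_cases (h : Quat M B D f0 r s a) {d c : G} (hd : d ∈ D)
    (hc : c ∈ Subgroup.zpowers r) :
    (d ∈ Subgroup.zpowers r → d * c * d⁻¹ = c) ∧
      (d ∉ Subgroup.zpowers r → d * c * d⁻¹ = c⁻¹) := by
  have hcomm : ∀ b ∈ Subgroup.zpowers r, b * c * b⁻¹ = c := fun b hb => by
    rw [h.comm_r hb hc, mul_inv_cancel_right]
  refine ⟨hcomm d, fun hn => ?_⟩
  obtain ⟨e, he, rfl⟩ := h.exists_eq hd hn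
  calc s * e * c * (s * e)⁻¹ = s * (e * c * e⁻¹) * s⁻¹ := by group
    _ = c⁻¹ := by rw [hcomm e he, h.s_conj hc]

theorem conj_or (h : Quat M B D f0 r s a) {d c : G} (hd : d ∈ D) (hc : c ∈ Subgroup.zpowers r) :
    d * c * d⁻¹ = c ∨ d * c * d⁻¹ = c⁻¹ := by
  by_cases hn : d ∈ Subgroup.zpowers r
  · exact Or.inl ((h.conj_cases hd hc).1 hn)
  · exact Or.inr ((h.conj_cases hd hc).2 hn)

theorem sq_eq_z (h : Quat M B D f0 r s a) {d : G} (hd : d ∈ D) (hn : d ∉ Subgroup.zpowers r) :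
    d * d = r ^ 2 ^ a := by
  obtain ⟨c, hc, rfl⟩ := h.exists_eq hd hn
  calc s * c * (s * c) = (s * c * s⁻¹) * (s * s) * c := by group
    _ = c⁻¹ * (r ^ 2 ^ a * c) := by rw [h.s_conj hc, h.s2, mul_assoc]
    _ = r ^ 2 ^ a := by rw [h.comm_r (Subgroup.npow_mem_zpowers r _) hc, inv_mul_cancel_left]

theorem orderOf_outside (h : Quat M B D f0 r s a) {d : G} (hd : d ∈ D)
    (hn : d ∉ Subgroup.zpowers r) : orderOf d = 4 := by
  haveI : Fact (Nat.Prime 2) := ⟨Nat.prime_two⟩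
  have h4 : d ^ 2 ^ 2 = 1 := by
    rw [show (2 : ℕ) ^ 2 = 2 * 2 by norm_num, pow_mul, pow_two d, h.sq_eq_z hd hn, pow_two, h.z_sq]
  have h2 : ¬ d ^ 2 ^ 1 = 1 := by
    rw [pow_one, pow_two, h.sq_eq_z hd hn]
    exact h.z_ne_one
  rw [orderOf_eq_prime_pow h2 h4]
  norm_num

theorem z_central (h : Quat M B D f0 r s a) {d : G} (hd : d ∈ D) :
    d * r ^ 2 ^ a = r ^ 2 ^ a * d := by
  rcases h.conj_or hd (Subgroup.npow_mem_zpowers r (2 ^ a)) with e | e
  · exact mul_inv_eq_iff_eq_mul.1 e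
  · rw [inv_eq_of_mul_eq_one_right h.z_sq] at e
    exact mul_inv_eq_iff_eq_mul.1 e

theorem sq_ne_of_order (h : Quat M B D f0 r s a) {c : G} (hc : c * c ≠ 1) :
    c ≠ c⁻¹ := fun e => hc (by nth_rw 1 [e]; exact inv_mul_cancel c)

theorem y0_mem (h : Quat M B D f0 r s a) {c : G} (hc : c ∈ Subgroup.zpowers r) (hc2 : c * c ≠ 1) :
    r ^ 2 ^ (a - 1) ∈ Subgroup.zpowers c := by
  refine H12.QuatLocal.mem_zpowers_of_dvd (Subgroup.npow_mem_zpowers r _) hc ?_
  obtain ⟨j, -, hj⟩ := (Nat.dvd_prime_pow Nat.prime_two).1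
    (h.hord ▸ orderOf_dvd_of_mem_zpowers hc : orderOf c ∣ 2 ^ (a + 1))
  rw [h.orderOf_y0, hj, show 4 = 2 ^ 2 by norm_num]
  refine pow_dvd_pow 2 (le_of_not_gt fun hj2 => hc2 ?_)
  rw [← pow_two, ← orderOf_dvd_iff_pow_eq_one, hj]
  calc 2 ^ j ∣ 2 ^ 1 := pow_dvd_pow 2 (by omega)
    _ = 2 := pow_one 2

/-- The centralizer in `D` of an element of `⟨r⟩` that is no involution. -/
theorem mem_of_comm (h : Quat M B D f0 r s a) {c d : G} (hc : c ∈ Subgroup.zpowers r)
    (hc2 : c * c ≠ 1) (hd : d ∈ D) (hcd : d * c = c * d) : d ∈ Subgroup.zpowers r := by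
  by_contra hn
  have e := (h.conj_cases hd hc).2 hn
  rw [hcd, mul_inv_cancel_right] at e
  exact h.sq_ne_of_order hc2 e

/-- The centralizer in `D` of an element outside `⟨r⟩`. -/
theorem mem_of_comm_outside (h : Quat M B D f0 r s a) {v d : G} (hv : v ∈ D)
    (hvn : v ∉ Subgroup.zpowers r) (hd : d ∈ D) (hcd : d * v = v * d) :
    d ∈ Subgroup.zpowers v := by
  have key : ∀ c ∈ Subgroup.zpowers r, c * v = v * c → c ∈ Subgroup.zpowers v := by
    intro c hc hcv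
    have e := (h.conj_cases hv hc).2 hvn
    rw [← hcv, mul_inv_cancel_right] at e
    have hc2 : c * c = 1 := by nth_rw 1 [e]; exact inv_mul_cancel c
    refine Subgroup.zpowers_le.2 ?_ (H12.QuatLocal.mem_zpowers_of_dvd hc
      (Subgroup.npow_mem_zpowers r (2 ^ a)) ?_)
    · rw [← h.sq_eq_z hv hvn]; exact mul_mem (Subgroup.mem_zpowers v) (Subgroup.mem_zpowers v)
    · rw [h.orderOf_z]
      exact orderOf_dvd_of_pow_eq_one (by rw [pow_two]; exact hc2)
  by_cases hn : d ∈ Subgroup.zpowers r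
  · exact key d hn hcd
  · obtain ⟨c, hc, rfl⟩ := h.exists_eq hd hn
    obtain ⟨c', hc', hvc'⟩ := h.exists_eq hv hvn
    have hw : v⁻¹ * (s * c) ∈ Subgroup.zpowers r := by
      rw [hvc', show (s * c')⁻¹ * (s * c) = c'⁻¹ * c by group]
      exact mul_mem (inv_mem hc') hc
    have hwv : v⁻¹ * (s * c) * v = v * (v⁻¹ * (s * c)) := by
      rw [mul_inv_cancel_left, mul_assoc, hcd, inv_mul_cancel_left]
    have := mul_mem (Subgroup.mem_zpowers v) (key _ hw hwv)
    rwa [mul_inv_cancel_left] at this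

theorem exists_orderOf (h : Quat M B D f0 r s a) {x : G} (hx : x ∈ D) :
    ∃ j : ℕ, orderOf x = 2 ^ j := by
  haveI : Fact (Nat.Prime 2) := ⟨Nat.prime_two⟩
  exact H23.exists_orderOf_of_mem h.hmax.1.1 hx

theorem card_D (h : Quat M B D f0 r s a) :
    Nat.card D = 2 ^ (a + 2) ∧ blockDefect 2 B = a + 2 := by
  have hcard : Nat.card D = 2 ^ (a + 2) := by
    let φ : Subgroup.zpowers r ⊕ Subgroup.zpowers r → D := Sum.elim
      (fun c => ⟨c, h.zpowers_le c.2⟩) (fun c => ⟨s * c, mul_mem h.sD (h.zpowers_le c.2)⟩)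
    have hφ : Function.Bijective φ := by
      refine ⟨?_, fun d => ?_⟩
      · rintro (c | c) (b | b) hab <;> have hab' := congrArg Subtype.val hab
        · exact congrArg Sum.inl (Subtype.ext hab')
        · exact absurd (show s * (b : G) ∈ Subgroup.zpowers r from
            (show (c : G) = s * b from hab') ▸ c.2) (h.not_mem b.2)
        · exact absurd (show s * (c : G) ∈ Subgroup.zpowers r from
            (show s * (c : G) = b from hab').symm ▸ b.2) (h.not_mem c.2)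
        · exact congrArg Sum.inr (Subtype.ext (mul_left_cancel hab'))
      · by_cases hd : (d : G) ∈ Subgroup.zpowers r
        · exact ⟨Sum.inl ⟨d, hd⟩, Subtype.ext rfl⟩
        · obtain ⟨c, hc, e⟩ := h.exists_eq d.2 hd
          exact ⟨Sum.inr ⟨c, hc⟩, Subtype.ext e.symm⟩
    rw [← Nat.card_congr (Equiv.ofBijective φ hφ), Nat.card_sum, Nat.card_zpowers, h.hord,
      pow_succ _ (a + 1), mul_two]
  refine ⟨hcard, ?_⟩
  haveI : Fact (Nat.Prime 2) := ⟨Nat.prime_two⟩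
  have h1 := H20.card_defectGroup h.hM h.hB (H23.isDefectGroup_of_isMax h.hB h.hmax)
  rw [hcard] at h1
  exact (Nat.pow_right_injective le_rfl h1).symm

theorem le_normalizer (h : Quat M B D f0 r s a) {c : G} (hc : c ∈ Subgroup.zpowers r) :
    D ≤ Subgroup.normalizer (Subgroup.zpowers c : Set G) := by
  intro d hd
  apply H23.mem_normalizer_of_cjS_eq
  rw [H23.cjS_zpowers]
  rcases h.conj_or hd hc with e | e <;> rw [e]
  exact Subgroup.zpowers_inv

/-- Fusion on the cyclic subgroup. -/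
theorem fusion_pow (h : Quat M B D f0 r s a) {c : G} (hc : c ∈ Subgroup.zpowers r)
    {f : (H20.k M)[G]} (hle : H23.Le 2 (Subgroup.zpowers c, f) (D, f0)) {g : G}
    (hg : g ∈ H23.stab (Subgroup.zpowers c) f) : g * c * g⁻¹ = c ∨ g * c * g⁻¹ = c⁻¹ := by
  classical
  haveI : Fact (Nat.Prime 2) := ⟨Nat.prime_two⟩
  set Q := Subgroup.zpowers c with hQ
  set T := H23.stab Q f with hT
  have hf := hle.pair_left 2 h.hmax.1
  have hDT : D ≤ T := fun d hd => H23.inf_normalizer_le_stab 2 hle h.hmax.1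
    ⟨hd, h.le_normalizer hc hd⟩
  have hl : H23.LocMax 2 Q f T D f0 :=
    ⟨hf, H23.le_stab 2 hf, H23.centralizer_le_stab 2 hf, le_rfl,
      ⟨h.hmax.1, hDT, (H23.le_iff_inBlk 2 hf (H23.centralizer_le_stab 2 hf) le_rfl h.hmax.1
          (hle.le 2) hDT).1 hle,
        fun R' g' hg' _ _ hl' => h.hmax.2.2 R' g' hg'
          ((hl'.inBlk_iff 2 (H23.cidem_eB h.hB)).2 h.hmax.2.1) hl'⟩, hle⟩
  obtain ⟨j, -, hj⟩ := (Nat.dvd_prime_pow Nat.prime_two).1
    (h.hord ▸ orderOf_dvd_of_mem_zpowers hc : orderOf c ∣ 2 ^ (a + 1))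
  have hA : IsPGroup 2 (H23.autImg Q T) := by
    refine (IsPGroup.of_card (n := if j = 0 then 0 else j - 1) ?_ :
      IsPGroup 2 (MulAut Q)).to_subgroup _
    haveI : NeZero (Nat.card Q) := ⟨Nat.card_pos.ne'⟩
    rw [Nat.card_congr (IsCyclic.mulAutMulEquiv Q).toEquiv, Nat.card_eq_fintype_card,
      ZMod.card_units_eq_totient, hQ, Nat.card_zpowers, hj]
    split_ifs with h0
    · subst h0; simp
    · rw [Nat.totient_prime_pow Nat.prime_two (Nat.pos_of_ne_zero h0)]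
      simp
  have heq : H23.autImg Q D = H23.autImg Q T :=
    Subgroup.eq_of_le_of_card_ge (H23.autImg_mono Q hDT) (hl.card_le_image hA le_rfl)
  have hgn := hg.1
  have hmem : H23.toAut Q ⟨g, hgn⟩ ∈ H23.autImg Q D := heq ▸ ⟨⟨g, hgn⟩, hg, rfl⟩
  obtain ⟨d, hd, -, hact⟩ := H23.mem_autImg.1 hmem
  have h1 := hact ⟨c, Subgroup.mem_zpowers c⟩
  rw [H23.toAut_apply] at h1
  simp only at h1
  rw [h1]
  exact h.conj_or hd hc

/-! ### Blocks below the maximal pair -/

theorem bl_le (h : Quat M B D f0 r s a) {x : G} (hx : x ∈ D) :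
    H23.Le 2 (Subgroup.zpowers x, bl M D f0 x) (D, f0) := by
  haveI : Fact (Nat.Prime 2) := ⟨Nat.prime_two⟩
  have he := H23.exists_le 2 h.hmax.1 (Subgroup.zpowers_le.2 hx)
  rw [bl, dif_pos he]
  exact he.choose_spec

theorem bl_eq (h : Quat M B D f0 r s a) {x : G} {f : (H20.k M)[G]}
    (hf : H23.Le 2 (Subgroup.zpowers x, f) (D, f0)) : bl M D f0 x = f := by
  haveI : Fact (Nat.Prime 2) := ⟨Nat.prime_two⟩
  exact H23.le_unique 2 h.hmax.1 (h.bl_le (hf.le 2 (Subgroup.mem_zpowers x))) hf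

theorem le_bl (h : Quat M B D f0 r s a) {x w : G} (hw : w ∈ D) (hx : x ∈ Subgroup.zpowers w) :
    H23.Le 2 (Subgroup.zpowers x, bl M D f0 x) (Subgroup.zpowers w, bl M D f0 w) := by
  haveI : Fact (Nat.Prime 2) := ⟨Nat.prime_two⟩
  have hp := (h.bl_le hw).pair_left 2 h.hmax.1
  obtain ⟨f, hf⟩ := H23.exists_le 2 hp (Subgroup.zpowers_le.2 hx)
  rwa [h.bl_eq (hf.trans (h.bl_le hw))]

theorem bl_mem (h : Quat M B D f0 r s a) {x : G} (hx : x ∈ D) :
    bl M D f0 x ∈ H23.Bls M x := by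
  haveI : Fact (Nat.Prime 2) := ⟨Nat.prime_two⟩
  exact H23.mem_Bls.2 ((h.bl_le hx).pair_left 2 h.hmax.1).2

theorem bl_inBlk (h : Quat M B D f0 r s a) {x : G} (hx : x ∈ D) :
    H23.InBlk (H23.eB M B) (Subgroup.zpowers x) (bl M D f0 x) := by
  haveI : Fact (Nat.Prime 2) := ⟨Nat.prime_two⟩
  exact ((h.bl_le hx).inBlk_iff 2 (H23.cidem_eB h.hB)).1 h.hmax.2.1

theorem cj_bl (h : Quat M B D f0 r s a) {d x : G} (hd : d ∈ D) (hx : x ∈ D) :
    H23.cj d (bl M D f0 x) = bl M D f0 (d * x * d⁻¹) := by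
  haveI : Fact (Nat.Prime 2) := ⟨Nat.prime_two⟩
  have h1 := (h.bl_le hx).cj 2 d
  simp only at h1
  rw [H23.cjS_zpowers, H23.cjS_eq_self (Subgroup.le_normalizer hd),
    (H23.le_stab 2 h.hmax.1 hd).2] at h1
  exact (h.bl_eq h1).symm

theorem fused_conj (h : Quat M B D f0 r s a) {d x : G} (hd : d ∈ D) (hx : x ∈ D) :
    Fused M D f0 x (d * x * d⁻¹) := ⟨d, rfl, h.cj_bl hd hx⟩

theorem bl_congr (h : Quat M B D f0 r s a) {x y : G} (hx : x ∈ D)
    (he : Subgroup.zpowers x = Subgroup.zpowers y) : bl M D f0 x = bl M D f0 y := by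
  have h1 := h.bl_le hx
  rw [he] at h1
  exact (h.bl_eq h1).symm

/-- Fused elements of `⟨r⟩` are equal or inverse. -/
theorem fused_pow (h : Quat M B D f0 r s a) {c c' : G} (hc : c ∈ Subgroup.zpowers r)
    (hc' : c' ∈ Subgroup.zpowers r) (hf : Fused M D f0 c c') : c' = c ∨ c' = c⁻¹ := by
  obtain ⟨g, hg, hgb⟩ := hf
  have hord : orderOf c' = orderOf c := by rw [← hg, ← MulAut.conj_apply, MulEquiv.orderOf_eq]
  have hz : Subgroup.zpowers c' = Subgroup.zpowers c :=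
    H28.PG.zpowers_eq_of_orderOf_eq hc' hc hord
  rw [h.bl_congr (h.zpowers_le hc') hz] at hgb
  have hgn : g ∈ Subgroup.normalizer (Subgroup.zpowers c : Set G) := by
    apply H23.mem_normalizer_of_cjS_eq
    rw [H23.cjS_zpowers, hg, hz]
  have := h.fusion_pow hc (h.bl_le (h.zpowers_le hc)) ⟨hgn, hgb⟩
  rwa [hg] at this

/-! ### The local hypotheses -/

/-- `R` above a pair below `(D, f₀)` moves into `D`. -/
theorem exists_move (h : Quat M B D f0 r s a) {x : G} (hx : x ∈ D) {R : Subgroup G}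
    {e' : (H20.k M)[G]} (hle : H23.Le 2 (Subgroup.zpowers x, bl M D f0 x) (R, e')) :
    ∃ g : G, g * x * g⁻¹ ∈ D ∧ H23.cj g (bl M D f0 x) = bl M D f0 (g * x * g⁻¹) ∧
      H23.cjS g R ≤ D := by
  haveI : Fact (Nat.Prime 2) := ⟨Nat.prime_two⟩
  have hpR : H23.IsPair 2 R e' := by
    rcases hle.cases_tail with e | ⟨c, -, hc⟩
    · rw [Prod.mk.injEq] at e
      rw [e.1, e.2]
      exact (h.bl_le hx).pair_left 2 h.hmax.1
    · exact hc.snd
  obtain ⟨g, hg⟩ := H23.exists_conj_le 2 (H23.isBlk_eB h.hB) h.hmax hpR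
    ((hle.inBlk_iff 2 (H23.cidem_eB h.hB)).2 (h.bl_inBlk hx))
  have h1 := (hle.cj 2 g).trans hg
  simp only at h1
  rw [H23.cjS_zpowers] at h1
  exact ⟨g, H23.Le.le 2 h1 (Subgroup.mem_zpowers _), (h.bl_eq h1).symm, H23.Le.le 2 hg⟩

/-- The local hypotheses at a rotation. -/
theorem loc_rot (h : Quat M B D f0 r s a) {c : G} (hc : c ∈ Subgroup.zpowers r)
    (hc2 : c * c ≠ 1) :
    H12.QuatLocal.Loc4 M c (r ^ 2 ^ (a - 1)) r (bl M D f0 r) (bl M D f0 c) := by
  haveI : Fact (Nat.Prime 2) := ⟨Nat.prime_two⟩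
  refine ⟨h.hM, h.orderOf_y0, h.y0_mem hc hc2, hc, ⟨a + 1, h.hord⟩, h.le_bl h.rD hc,
    (h.bl_le h.rD).pair_left 2 h.hmax.1, fun R e' hle hcomm => ?_, fun y hy hy0 g b h1 h2 => ?_⟩
  · obtain ⟨g, -, -, hR⟩ := h.exists_move h.rD hle
    have hcR : c ∈ R := hle.le 2 hc
    set v := g * c * g⁻¹ with hv
    have hvD : v ∈ D := hR ⟨c, hcR, rfl⟩
    have hv2 : v * v ≠ 1 := fun e => hc2 (by
      calc c * c = g⁻¹ * (v * v) * g := by rw [hv]; group
        _ = 1 := by rw [e]; group)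
    have hcv : ∀ d ∈ H23.cjS g R, d * v = v * d := by
      rintro _ ⟨t, ht, rfl⟩
      show g * t * g⁻¹ * v = v * (g * t * g⁻¹)
      rw [hv]
      calc g * t * g⁻¹ * (g * c * g⁻¹) = g * (t * c) * g⁻¹ := by group
        _ = g * (c * t) * g⁻¹ := by rw [hcomm t ht]
        _ = _ := by group
    have hcard : Nat.card R ≤ Nat.card (Subgroup.zpowers r) := by
      rw [← H23.card_cjS g R]
      by_cases hvr : v ∈ Subgroup.zpowers r
      · exact Subgroup.card_le_of_le fun d hd => h.mem_of_comm hvr hv2 (hR hd) (hcv d hd)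
      · refine (Subgroup.card_le_of_le fun d hd =>
          h.mem_of_comm_outside hvD hvr (hR hd) (hcv d hd)).trans ?_
        rw [Nat.card_zpowers, h.orderOf_outside hvD hvr, Nat.card_zpowers, h.hord,
          show 4 = 2 ^ 2 by norm_num]
        exact Nat.pow_le_pow_right (by norm_num) (by have := h.ha; omega)
    exact (Subgroup.eq_of_le_of_card_ge (hle.le 2) hcard).ge
  · have hgy : g * y * g⁻¹ ∈ Subgroup.zpowers r := h2.le 2 (Subgroup.mem_zpowers _)
    refine (h.fused_pow hy hgy ⟨g, rfl, ?_⟩)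
    rw [h.bl_eq (h1.trans (h.bl_le h.rD)), h.bl_eq (h2.trans (h.bl_le h.rD))]

/-- The pair at `w` is not fused into `⟨r⟩`. -/
def Out (M : Ideal AlgInt) [M.IsPrime] (D : Subgroup G) (f0 : (H20.k M)[G]) (r w : G) : Prop :=
  w ∈ D ∧ ∀ v ∈ Subgroup.zpowers r, ¬ Fused M D f0 w v

theorem Out.not_mem {w : G} (hw : Out M D f0 r w) : w ∉ Subgroup.zpowers r := fun hn =>
  hw.2 w hn (Fused.refl _ _ _)

/-- The local hypotheses outside. -/
theorem loc_out (h : Quat M B D f0 r s a) {w : G} (hw : Out M D f0 r w) :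
    H12.QuatLocal.Loc4 M w w w (bl M D f0 w) (bl M D f0 w) := by
  haveI : Fact (Nat.Prime 2) := ⟨Nat.prime_two⟩
  have hw4 := h.orderOf_outside hw.1 hw.not_mem
  refine ⟨h.hM, hw4, Subgroup.mem_zpowers w, Subgroup.mem_zpowers w, ⟨2, by rw [hw4]; norm_num⟩,
    Relation.ReflTransGen.refl, (h.bl_le hw.1).pair_left 2 h.hmax.1,
    fun R e' hle hcomm => ?_, fun y hy hy0 g b h1 h2 => ?_⟩
  · obtain ⟨g, hvD, hgb, hR⟩ := h.exists_move hw.1 hle
    have hvn : g * w * g⁻¹ ∉ Subgroup.zpowers r := fun hn => hw.2 _ hn ⟨g, rfl, hgb⟩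
    have hcard : Nat.card R ≤ Nat.card (Subgroup.zpowers w) := by
      rw [← H23.card_cjS g R]
      refine (Subgroup.card_le_of_le fun d hd => h.mem_of_comm_outside hvD hvn (hR hd) ?_).trans ?_
      · obtain ⟨t, ht, rfl⟩ := hd
        show g * t * g⁻¹ * (g * w * g⁻¹) = g * w * g⁻¹ * (g * t * g⁻¹)
        calc g * t * g⁻¹ * (g * w * g⁻¹) = g * (t * w) * g⁻¹ := by group
          _ = g * (w * t) * g⁻¹ := by rw [hcomm t ht]
          _ = _ := by group
      · rw [Nat.card_zpowers, Nat.card_zpowers, ← MulAut.conj_apply, MulEquiv.orderOf_eq]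
    exact (Subgroup.eq_of_le_of_card_ge (hle.le 2) hcard).ge
  · have hyw : orderOf y = 4 := by
      refine Nat.dvd_antisymm (hw4 ▸ orderOf_dvd_of_mem_zpowers hy) ?_
      exact hw4 ▸ orderOf_dvd_of_mem_zpowers hy0
    have hgy : g * y * g⁻¹ ∈ Subgroup.zpowers y :=
      Subgroup.zpowers_le.2 hy0 (h2.le 2 (Subgroup.mem_zpowers _))
    exact four_cases hyw hgy (by rw [← MulAut.conj_apply, MulEquiv.orderOf_eq, hyw])

theorem s_cj (h : Quat M B D f0 r s a) :
    s * r * s⁻¹ = r⁻¹ ∧ H23.cj s (bl M D f0 r) = bl M D f0 r := by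
  refine ⟨h.sr, ?_⟩
  rw [h.cj_bl h.sD h.rD, h.sr, h.bl_congr (inv_mem h.rD) Subgroup.zpowers_inv]

theorem y0_cj (h : Quat M B D f0 r s a) {w : G} (hw : w ∈ D) (hn : w ∉ Subgroup.zpowers r) :
    r ^ 2 ^ (a - 1) * w * (r ^ 2 ^ (a - 1))⁻¹ = w⁻¹ ∧
      H23.cj (r ^ 2 ^ (a - 1)) (bl M D f0 w) = bl M D f0 w := by
  set y := r ^ 2 ^ (a - 1) with hy
  have hyr : y ∈ Subgroup.zpowers r := Subgroup.npow_mem_zpowers r _
  have hyy : y * y = r ^ 2 ^ a := by
    have := h.ha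
    rw [hy, ← pow_add, ← two_mul, ← pow_succ', show a - 1 + 1 = a by omega]
  have e := (h.conj_cases hw hyr).2 hn
  have h1 : y * w * y⁻¹ = w⁻¹ := by
    calc y * w * y⁻¹ = (y * (w * y * w⁻¹)⁻¹) * w := by group
      _ = (w * w) * w := by rw [e, inv_inv, hyy, h.sq_eq_z hw hn]
      _ = w⁻¹ := by
          refine eq_inv_of_mul_eq_one_left ?_
          rw [mul_assoc, h.sq_eq_z hw hn, h.z_sq]
  refine ⟨h1, ?_⟩
  rw [h.cj_bl (h.zpowers_le hyr) hw, h1, h.bl_congr (inv_mem hw) Subgroup.zpowers_inv]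

/-! ### Representatives of the subsections -/

/-- The elements representing the subsections. -/
def reps (r : G) (a : ℕ) {u : ℕ} (w : Fin u → G) : Fin (2 ^ a - 1) ⊕ Unit ⊕ Fin u → G :=
  Sum.elim (fun i => r ^ ((i : ℕ) + 1)) (Sum.elim (fun _ => r ^ 2 ^ a) w)

theorem rot_sq_ne (h : Quat M B D f0 r s a) {i : ℕ} (h1 : 1 ≤ i) (hi : i < 2 ^ a) :
    r ^ i * r ^ i ≠ 1 := by
  intro e
  rw [← pow_add] at e
  have h2 := h.hord ▸ orderOf_dvd_of_pow_eq_one e
  have := Nat.le_of_dvd (by omega) h2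
  rw [pow_succ'] at this
  omega

theorem fused_cover_pow (h : Quat M B D f0 r s a) {y : G} (hy : y ∈ Subgroup.zpowers r)
    (hy1 : y ≠ 1) : y = r ^ 2 ^ a ∨ ∃ i, 1 ≤ i ∧ i < 2 ^ a ∧ Fused M D f0 (r ^ i) y := by
  classical
  obtain ⟨i, hi, rfl⟩ := Finset.mem_image.1
    (show y ∈ (Finset.range (orderOf r)).image (r ^ ·) from mem_zpowers_iff_mem_range_orderOf.1 hy)
  try simp only at hy1 ⊢
  rw [h.hord, Finset.mem_range] at hi
  have hi0 : i ≠ 0 := fun e => hy1 (by rw [e, pow_zero])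
  rcases lt_trichotomy i (2 ^ a) with hlt | heq | hgt
  · exact Or.inr ⟨i, Nat.one_le_iff_ne_zero.2 hi0, hlt, Fused.refl _ _ _⟩
  · exact Or.inl (by rw [heq])
  · refine Or.inr ⟨2 ^ (a + 1) - i, by omega, by rw [pow_succ']; omega, ?_⟩
    have e : s * r ^ (2 ^ (a + 1) - i) * s⁻¹ = r ^ i := by
      rw [h.s_conj (Subgroup.npow_mem_zpowers r _)]
      refine inv_eq_of_mul_eq_one_right ?_
      rw [← pow_add, Nat.sub_add_cancel hi.le, ← h.hord, pow_orderOf_eq_one]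
    have := h.fused_conj h.sD (pow_mem h.rD (2 ^ (a + 1) - i))
    rwa [e] at this

/-- Elements outside `⟨r⟩` are conjugate in `D` to `s` or `s * r`. -/
theorem fused_s (h : Quat M B D f0 r s a) {y : G} (hy : y ∈ D) (hn : y ∉ Subgroup.zpowers r) :
    Fused M D f0 s y ∨ Fused M D f0 (s * r) y := by
  obtain ⟨c, hc, rfl⟩ := h.exists_eq hy hn
  obtain ⟨i, rfl⟩ := Subgroup.mem_zpowers_iff.1 hc
  have key : ∀ k l : ℤ, r ^ k * (s * r ^ l) * (r ^ k)⁻¹ = s * r ^ (l - 2 * k) := by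
    intro k l
    have e : s⁻¹ * r ^ k * s = r ^ (-k) := by
      have := h.s_conj (Subgroup.zpow_mem_zpowers r (-k))
      rw [zpow_neg, inv_inv] at this
      rw [← this, zpow_neg]
      group
    calc r ^ k * (s * r ^ l) * (r ^ k)⁻¹ = s * (s⁻¹ * r ^ k * s) * r ^ l * (r ^ k)⁻¹ := by group
      _ = _ := by rw [e]; group
  rcases Int.even_or_odd i with ⟨k, hk⟩ | ⟨k, hk⟩
  · left
    have := h.fused_conj (d := r ^ (-k)) (zpow_mem h.rD _) h.sD
    rwa [show r ^ (-k) * s * (r ^ (-k))⁻¹ = s * r ^ i by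
      have := key (-k) 0
      rw [zpow_zero, mul_one] at this
      rw [this, hk]; congr 2; ring] at this
  · right
    have := h.fused_conj (d := r ^ (-k)) (zpow_mem h.rD _) (mul_mem h.sD h.rD)
    rwa [show r ^ (-k) * (s * r) * (r ^ (-k))⁻¹ = s * r ^ i by
      have := key (-k) 1
      rw [zpow_one] at this
      rw [this, hk]; congr 2; ring] at this

/-- Representatives of the pairs outside `⟨r⟩`. -/
theorem exists_out_reps (h : Quat M B D f0 r s a) :
    ∃ (u : ℕ) (w : Fin u → G), (∀ i, Out M D f0 r (w i)) ∧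
      (∀ i j, Fused M D f0 (w i) (w j) → i = j) ∧
      ∀ y ∈ D, y ∉ Subgroup.zpowers r →
        (∃ i, Fused M D f0 (w i) y) ∨ ∃ v ∈ Subgroup.zpowers r, Fused M D f0 v y := by
  classical
  have hnot : ∀ {x : G}, x ∈ D → ¬ Out M D f0 r x → ∃ v ∈ Subgroup.zpowers r, Fused M D f0 v x := by
    intro x hx hn
    simp only [Out, hx, true_and, not_forall, not_not] at hn
    obtain ⟨v, hv, hf⟩ := hn
    exact ⟨v, hv, hf.symm⟩
  have hD := mul_mem h.sD h.rD
  by_cases h1 : Out M D f0 r s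
  · by_cases h2 : Out M D f0 r (s * r) ∧ ¬ Fused M D f0 s (s * r)
    · refine ⟨2, ![s, s * r], Fin.forall_fin_two.2 ⟨h1, h2.1⟩, ?_, fun y hy hn => ?_⟩
      · intro i j hf
        fin_cases i <;> fin_cases j <;> first | rfl | exact absurd hf h2.2 | exact absurd hf.symm h2.2
      · exact Or.inl ((h.fused_s hy hn).elim (fun e => ⟨0, e⟩) fun e => ⟨1, e⟩)
    · refine ⟨1, fun _ => s, fun _ => h1, fun i j _ => Subsingleton.elim i j, fun y hy hn => ?_⟩
      rcases h.fused_s hy hn with e | e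
      · exact Or.inl ⟨0, e⟩
      by_cases h3 : Out M D f0 r (s * r)
      · exact Or.inl ⟨0, (not_not.1 fun h4 => h2 ⟨h3, h4⟩).trans e⟩
      · obtain ⟨v, hv, hf⟩ := hnot hD h3
        exact Or.inr ⟨v, hv, hf.trans e⟩
  · obtain ⟨v0, hv0, hf0⟩ := hnot h.sD h1
    by_cases h3 : Out M D f0 r (s * r)
    · refine ⟨1, fun _ => s * r, fun _ => h3, fun i j _ => Subsingleton.elim i j, fun y hy hn => ?_⟩
      exact (h.fused_s hy hn).elim (fun e => Or.inr ⟨v0, hv0, hf0.trans e⟩) fun e => Or.inl ⟨0, e⟩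
    · refine ⟨0, Fin.elim0, fun i => i.elim0, fun i => i.elim0, fun y hy hn => Or.inr ?_⟩
      obtain ⟨v, hv, hf⟩ := hnot hD h3
      exact (h.fused_s hy hn).elim (fun e => ⟨v0, hv0, hf0.trans e⟩) fun e => ⟨v, hv, hf.trans e⟩

/-- **A family of representatives** of the nontrivial subsections. -/
theorem fam_of_reps (h : Quat M B D f0 r s a) {u : ℕ} {w : Fin u → G}
    (hout : ∀ i, Out M D f0 r (w i)) (hinj : ∀ i j, Fused M D f0 (w i) (w j) → i = j)
    (hcov : ∀ y ∈ D, y ∉ Subgroup.zpowers r →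
      (∃ i, Fused M D f0 (w i) y) ∨ ∃ v ∈ Subgroup.zpowers r, Fused M D f0 v y) :
    H12.SubsecFam.Fam (M := M) 2 B (reps r a w) (fun i => bl M D f0 (reps r a w i)) := by
  classical
  haveI : Fact (Nat.Prime 2) := ⟨Nat.prime_two⟩
  have hmemD : ∀ i, reps r a w i ∈ D := by
    rintro (i | i | i)
    · exact pow_mem h.rD _
    · exact pow_mem h.rD _
    · exact (hout i).1
  refine ⟨fun i => h.exists_orderOf (hmemD i), ?_, fun i => h.bl_mem (hmemD i),
    fun i => h.bl_inBlk (hmemD i), fun i j g h1 h2 => ?_, fun x hx hx1 b hb hin => ?_⟩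
  · rintro (i | i | i) e
    · exact h.rot_sq_ne (Nat.le_add_left 1 _) (by omega : (i : ℕ) + 1 < 2 ^ a)
        (by rw [show r ^ ((i : ℕ) + 1) = 1 from e, one_mul])
    · exact h.z_ne_one e
    · exact (hout i).not_mem (by rw [show w i = 1 from e]; exact one_mem _)
  · have hf : Fused M D f0 (reps r a w i) (reps r a w j) := ⟨g, h1, h2⟩
    have hz : ∀ c : G, c * c ≠ 1 → ¬ Fused M D f0 c (r ^ 2 ^ a) := by
      rintro c hc ⟨g', e, -⟩
      refine hc ?_
      calc c * c = g'⁻¹ * ((g' * c * g'⁻¹) * (g' * c * g'⁻¹)) * g' := by group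
        _ = 1 := by rw [e, h.z_sq]; group
    have hwsq : ∀ i, w i * w i ≠ 1 := fun i => by
      rw [h.sq_eq_z (hout i).1 (hout i).not_mem]; exact h.z_ne_one
    rcases i with i | i | i <;> rcases j with j | j | j
    · refine congrArg Sum.inl (Fin.ext ?_)
      rcases h.fused_pow (Subgroup.npow_mem_zpowers r _) (Subgroup.npow_mem_zpowers r _) hf with e | e
      · have h3 := pow_injOn_Iio_orderOf (x := r) (by rw [Set.mem_Iio, h.hord, pow_succ']; omega)
          (by rw [Set.mem_Iio, h.hord, pow_succ']; omega)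
          (show r ^ ((j : ℕ) + 1) = r ^ ((i : ℕ) + 1) from e)
        omega
      · exfalso
        have h3 : r ^ ((j : ℕ) + 1 + ((i : ℕ) + 1)) = 1 := by
          rw [pow_add, show r ^ ((j : ℕ) + 1) = (r ^ ((i : ℕ) + 1))⁻¹ from e, inv_mul_cancel]
        have h4 := Nat.le_of_dvd (by omega) (h.hord ▸ orderOf_dvd_of_pow_eq_one h3)
        rw [pow_succ'] at h4
        omega
    · exact absurd hf (hz _ (h.rot_sq_ne (Nat.le_add_left 1 _) (by omega)))
    · exact absurd hf.symm ((hout j).2 _ (Subgroup.npow_mem_zpowers r _))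
    · exact absurd hf.symm (hz _ (h.rot_sq_ne (Nat.le_add_left 1 _) (by omega)))
    · rfl
    · exact absurd hf.symm (hz _ (hwsq j))
    · exact absurd hf ((hout i).2 _ (Subgroup.npow_mem_zpowers r _))
    · exact absurd hf (hz _ (hwsq i))
    · exact congrArg (fun t => Sum.inr (Sum.inr t)) (hinj i j hf)
  · obtain ⟨z, hz⟩ := H23.exists_below h.hB h.hmax hx hb hin
    have h1 := H23.le_pull hz
    set y := z⁻¹ * x * z with hy
    have hyD : y ∈ D := h1.le 2 (Subgroup.mem_zpowers _)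
    suffices hf : ∃ i, Fused M D f0 (reps r a w i) y by
      obtain ⟨i, g, hg, hgb⟩ := hf
      refine ⟨i, z * g, ?_, ?_⟩
      · calc z * g * reps r a w i * (z * g)⁻¹ = z * (g * reps r a w i * g⁻¹) * z⁻¹ := by group
          _ = x := by rw [hg, hy]; group
      · show H23.cj (z * g) (bl M D f0 (reps r a w i)) = b
        rw [← H23.cj_cj, hgb, h.bl_eq h1, H23.cj_cancel_inv]
    have hy1 : y ≠ 1 := fun e => hx1 (by
      calc x = z * y * z⁻¹ := by rw [hy]; group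
        _ = 1 := by rw [e]; group)
    have hpow : ∀ v ∈ Subgroup.zpowers r, v ≠ 1 → ∃ i, Fused M D f0 (reps r a w i) v := by
      intro v hv hv1
      rcases h.fused_cover_pow hv hv1 with e | ⟨i, hi1, hi, e⟩
      · exact ⟨Sum.inr (Sum.inl ()), e ▸ Fused.refl _ _ _⟩
      · refine ⟨Sum.inl ⟨i - 1, by omega⟩, ?_⟩
        show Fused M D f0 (r ^ (i - 1 + 1)) v
        rwa [Nat.sub_add_cancel hi1]
    by_cases hn : y ∈ Subgroup.zpowers r
    · exact hpow y hn hy1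
    rcases hcov y hyD hn with ⟨i, e⟩ | ⟨v, hv, e⟩
    · exact ⟨Sum.inr (Sum.inr i), e⟩
    · obtain ⟨i, hi⟩ := hpow v hv (fun e1 => hy1 (by
        obtain ⟨g, hg, -⟩ := e
        rw [← hg, e1]; group))
      exact ⟨i, hi.trans e⟩

theorem exists_fam (h : Quat M B D f0 r s a) :
    ∃ (u : ℕ) (w : Fin u → G), (∀ i, Out M D f0 r (w i)) ∧
      H12.SubsecFam.Fam (M := M) 2 B (reps r a w) (fun i => bl M D f0 (reps r a w i)) := by
  obtain ⟨u, w, hout, hinj, hcov⟩ := h.exists_out_reps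
  exact ⟨u, w, hout, h.fam_of_reps hout hinj hcov⟩

end Quat

end H12.QuatBasic
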