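import Mathlib

/-!
# Squared differences of integer families

The arithmetic behind the rotation columns of a 2-block with quaternion defect group.
-/

set_option autoImplicit false

open Finset

namespace H12.QuatCombi

/-- Twice the sum of the squared differences over unordered pairs. -/
def dsq {ι : Type*} [Fintype ι] (f : ι → ℤ) : ℤ := ∑ i, ∑ j, (f i - f j) ^ 2

theorem dsq_nonneg {ι : Type*} [Fintype ι] (f : ι → ℤ) : 0 ≤ dsq f :=
  sum_nonneg fun _ _ => sum_nonneg fun _ _ => sq_nonneg _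

theorem dsq_eq {ι : Type*} [Fintype ι] (f : ι → ℤ) :
    dsq f = 2 * ((Fintype.card ι : ℤ) * ∑ i, f i ^ 2 - (∑ i, f i) ^ 2) := by
  have h : ∀ i, ∑ j, (f i - f j) ^ 2 =
      (Fintype.card ι : ℤ) * f i ^ 2 - 2 * f i * ∑ j, f j + ∑ j, f j ^ 2 := by
    intro i
    rw [mul_sum]
    simp only [sub_sq, sum_add_distrib, sum_sub_distrib, sum_const, card_univ, nsmul_eq_mul]
  rw [dsq, sum_congr rfl fun i _ => h i]
  simp only [sum_add_distrib, sum_sub_distrib, sum_const, card_univ, nsmul_eq_mul, ← mul_sum,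
    ← sum_mul]
  ring

theorem two_dvd_dsq {ι : Type*} [Fintype ι] (f : ι → ℤ) : 2 ∣ dsq f :=
  ⟨_, dsq_eq f⟩

theorem eq_of_dsq_eq_zero {ι : Type*} [Fintype ι] {f : ι → ℤ} (h : dsq f = 0) (i j : ι) :
    f i = f j := by
  have h1 := (sum_eq_zero_iff_of_nonneg fun i _ => sum_nonneg fun j _ => sq_nonneg _).1 h i
    (mem_univ i)
  have h2 := (sum_eq_zero_iff_of_nonneg fun j _ => sq_nonneg _).1 h1 j (mem_univ j)
  exact sub_eq_zero.1 (pow_eq_zero_iff two_ne_zero |>.1 h2)

theorem le_dsq {ι : Type*} [Fintype ι] {f : ι → ℤ} (h : dsq f ≠ 0) :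
    2 * ((Fintype.card ι : ℤ) - 1) ≤ dsq f := by
  classical
  obtain ⟨a, b, hab⟩ : ∃ a b, f a ≠ f b := by
    by_contra hne
    push Not at hne
    exact h (sum_eq_zero fun i _ => sum_eq_zero fun j _ => by rw [hne i j]; ring)
  have hne : a ≠ b := fun e => hab (congrArg f e)
  have hd : ∀ x y : ℤ, x ≠ y → 1 ≤ (x - y) ^ 2 := fun x y hxy => by
    nlinarith [Int.one_le_abs (sub_ne_zero.2 hxy), sq_abs (x - y), abs_nonneg (x - y)]
  have hrow : ∀ i, 1 ≤ (f i - f a) ^ 2 + (f i - f b) ^ 2 := by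
    intro i
    by_cases hi : f i = f a
    · have h1 := hd (f i) (f b) (hi ▸ hab)
      have h2 := sq_nonneg (f i - f a)
      linarith
    · have h1 := hd _ _ hi
      have h2 := sq_nonneg (f i - f b)
      linarith
  -- the rows of `a`, `b` and the columns at `a`, `b`
  have hA : ∑ i, (f i - f a) ^ 2 + ∑ i, (f i - f b) ^ 2 ≥ (Fintype.card ι : ℤ) := by
    rw [← sum_add_distrib]
    calc (Fintype.card ι : ℤ) = ∑ _i : ι, (1 : ℤ) := by simp
      _ ≤ _ := sum_le_sum fun i _ => hrow i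
  have hab2 : 1 ≤ (f a - f b) ^ 2 := hd _ _ hab
  have hsplit : ∀ i, i ≠ a → i ≠ b → (f i - f a) ^ 2 + (f i - f b) ^ 2 ≤ ∑ j, (f i - f j) ^ 2 := by
    intro i _ _
    rw [← sum_pair (f := fun j => (f i - f j) ^ 2) hne]
    exact sum_le_sum_of_subset_of_nonneg (subset_univ _) fun j _ _ => sq_nonneg _
  have hsum : dsq f = ∑ j, (f a - f j) ^ 2 + ∑ j, (f b - f j) ^ 2 +
      ∑ i ∈ univ \ {a, b}, ∑ j, (f i - f j) ^ 2 := by
    rw [dsq, ← sum_sdiff (subset_univ ({a, b} : Finset ι)), sum_pair hne]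
    ring
  have hrest : ∑ i ∈ univ \ {a, b}, (1 : ℤ) ≤ ∑ i ∈ univ \ {a, b}, ∑ j, (f i - f j) ^ 2 := by
    refine sum_le_sum fun i hi => ?_
    simp only [mem_sdiff, mem_insert, mem_singleton, not_or] at hi
    exact (hrow i).trans (hsplit i hi.2.1 hi.2.2)
  rw [sum_const, card_sdiff_of_subset (subset_univ _), card_pair hne, nsmul_one, card_univ] at hrest
  have h2 : 2 ≤ Fintype.card ι := by
    rw [← card_pair hne, ← card_univ]; exact card_le_card (subset_univ _)
  rw [Nat.cast_sub h2] at hrest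
  have e1 : ∑ j, (f a - f j) ^ 2 = ∑ i, (f i - f a) ^ 2 := sum_congr rfl fun j _ => by ring
  have e2 : ∑ j, (f b - f j) ^ 2 = ∑ i, (f i - f b) ^ 2 := sum_congr rfl fun j _ => by ring
  rw [hsum, e1, e2]
  push_cast at hrest
  linarith

/-! ### The two cases -/

variable {h : ℕ}

/-- The total for a symmetric family: `A` the odd classes, `m0`, `mq`, `B` the even classes. -/
def total (A : Fin h → ℤ) (m0 mq : ℤ) (B : Fin (h - 1) → ℤ) : ℤ :=
  2 * dsq A + (m0 - mq) ^ 2 + 2 * ∑ i, ((B i - m0) ^ 2 + (B i - mq) ^ 2) + 2 * dsq B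

/-- Height zero: the minimum and its shape. -/
theorem total_height_zero (hh : 1 ≤ h) (h3 : h ≠ 3) (A : Fin h → ℤ) (m0 mq : ℤ)
    (B : Fin (h - 1) → ℤ) (hd : (m0 - mq) ^ 2 = 1) :
    2 * (h : ℤ) - 1 ≤ total A m0 mq B ∧
      (total A m0 mq B ≤ 4 * (h : ℤ) - 2 → total A m0 mq B = 2 * (h : ℤ) - 1 ∧
        (∀ i j, A i = A j) ∧ ((∀ i, B i = m0) ∨ (∀ i, B i = mq))) := by
  have hd' : m0 - mq = 1 ∨ m0 - mq = -1 := sq_eq_one_iff.1 hd
  have hterm : ∀ b : ℤ, 1 ≤ (b - m0) ^ 2 + (b - mq) ^ 2 ∧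
      (b ≠ m0 → b ≠ mq → 5 ≤ (b - m0) ^ 2 + (b - mq) ^ 2) ∧
      (b = m0 ∨ b = mq → (b - m0) ^ 2 + (b - mq) ^ 2 = 1) := by
    intro b
    have e : mq = m0 - (m0 - mq) := by ring
    rcases hd' with d | d <;> rw [d] at e <;> subst e <;> refine ⟨?_, fun h0 h1 => ?_, ?_⟩
    · nlinarith [sq_nonneg (2 * (b - m0) + 1)]
    · rcases (show b - m0 ≥ 1 ∨ b - m0 ≤ -2 by omega) with e | e <;> nlinarith
    · rintro (rfl | rfl) <;> ring
    · nlinarith [sq_nonneg (2 * (b - m0) - 1)]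
    · rcases (show b - m0 ≥ 2 ∨ b - m0 ≤ -1 by omega) with e | e <;> nlinarith
    · rintro (rfl | rfl) <;> ring
  have hsum : ((h : ℤ) - 1) ≤ ∑ i, ((B i - m0) ^ 2 + (B i - mq) ^ 2) := by
    calc ((h : ℤ) - 1) = ∑ _i : Fin (h - 1), (1 : ℤ) := by
          rw [sum_const, card_univ, Fintype.card_fin, nsmul_one, Nat.cast_sub hh]; simp
      _ ≤ _ := sum_le_sum fun i _ => (hterm (B i)).1
  have hAn := dsq_nonneg A
  have hBn := dsq_nonneg B
  refine ⟨by unfold total; linarith, fun hle => ?_⟩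
  unfold total at hle ⊢
  have hA0 : dsq A = 0 := by
    by_contra hne
    have h1 := le_dsq hne
    rw [Fintype.card_fin] at h1
    rcases Nat.lt_or_ge h 2 with h2 | h2
    · obtain rfl : h = 1 := by omega
      exact hne (by simp [dsq, Fin.eq_zero])
    · have : (2 : ℤ) ≤ h := by exact_mod_cast h2
      linarith
  have hB0 : dsq B = 0 := by
    by_contra hne
    have h1 := le_dsq hne
    rw [Fintype.card_fin, Nat.cast_sub hh] at h1
    push_cast at h1
    rcases Nat.lt_or_ge h 3 with h2 | h2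
    · have hc : h = 1 ∨ h = 2 := by omega
      rcases hc with rfl | rfl
      · exact hne (by simp [dsq])
      · exact hne (by simp [dsq, Fin.eq_zero])
    · have : (4 : ℤ) ≤ h := by exact_mod_cast (show 4 ≤ h by omega)
      linarith
  have hBc := eq_of_dsq_eq_zero hB0
  have hshape : (∀ i, B i = m0) ∨ (∀ i, B i = mq) := by
    rcases isEmpty_or_nonempty (Fin (h - 1)) with he | ⟨⟨i₀⟩⟩
    · exact Or.inl fun i => he.elim i
    by_cases h0 : B i₀ = m0
    · exact Or.inl fun i => (hBc i i₀).trans h0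
    by_cases h1 : B i₀ = mq
    · exact Or.inr fun i => (hBc i i₀).trans h1
    exfalso
    have h5 : 5 * ((h : ℤ) - 1) ≤ ∑ i, ((B i - m0) ^ 2 + (B i - mq) ^ 2) := by
      calc 5 * ((h : ℤ) - 1) = ∑ _i : Fin (h - 1), (5 : ℤ) := by
            rw [sum_const, card_univ, Fintype.card_fin, nsmul_eq_mul, Nat.cast_sub hh]
            push_cast; ring
        _ ≤ _ := sum_le_sum fun i _ => by
              rw [hBc i i₀]; exact (hterm _).2.1 h0 h1
    have h2 : (2 : ℤ) ≤ h := by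
      have := i₀.isLt
      exact_mod_cast (show 2 ≤ h by omega)
    linarith
  refine ⟨?_, eq_of_dsq_eq_zero hA0, hshape⟩
  have hs : ∑ i, ((B i - m0) ^ 2 + (B i - mq) ^ 2) = ((h : ℤ) - 1) := by
    rw [sum_congr rfl fun i _ => (hterm (B i)).2.2 (hshape.elim (fun e => Or.inl (e i)) fun e => Or.inr (e i)),
      sum_const, card_univ, Fintype.card_fin, nsmul_one, Nat.cast_sub hh]
    simp
  rw [hA0, hB0, hs, hd]
  ring

/-- Positive height: zero or the second value. -/
theorem total_height_pos (hh : 1 ≤ h) (A : Fin h → ℤ) (m : ℤ) (B : Fin (h - 1) → ℤ)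
    (hle : total A m m B ≤ 4 * (h : ℤ) - 1) :
    total A m m B = 0 ∨ total A m m B = 4 * ((h : ℤ) - 1) := by
  classical
  let B' : Option (Fin (h - 1)) → ℤ := fun o => o.elim m B
  have hB' : dsq B' = dsq B + 2 * ∑ i, (B i - m) ^ 2 := by
    simp only [dsq, Fintype.sum_option, B', Option.elim, sum_add_distrib]
    rw [show ∑ j, (m - B j) ^ 2 = ∑ i, (B i - m) ^ 2 from sum_congr rfl fun i _ => by ring]
    ring
  have e : total A m m B = 2 * dsq A + 2 * dsq B' := by
    rw [hB', total, sum_add_distrib]; ring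
  rw [e] at hle ⊢
  obtain ⟨a, ha⟩ := two_dvd_dsq A
  obtain ⟨b, hb⟩ := two_dvd_dsq B'
  have ha' : a = 0 ∨ (h : ℤ) - 1 ≤ a := by
    by_cases hz : dsq A = 0
    · exact Or.inl (by omega)
    · have := le_dsq hz
      rw [Fintype.card_fin] at this
      exact Or.inr (by omega)
  have hb' : b = 0 ∨ (h : ℤ) - 1 ≤ b := by
    by_cases hz : dsq B' = 0
    · exact Or.inl (by omega)
    · have := le_dsq hz
      rw [Fintype.card_option, Fintype.card_fin] at this
      exact Or.inr (by omega)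
  have := dsq_nonneg A
  have := dsq_nonneg B'
  rcases Nat.lt_or_ge h 2 with h2 | h2
  · obtain rfl : h = 1 := by omega
    left
    have hA : dsq A = 0 := by simp [dsq, Fin.eq_zero]
    have hB : dsq B' = 0 := by simp [dsq, Fintype.sum_option, B']
    omega
  · rcases ha' with rfl | ha' <;> rcases hb' with rfl | hb' <;> omega

end H12.QuatCombi
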