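import Cfsg.Agent.H12.QuatLocal
import Cfsg.Agent.H12.QuatCombi

/-!
# Symmetric multiplicity vectors and their columns

For `m` symmetric modulo `2q` the column `j ↦ ∑ m l ζ ^ (j l)` is real and symmetric; its squares
over `1 ≤ j < q` sum to `H12.QuatCombi.total`.
-/

set_option autoImplicit false
set_option linter.unusedSectionVars false

open Finset
open scoped ComplexConjugate

namespace H12.QuatCols

open H12.QuatLocal.Loc4 (col)

variable {q : ℕ} {ζ : ℂ}

/-- Equal exponents modulo the order. -/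
theorem pow_congr {N : ℕ} (hN : N ≠ 0) (hζ : IsPrimitiveRoot ζ N) {i j : ℕ}
    (h : (i : ZMod N) = (j : ZMod N)) : ζ ^ i = ζ ^ j := by
  have h' := (ZMod.natCast_eq_natCast_iff i j N).1 h
  rw [← Nat.div_add_mod i N, ← Nat.div_add_mod j N, pow_add, pow_add, pow_mul, pow_mul,
    hζ.pow_eq_one, one_pow, one_pow, show i % N = j % N from h']

theorem conj_pow {N : ℕ} (hN : N ≠ 0) (hζ : IsPrimitiveRoot ζ N) (k : ℕ) :
    conj (ζ ^ k) = ζ ^ ((N - 1) * k) := by
  have h0 := hζ.ne_zero hN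
  have h1 : conj ζ = ζ ^ (N - 1) := by
    rw [← Complex.inv_eq_conj (hζ.norm'_eq_one hN)]
    refine inv_eq_of_mul_eq_one_right ?_
    rw [← pow_succ', Nat.sub_add_cancel (Nat.one_le_iff_ne_zero.2 hN), hζ.pow_eq_one]
  rw [map_pow, h1, ← pow_mul]

theorem sum_pow {N : ℕ} (hN : N ≠ 0) (hζ : IsPrimitiveRoot ζ N) (k : ℕ) :
    ∑ j ∈ range N, ζ ^ (j * k) = if (k : ZMod N) = 0 then (N : ℂ) else 0 := by
  split_ifs with h
  · rw [sum_congr rfl fun j _ => pow_congr hN hζ (i := j * k) (j := 0) (by push_cast; rw [h]; ring)]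
    simp
  · have hk : ζ ^ k ≠ 1 := fun e => h ((ZMod.natCast_eq_zero_iff _ _).2 ((hζ.pow_eq_one_iff_dvd k).1 e))
    have hg := geom_sum_mul (ζ ^ k) N
    rw [← pow_mul, mul_comm k N, pow_mul, hζ.pow_eq_one, one_pow, sub_self] at hg
    rw [sum_congr rfl fun j _ => show ζ ^ (j * k) = (ζ ^ k) ^ j by rw [← pow_mul, mul_comm]]
    exact (mul_eq_zero.1 hg).resolve_right (sub_ne_zero.2 hk)

/-- Reflection of a full sum. -/
theorem sum_reflect' {A : Type*} [AddCommMonoid A] {N : ℕ} (F : ℕ → A) :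
    ∑ l ∈ range N, F ((N - l) % N) = ∑ l ∈ range N, F l := by
  rcases Nat.eq_zero_or_pos N with rfl | hN
  · simp
  have hinv : ∀ l ∈ range N, (N - (N - l) % N) % N = l := by
    intro l hl
    rw [Finset.mem_range] at hl
    rcases Nat.eq_zero_or_pos l with rfl | hl0
    · simp
    · rw [Nat.mod_eq_of_lt (show N - l < N by omega), show N - (N - l) = l by omega,
        Nat.mod_eq_of_lt hl]
  exact sum_nbij' (fun l => (N - l) % N) (fun l => (N - l) % N)
    (fun l _ => Finset.mem_range.2 (Nat.mod_lt _ hN)) (fun l _ => Finset.mem_range.2 (Nat.mod_lt _ hN))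
    hinv hinv (fun l _ => rfl)

/-- Splitting a full sum into the two halves. -/
theorem sum_split {A : Type*} [AddCommMonoid A] (hq : 1 ≤ q) (F : ℕ → A) :
    ∑ l ∈ range (2 * q), F l = F 0 + F q + ∑ l ∈ Ico 1 q, (F l + F (2 * q - l)) := by
  rw [range_eq_Ico, sum_eq_sum_Ico_succ_bot (by omega : 0 < 2 * q),
    ← sum_Ico_consecutive F (by omega : 0 + 1 ≤ q) (by omega : q ≤ 2 * q),
    sum_eq_sum_Ico_succ_bot (by omega : q < 2 * q), sum_add_distrib]
  have h1 : ∑ l ∈ Ico (q + 1) (2 * q), F l = ∑ l ∈ Ico 1 q, F (2 * q - l) := by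
    refine sum_nbij' (fun l => 2 * q - l) (fun l => 2 * q - l) ?_ ?_ ?_ ?_ ?_ <;>
      intro l hl <;> simp only [Finset.mem_Ico] at hl ⊢ <;> first | omega | (congr 1; omega)
  rw [h1]
  abel

variable {m m' : ℕ → ℕ}

/-- Symmetry modulo `2q`. -/
def Sym (q : ℕ) (m : ℕ → ℕ) : Prop := ∀ l ≤ 2 * q, m (2 * q - l) = m l

theorem Sym.mod (hm : Sym q m) {l : ℕ} (hl : l < 2 * q) : m ((2 * q - l) % (2 * q)) = m l := by
  rcases Nat.eq_zero_or_pos l with rfl | hl0
  · simp
  · rw [Nat.mod_eq_of_lt (by omega)]; exact hm l hl.le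

theorem col_reflect (hq : 1 ≤ q) (hζ : IsPrimitiveRoot ζ (2 * q)) (hm : Sym q m) (j : ℕ) :
    col (2 * q) ζ m ((2 * q - 1) * j) = col (2 * q) ζ m j := by
  have hN : 2 * q ≠ 0 := by omega
  unfold col
  rw [← sum_reflect' (fun l => (m l : ℂ) * ζ ^ (j * l))]
  refine sum_congr rfl fun l hl => ?_
  rw [Finset.mem_range] at hl
  rw [hm.mod hl]
  congr 1
  refine pow_congr hN hζ ?_
  rw [Nat.cast_mul, Nat.cast_mul, Nat.cast_mul, ZMod.natCast_mod, Nat.cast_sub hl.le,
    Nat.cast_sub (by omega : 1 ≤ 2 * q), ZMod.natCast_self]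
  push_cast
  ring

theorem col_real (hq : 1 ≤ q) (hζ : IsPrimitiveRoot ζ (2 * q)) (hm : Sym q m) (j : ℕ) :
    conj (col (2 * q) ζ m j) = col (2 * q) ζ m j := by
  have hN : 2 * q ≠ 0 := by omega
  conv_rhs => rw [← col_reflect hq hζ hm j]
  unfold col
  rw [map_sum]
  refine sum_congr rfl fun l _ => ?_
  rw [map_mul, map_natCast, conj_pow hN hζ, mul_assoc]

theorem col_sub (hq : 1 ≤ q) (hζ : IsPrimitiveRoot ζ (2 * q)) (hm : Sym q m) {j : ℕ}
    (hj : j ≤ 2 * q) : col (2 * q) ζ m (2 * q - j) = col (2 * q) ζ m j := by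
  have hN : 2 * q ≠ 0 := by omega
  conv_rhs => rw [← col_reflect hq hζ hm j]
  unfold col
  refine sum_congr rfl fun l _ => congrArg _ (pow_congr hN hζ ?_)
  rw [Nat.cast_mul, Nat.cast_mul, Nat.cast_mul, Nat.cast_sub hj,
    Nat.cast_sub (by omega : 1 ≤ 2 * q), ZMod.natCast_self]
  push_cast
  ring

theorem pow_q (hq : 1 ≤ q) (hζ : IsPrimitiveRoot ζ (2 * q)) : ζ ^ q = -1 :=
  (hζ.pow (by omega) (mul_comm 2 q)).eq_neg_one_of_two_right

theorem col_zero (m : ℕ → ℕ) : col (2 * q) ζ m 0 = ((∑ l ∈ range (2 * q), m l : ℕ) : ℂ) := by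
  simp [col]

theorem col_q (hq : 1 ≤ q) (hζ : IsPrimitiveRoot ζ (2 * q)) (m : ℕ → ℕ) :
    col (2 * q) ζ m q = ((∑ l ∈ range (2 * q), (-1) ^ l * (m l : ℤ) : ℤ) : ℂ) := by
  push_cast
  unfold col
  exact sum_congr rfl fun l _ => by rw [pow_mul, pow_q hq hζ, mul_comm]

theorem col_add_q (hq : 1 ≤ q) (hζ : IsPrimitiveRoot ζ (2 * q)) {ε : ℂ}
    (hε : ∀ l, m l ≠ 0 → ε = (-1 : ℂ) ^ l) (j : ℕ) :
    col (2 * q) ζ m (j + q) = ε * col (2 * q) ζ m j := by
  unfold col
  rw [mul_sum]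
  refine sum_congr rfl fun l _ => ?_
  by_cases hl : m l = 0
  · simp [hl]
  · rw [hε l hl, add_mul, pow_add, pow_mul ζ q, pow_q hq hζ]
    ring

/-- The squared sum. -/
theorem parseval (hq : 1 ≤ q) (hζ : IsPrimitiveRoot ζ (2 * q)) (hm : Sym q m) :
    ∑ j ∈ range (2 * q), col (2 * q) ζ m j * col (2 * q) ζ m j =
      (2 * q : ℂ) * ∑ l ∈ range (2 * q), (m l : ℂ) ^ 2 := by
  have hN : 2 * q ≠ 0 := by omega
  calc ∑ j ∈ range (2 * q), col (2 * q) ζ m j * col (2 * q) ζ m j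
      = ∑ j ∈ range (2 * q), col (2 * q) ζ m j * conj (col (2 * q) ζ m j) :=
        sum_congr rfl fun j _ => by rw [col_real hq hζ hm]
    _ = ∑ l ∈ range (2 * q), ∑ k ∈ range (2 * q), ((m l : ℂ) * m k) *
          ∑ j ∈ range (2 * q), ζ ^ (j * (l + (2 * q - 1) * k)) := by
        simp only [col, map_sum, map_mul, map_natCast, conj_pow hN hζ]
        simp only [sum_mul_sum]
        simp only [mul_sum]
        rw [sum_comm]
        refine sum_congr rfl fun l _ => ?_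
        rw [sum_comm]
        refine sum_congr rfl fun k _ => sum_congr rfl fun j _ => ?_
        rw [show j * (l + (2 * q - 1) * k) = j * l + (2 * q - 1) * (j * k) by ring, pow_add]
        ring
    _ = _ := by
        rw [mul_sum]
        refine sum_congr rfl fun l hl => ?_
        rw [sum_eq_single l (fun k hk hne => ?_) (fun h => absurd hl h), sum_pow hN hζ, if_pos]
        · push_cast; ring
        · rw [Nat.cast_add, Nat.cast_mul, Nat.cast_sub (by omega : 1 ≤ 2 * q), ZMod.natCast_self]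
          push_cast; ring
        · rw [sum_pow hN hζ, if_neg, mul_zero]
          intro e
          rw [Nat.cast_add, Nat.cast_mul, Nat.cast_sub (by omega : 1 ≤ 2 * q), ZMod.natCast_self,
            Nat.cast_one, zero_sub, neg_one_mul, add_neg_eq_zero, ZMod.natCast_eq_natCast_iff] at e
          rw [Finset.mem_range] at hl hk
          exact hne (Nat.ModEq.eq_of_lt_of_lt e hl hk).symm

/-- The squares over `1 ≤ j < q`, as an integer. -/
def tot (q : ℕ) (m : ℕ → ℕ) : ℤ :=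
  H12.QuatCombi.total (h := q / 2) (fun i => (m (2 * (i : ℕ) + 1) : ℤ)) (m 0) (m q)
    (fun i => (m (2 * (i : ℕ) + 2) : ℤ))

theorem sum_parity {A : Type*} [AddCommMonoid A] (F : ℕ → A) (n : ℕ) :
    ∑ l ∈ Ico 1 (2 * (n + 1)), F l =
      ∑ i : Fin (n + 1), F (2 * (i : ℕ) + 1) + ∑ i : Fin (n + 1 - 1), F (2 * (i : ℕ) + 2) := by
  simp only [Nat.add_sub_cancel, Fin.sum_univ_eq_sum_range (fun i => F (2 * i + 1)),
    Fin.sum_univ_eq_sum_range (fun i => F (2 * i + 2))]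
  induction n with
  | zero => simp
  | succ n ih =>
    rw [show 2 * (n + 1 + 1) = 2 * (n + 1) + 1 + 1 by ring, sum_Ico_succ_top (by omega),
      sum_Ico_succ_top (by omega), ih, sum_range_succ (fun i => F (2 * i + 1)) (n + 1),
      sum_range_succ (fun i => F (2 * i + 2)) n]
    rw [show 2 * n + 2 = 2 * (n + 1) by ring]
    abel

theorem sum_full {h : ℕ} (hh : 1 ≤ h) (F : ℕ → ℤ) (hF : ∀ l ∈ Ico 1 (2 * h), F (4 * h - l) = F l) :
    ∑ l ∈ range (2 * (2 * h)), F l = F 0 + F (2 * h) +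
      2 * (∑ i : Fin h, F (2 * (i : ℕ) + 1) + ∑ i : Fin (h - 1), F (2 * (i : ℕ) + 2)) := by
  obtain ⟨n, rfl⟩ : ∃ n, h = n + 1 := ⟨h - 1, by omega⟩
  rw [sum_split (by omega : 1 ≤ 2 * (n + 1)), ← sum_parity F n, mul_sum]
  congr 1
  refine sum_congr rfl fun l hl => ?_
  rw [show 2 * (2 * (n + 1)) - l = 4 * (n + 1) - l by omega, hF l hl]
  ring

/-- The squares over `1 ≤ j < q` of the column. -/
theorem sum_sq {h : ℕ} (hh : 1 ≤ h) (hqh : q = 2 * h) (hζ : IsPrimitiveRoot ζ (2 * q))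
    (hm : Sym q m) :
    ∑ j ∈ Ico 1 q, col (2 * q) ζ m j ^ 2 = (tot q m : ℂ) := by
  have hq : 1 ≤ q := by omega
  have hp := parseval hq hζ hm
  rw [sum_split hq] at hp
  rw [sum_congr (s₁ := Ico 1 q) rfl fun j hj => show
      col (2 * q) ζ m j * col (2 * q) ζ m j + col (2 * q) ζ m (2 * q - j) *
        col (2 * q) ζ m (2 * q - j) = 2 * col (2 * q) ζ m j ^ 2 by
      rw [col_sub hq hζ hm (by rw [Finset.mem_Ico] at hj; omega)]; ring,
    ← mul_sum, col_zero, col_q hq hζ] at hp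
  have hsymm : ∀ l ∈ Ico 1 (2 * h), m (4 * h - l) = m l := fun l hl => by
    rw [show 4 * h - l = 2 * q - l by omega]
    exact hm l (by rw [Finset.mem_Ico] at hl; omega)
  set E : ℤ := (m 0 : ℤ) + m q + 2 * ∑ i : Fin (h - 1), (m (2 * (i : ℕ) + 2) : ℤ)
  set O : ℤ := 2 * ∑ i : Fin h, (m (2 * (i : ℕ) + 1) : ℤ)
  have e1 : (∑ l ∈ range (2 * q), (m l : ℤ)) = E + O := by
    rw [hqh, sum_full hh (fun l => (m l : ℤ)) (fun l hl => by rw [hsymm l hl])]
    simp only [E, O, hqh]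
    ring
  have e2 : (∑ l ∈ range (2 * q), (-1) ^ l * (m l : ℤ)) = E - O := by
    rw [hqh, sum_full hh (fun l => (-1) ^ l * (m l : ℤ)) (fun l hl => by
      rw [hsymm l hl]
      congr 1
      rw [Finset.mem_Ico] at hl
      refine neg_one_pow_congr ?_
      simp only [Nat.even_sub (show l ≤ 4 * h by omega), Nat.even_mul, show Even 4 by decide,
        true_or, true_iff])]
    simp only [E, O, hqh, pow_succ, pow_mul, neg_one_sq, one_pow, pow_zero, one_mul, neg_mul,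
      sum_neg_distrib, mul_neg, mul_one, neg_neg]
    ring
  have e3 : (∑ l ∈ range (2 * q), (m l : ℤ) ^ 2) =
      (m 0 : ℤ) ^ 2 + (m q : ℤ) ^ 2 + 2 * (∑ i : Fin h, (m (2 * (i : ℕ) + 1) : ℤ) ^ 2 +
        ∑ i : Fin (h - 1), (m (2 * (i : ℕ) + 2) : ℤ) ^ 2) := by
    rw [hqh, sum_full hh (fun l => (m l : ℤ) ^ 2) (fun l hl => by rw [hsymm l hl])]
  have hT : tot q m = (q : ℤ) * ∑ l ∈ range (2 * q), (m l : ℤ) ^ 2 - E ^ 2 - O ^ 2 := by
    rw [e3]
    unfold tot
    subst hqh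
    rw [Nat.mul_div_cancel_left h two_pos, H12.QuatCombi.total, H12.QuatCombi.dsq_eq,
      H12.QuatCombi.dsq_eq]
    simp only [E, O, Fintype.card_fin, sub_sq, sum_add_distrib, sum_sub_distrib, sum_const,
      card_univ, nsmul_eq_mul, ← sum_mul, ← mul_sum]
    push_cast [Nat.cast_sub hh]
    ring
  have e1' : ((∑ l ∈ range (2 * q), m l : ℕ) : ℂ) = ((E + O : ℤ) : ℂ) := by
    rw [← e1]; push_cast; rfl
  have hT' := congrArg (fun z : ℤ => (z : ℂ)) hT
  rw [e1', e2] at hp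
  push_cast at hp hT'
  linear_combination hp / 2 - hT'

/-- The sum over the odd columns. -/
theorem sum_odd {h : ℕ} (hh : 1 ≤ h) (hqh : q = 2 * h) (hζ : IsPrimitiveRoot ζ (2 * q))
    (hm : Sym q m) :
    2 * ∑ i : Fin h, col (2 * q) ζ m (2 * (i : ℕ) + 1) = (q : ℂ) * ((m 0 : ℂ) - m q) := by
  have hq : 1 ≤ q := by omega
  rw [Fin.sum_univ_eq_sum_range (fun i => col (2 * q) ζ m (2 * i + 1))]
  have h2 : ∑ i ∈ range q, col (2 * q) ζ m (2 * i + 1) =
      2 * ∑ i ∈ range h, col (2 * q) ζ m (2 * i + 1) := by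
    conv_lhs => rw [show range q = range (h + h) by rw [← two_mul, ← hqh]]
    rw [sum_range_add, two_mul (∑ i ∈ range h, col (2 * q) ζ m (2 * i + 1))]
    congr 1
    rw [← sum_range_reflect (fun i => col (2 * q) ζ m (2 * i + 1)) h]
    refine sum_congr rfl fun i hi => ?_
    rw [Finset.mem_range] at hi
    rw [← col_sub hq hζ hm (by omega : 2 * (h + i) + 1 ≤ 2 * q)]
    congr 1
    omega
  rw [← h2]
  unfold col
  rw [sum_comm]
  have hin : ∀ l : ℕ, ∑ i ∈ range q, (m l : ℂ) * ζ ^ ((2 * i + 1) * l) =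
      (m l : ℂ) * ζ ^ l * if (l : ZMod q) = 0 then (q : ℂ) else 0 := by
    intro l
    rw [← sum_pow (by omega) (hζ.pow (by omega) rfl : IsPrimitiveRoot (ζ ^ 2) q) l, mul_sum]
    refine sum_congr rfl fun i _ => ?_
    rw [show (2 * i + 1) * l = l + 2 * (i * l) by ring, pow_add, pow_mul]
    ring
  have h0 : ∀ l : ℕ, (l : ZMod q) = 0 → l < 2 * q → l = 0 ∨ l = q := by
    intro l h hl
    obtain ⟨c, rfl⟩ := (ZMod.natCast_eq_zero_iff _ _).1 h
    have : c < 2 := by
      by_contra hc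
      push Not at hc
      have := Nat.mul_le_mul_left q hc
      omega
    interval_cases c <;> omega
  rw [sum_congr rfl fun l _ => hin l, sum_split hq, if_pos (by simp), if_pos (by simp),
    pow_q hq hζ, pow_zero, sum_eq_zero (fun l hl => ?_)]
  · ring
  · rw [Finset.mem_Ico] at hl
    rw [if_neg, if_neg, mul_zero, mul_zero, add_zero] <;> intro e
    · rcases h0 _ e (by omega) with e | e <;> omega
    · rcases h0 _ e (by omega) with e | e <;> omega

/-- The columns of a flat vector. -/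
theorem col_shape {h : ℕ} (hqh : q = 2 * h) (hζ : IsPrimitiveRoot ζ (2 * q)) (hm : Sym q m)
    {α β : ℕ} (hA : ∀ l ∈ Ico 1 q, ¬ Even l → m l = α) (hB : ∀ l ∈ Ico 1 q, Even l → m l = β)
    {j : ℕ} (hj : j ∈ Ico 1 q) :
    col (2 * q) ζ m j = ((m 0 : ℂ) - β) + ((m q : ℂ) - β) * (-1) ^ j := by
  rw [Finset.mem_Ico] at hj
  have hq : 1 ≤ q := by omega
  have hN : 2 * q ≠ 0 := by omega
  have hpar : ∀ l ≤ 2 * q, (Even (2 * q - l) ↔ Even l) := fun l hl => by
    simp [Nat.even_sub hl]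
  have hall : ∀ l ∈ range (2 * q), (m l : ℂ) = ((α : ℂ) + β) / 2 + ((β : ℂ) - α) / 2 * (-1) ^ l +
      (if l = 0 then (m 0 : ℂ) - β else 0) + (if l = q then (m q : ℂ) - β else 0) := by
    intro l hl
    rw [Finset.mem_range] at hl
    have hqe : Even q := ⟨h, by omega⟩
    rcases eq_or_ne l 0 with rfl | hl0
    · rw [if_pos rfl, if_neg (by omega), pow_zero]; ring
    rcases eq_or_ne l q with rfl | hlq
    · rw [if_neg hl0, if_pos rfl, hqe.neg_one_pow]; ring
    rw [if_neg hl0, if_neg hlq, add_zero, add_zero]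
    have hv : m l = if Even l then β else α := by
      rcases Nat.lt_or_ge l q with h1 | h1
      · split_ifs with he
        · exact hB l (Finset.mem_Ico.2 ⟨by omega, h1⟩) he
        · exact hA l (Finset.mem_Ico.2 ⟨by omega, h1⟩) he
      · rw [← hm l (by omega)]
        split_ifs with he
        · exact hB _ (Finset.mem_Ico.2 ⟨by omega, by omega⟩) ((hpar l (by omega)).2 he)
        · exact hA _ (Finset.mem_Ico.2 ⟨by omega, by omega⟩) fun e => he ((hpar l (by omega)).1 e)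
    rw [hv]
    by_cases he : Even l
    · rw [if_pos he, he.neg_one_pow]; ring
    · rw [if_neg he, (Nat.not_even_iff_odd.1 he).neg_one_pow]; ring
  unfold col
  rw [sum_congr rfl fun l hl => by rw [hall l hl]]
  simp only [add_mul, sum_add_distrib, ite_mul, zero_mul, Finset.sum_ite_eq']
  have z1 : ∑ l ∈ range (2 * q), ζ ^ (j * l) = 0 := by
    rw [sum_congr rfl fun l _ => by rw [mul_comm j l], sum_pow hN hζ, if_neg]
    intro e
    have := Nat.le_of_dvd (by omega) ((ZMod.natCast_eq_zero_iff _ _).1 e)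
    omega
  have z2 : ∑ l ∈ range (2 * q), (-1 : ℂ) ^ l * ζ ^ (j * l) = 0 := by
    rw [sum_congr rfl fun l _ => show (-1 : ℂ) ^ l * ζ ^ (j * l) = ζ ^ (l * (j + q)) by
      rw [← pow_q hq hζ, ← pow_mul, ← pow_add]; congr 1; ring, sum_pow hN hζ, if_neg]
    intro e
    have := Nat.le_of_dvd (by omega) ((ZMod.natCast_eq_zero_iff _ _).1 e)
    omega
  rw [← mul_sum, z1, sum_congr rfl fun l _ => mul_assoc _ ((-1 : ℂ) ^ l) _, ← mul_sum, z2,
    if_pos (Finset.mem_range.2 (by omega)), if_pos (Finset.mem_range.2 (by omega)), Nat.mul_zero,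
    pow_zero, mul_comm j q, pow_mul, pow_q hq hζ]
  ring

/-- The values `ζ ^ j + ζ ^ (-j)` sum to zero over `1 ≤ j < q`. -/
theorem sum_lam (hq : 2 ≤ q) (hζ : IsPrimitiveRoot ζ (2 * q)) :
    ∑ j ∈ Ico 1 q, (ζ ^ j + ζ ^ (2 * q - j)) = 0 := by
  have h := sum_split (q := q) (by omega) (fun j => ζ ^ j)
  rw [show ∑ l ∈ range (2 * q), ζ ^ l = 0 from hζ.geom_sum_eq_zero (by omega), pow_zero,
    pow_q (by omega) hζ] at h
  linear_combination -h

end H12.QuatCols
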