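import Cfsg.Agent.H12.QuatFam
import Cfsg.Agent.H22.QuatQuot

/-!
# The number of characters trivial at the central involution

In the centralizer of `z` the members of the block trivial at `z` are `2 ^ (a - 1) + l + u` in
number, and they form a block with dihedral defect group: `l + u = 3`.
-/

set_option autoImplicit false
set_option linter.unusedSectionVars false
set_option linter.style.haveILetI false
set_option maxHeartbeats 800000

open Cfsg Finset
open scoped MonoidAlgebra ComplexConjugate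

namespace H12.QuatBasic.Quat

universe u

variable {G : Type u} [Group G] [Fintype G] {M : Ideal AlgInt} [hMp : M.IsPrime]
  [CharP (H20.k M) 2] [IsAlgClosed (H20.k M)]
  {B : Set (IrrCharacter G)} {D : Subgroup G} {f0 : (H20.k M)[G]} {r s : G} {a : ℕ}

local notation "C[" x "]" => (Subgroup.centralizer ({x} : Set _))

open H12.QuatLocal.Loc4 (col)

/-- The squares of a rotation column sum to `2q`. -/
theorem sum_col_sq (h : Quat M B D f0 r s a) {ζ : ℂ} {m : IrrCharacter G → ℕ → ℕ}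
    (hpair : ∀ j, 1 ≤ j → j < 2 ^ a → ∀ χ ψ : IrrCharacter G,
        H23.pairC 2 (r ^ j) (bl M D f0 (r ^ j)) χ ψ =
          col (2 * 2 ^ a) ζ (m χ) j * conj (col (2 * 2 ^ a) ζ (m ψ) j) /
            ((2 * 2 ^ a : ℕ) : ℂ))
    {j : ℕ} (hj1 : 1 ≤ j) (hj : j < 2 ^ a) :
    ∑ χ ∈ H22.blockFinset B,
      col (2 * 2 ^ a) ζ (m χ) j * conj (col (2 * 2 ^ a) ζ (m χ) j) = ((2 * 2 ^ a : ℕ) : ℂ) := by
  have h1 := h.sum_rot hj1 hj
  rw [sum_congr rfl fun χ _ => hpair j hj1 hj χ χ, ← Finset.sum_div,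
    div_eq_one_iff_eq (Nat.cast_ne_zero.2 (by positivity : 2 * 2 ^ a ≠ 0))] at h1
  exact h1

/-- Distinct rotation columns are orthogonal. -/
theorem col_orth (h : Quat M B D f0 r s a) {u : ℕ} {w : Fin u → G}
    (hF : H12.SubsecFam.Fam (M := M) 2 B (reps r a w) (fun i => bl M D f0 (reps r a w i)))
    {ζ : ℂ} {m : IrrCharacter G → ℕ → ℕ}
    (hpair : ∀ j, 1 ≤ j → j < 2 ^ a → ∀ χ ψ : IrrCharacter G,
        H23.pairC 2 (r ^ j) (bl M D f0 (r ^ j)) χ ψ =
          col (2 * 2 ^ a) ζ (m χ) j * conj (col (2 * 2 ^ a) ζ (m ψ) j) /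
            ((2 * 2 ^ a : ℕ) : ℂ))
    {j k : ℕ} (hj1 : 1 ≤ j) (hj : j < 2 ^ a) (hk1 : 1 ≤ k) (hk : k < 2 ^ a) (hne : j ≠ k) :
    ∑ χ ∈ H22.blockFinset B,
      conj (col (2 * 2 ^ a) ζ (m χ) j) * col (2 * 2 ^ a) ζ (m χ) k = 0 := by
  haveI : Fact (Nat.Prime 2) := ⟨Nat.prime_two⟩
  have hN : ((2 * 2 ^ a : ℕ) : ℂ) ≠ 0 := Nat.cast_ne_zero.2 (by positivity)
  refine H12.SubsecFam.sum_col_eq_zero hF h.hM h.hB
    (i := Sum.inl ⟨j - 1, by omega⟩) (k := Sum.inl ⟨k - 1, by omega⟩)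
    (a := fun χ => col (2 * 2 ^ a) ζ (m χ) j) (a' := fun χ => col (2 * 2 ^ a) ζ (m χ) k)
    ?_ hN hN ?_ (h.sum_col_sq hpair hj1 hj) ?_
  · intro e
    have := congrArg Fin.val (Sum.inl.inj e)
    simp only at this
    omega
  · intro χ _ ψ _
    simp only [reps, Sum.elim_inl, Nat.sub_add_cancel hj1]
    exact hpair j hj1 hj χ ψ
  · intro χ _ ψ _
    simp only [reps, Sum.elim_inl, Nat.sub_add_cancel hk1]
    exact hpair k hk1 hk χ ψ

theorem eps_sq (h : Quat M B D f0 r s a) (hz : r ^ 2 ^ a ∈ Subgroup.center G)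
    (χ : IrrCharacter G) :
    H19.MajorBound.eps (r ^ 2 ^ a) χ = 1 ∨ H19.MajorBound.eps (r ^ 2 ^ a) χ = -1 := by
  have := H19.MajorBound.eps_pow_orderOf hz χ
  rw [h.orderOf_z] at this
  exact sq_eq_one_iff.1 this

/-- At a central involution the subsection repeats the regular elements. -/
theorem pz_eq_reg0 (h : Quat M B D f0 r s a) (hz : r ^ 2 ^ a ∈ Subgroup.center G)
    {χ : IrrCharacter G} (hχ : χ ∈ B) :
    H23.pairC 2 (r ^ 2 ^ a) (bl M D f0 (r ^ 2 ^ a)) χ χ = H12.SubsecFam.reg0 M 2 B χ χ := by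
  classical
  haveI : Fact (Nat.Prime 2) := ⟨Nat.prime_two⟩
  set z := r ^ 2 ^ a with hzd
  have hzD : z ∈ D := pow_mem h.rD _
  have hC : Subgroup.centralizer (Subgroup.zpowers z : Set G) = ⊤ := by
    rw [H23.centralizer_zpowers, eq_top_iff]
    exact fun g _ => Subgroup.mem_centralizer_singleton_iff.2 (Subgroup.mem_center_iff.1 hz g)
  have hbl : bl M D f0 z = H23.eB M B := by
    have hb := H23.mem_Bls.1 (h.bl_mem hzD)
    rw [hC] at hb
    refine hb.eq_of_mul_ne_zero (H23.isBlk_eB h.hB) ?_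
    have h1 : bl M D f0 z * H23.Br (Subgroup.zpowers z) (H23.eB M B) = bl M D f0 z := h.bl_inBlk hzD
    rw [H23.Br_eq_self ((H23.cidem_eB h.hB).supp.mono hC.ge)] at h1
    rw [h1]
    exact hb.ne_zero
  have hpp : ∀ g : G, H20.pPart 2 (z * g) = z ↔ H20.pPart 2 g = 1 := by
    intro g
    constructor
    · intro e
      rw [H20.pPart_eq_one_iff]
      have h1 := H20.pPart_mul_qPart (p := 2) (z * g)
      rw [e, mul_left_cancel_iff] at h1
      have h2 := H20.not_dvd_orderOf_qPart (p := 2) (z * g)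
      rwa [h1] at h2
    · intro e
      exact (H20.isPPart_unique' rfl (Subgroup.mem_center_iff.1 hz g).symm (h.exists_orderOf hzD)
        (H20.pPart_eq_one_iff.1 e)).1.symm
  rw [hbl, H12.SubsecFam.reg0, H23.pairC, H23.pairC,
    show Nat.card (Subgroup.centralizer (Subgroup.zpowers z : Set G)) =
      Nat.card (Subgroup.centralizer (Subgroup.zpowers (1 : G) : Set G)) by
      rw [hC, Subgroup.zpowers_one_eq_bot, H23.centralizer_bot_eq_top]]
  congr 1
  refine (Fintype.sum_equiv (Equiv.mulLeft z) _ _ fun g => ?_).symm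
  rw [Equiv.coe_mulLeft]
  by_cases hg : H20.pPart 2 g = 1
  · rw [if_pos hg, if_pos ((hpp g).2 hg), H23.T_one_eq_eB h.hB, H23.T_one_eq_eB h.hB, if_pos hχ,
      if_pos hχ]
    have h1 : (χ : G → ℂ) (z * g) = H19.MajorBound.eps z χ * (χ : G → ℂ) g := by
      simpa using H19.MajorBound.irr_pow_central hz χ 1 g
    rw [h1, map_mul, mul_mul_mul_comm]
    rcases h.eps_sq hz χ with e | e <;> rw [e] <;> simp
  · rw [if_neg hg, if_neg fun e => hg ((hpp g).1 e)]

/-- The signs annihilate the regular elements. -/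
theorem sum_eps_reg0 (h : Quat M B D f0 r s a) (hz : r ^ 2 ^ a ∈ Subgroup.center G) :
    ∑ χ ∈ H22.blockFinset B,
      H19.MajorBound.eps (r ^ 2 ^ a) χ * H12.SubsecFam.reg0 M 2 B χ χ = 0 := by
  classical
  haveI : Fact (Nat.Prime 2) := ⟨Nat.prime_two⟩
  set z := r ^ 2 ^ a with hzd
  simp only [H12.SubsecFam.reg0, H23.pairC, mul_sum]
  rw [sum_comm]
  refine sum_eq_zero fun g _ => ?_
  by_cases hg : H20.pPart 2 g = 1
  · have hne : ¬ IsConj (H20.pPart 2 (z * g)) (H20.pPart 2 g) := by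
      have e1 : H20.pPart 2 (z * g) = z := (H20.isPPart_unique' rfl
        (Subgroup.mem_center_iff.1 hz g).symm (h.exists_orderOf (pow_mem h.rD _))
        (H20.pPart_eq_one_iff.1 hg)).1.symm
      rw [e1, hg, isConj_one_left]
      exact h.z_ne_one
    have h0 := H20.block_orthogonality (p := 2) h.hM hne h.hB
    rw [H22.finsum_mem_block] at h0
    simp only [if_pos hg]
    rw [← mul_zero ((Nat.card (Subgroup.centralizer (Subgroup.zpowers (1 : G) : Set G)) : ℂ)⁻¹), ← h0, mul_sum]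
    refine sum_congr rfl fun χ hχ => ?_
    have hχB := H22.mem_blockFinset.1 hχ
    rw [H23.T_one_eq_eB h.hB, if_pos hχB, H12.irr_inv,
      show (χ : G → ℂ) (z * g) = H19.MajorBound.eps z χ * (χ : G → ℂ) g by
        simpa using H19.MajorBound.irr_pow_central hz χ 1 g]
    ring
  · simp [if_neg hg]

/-- **The count in a group with central `z`.** -/
theorem triv_card (h : Quat M B D f0 r s a) (hz : r ^ 2 ^ a ∈ Subgroup.center G) {u : ℕ}
    {w : Fin u → G} (hout : ∀ i, Out M D f0 r (w i))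
    (hF : H12.SubsecFam.Fam (M := M) 2 B (reps r a w) (fun i => bl M D f0 (reps r a w i))) :
    (H19.CentralPrime.triv B (r ^ 2 ^ a)).card = 2 ^ (a - 1) + blockRank 2 B + u := by
  classical
  haveI : Fact (Nat.Prime 2) := ⟨Nat.prime_two⟩
  obtain ⟨ζ, m, hζ, hsym, heps, hpair⟩ := h.exists_rot
  choose c hc hcsum hceps _hcodd using fun i => h.exists_out (hout i)
  set z := r ^ 2 ^ a with hzd
  set sB := H22.blockFinset B
  have hq := h.two_mul_h
  have hh1 : 1 ≤ 2 ^ (a - 1) := Nat.one_le_two_pow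
  have hN : ((2 * 2 ^ a : ℕ) : ℂ) ≠ 0 := Nat.cast_ne_zero.2 (by positivity)
  have h1 : ∀ χ ∈ sB, (1 : ℂ) = 2 * H12.SubsecFam.reg0 M 2 B χ χ +
      (∑ j ∈ Ico 1 (2 ^ a), H23.pairC 2 (r ^ j) (bl M D f0 (r ^ j)) χ χ) +
      ∑ i, H23.pairC 2 (w i) (bl M D f0 (w i)) χ χ := by
    intro χ hχ
    have hχ' := H22.mem_blockFinset.1 hχ
    rw [← H12.classInner_irr_self χ, h.delta_reps hF hχ' χ, h.pz_eq_reg0 hz hχ']
    ring
  have hsumout : ∀ i, ∑ χ ∈ sB, H23.pairC 2 (w i) (bl M D f0 (w i)) χ χ = 1 := by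
    intro i
    rw [sum_congr rfl fun χ _ => hc i χ χ, ← Finset.sum_div, ← Int.cast_sum,
      sum_congr rfl fun χ _ => show c i χ * c i χ = c i χ ^ 2 by ring, hcsum i]
    norm_num
  have hk : ((sB.card : ℕ) : ℂ) =
      2 * (blockRank 2 B : ℂ) + ((2 ^ a - 1 : ℕ) : ℂ) + (u : ℂ) := by
    rw [← H12.SubsecFam.sum_reg0 h.hM h.hB, card_eq_sum_ones, Nat.cast_sum]
    simp only [Nat.cast_one]
    rw [sum_congr rfl h1, sum_add_distrib, sum_add_distrib, ← mul_sum, sum_comm (s := sB),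
      sum_comm (s := sB), sum_congr rfl fun j hj => h.sum_rot (Finset.mem_Ico.1 hj).1
        (Finset.mem_Ico.1 hj).2, sum_congr rfl fun i _ => hsumout i]
    simp
    rfl
  have hrot : ∀ j ∈ Ico 1 (2 ^ a), ∑ χ ∈ sB, H19.MajorBound.eps z χ *
      H23.pairC 2 (r ^ j) (bl M D f0 (r ^ j)) χ χ = if j = 2 ^ (a - 1) then 1 else 0 := by
    intro j hj
    rw [Finset.mem_Ico] at hj
    have hterm : ∀ χ ∈ sB, H19.MajorBound.eps z χ *
        H23.pairC 2 (r ^ j) (bl M D f0 (r ^ j)) χ χ =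
        conj (col (2 * 2 ^ a) ζ (m χ) j) * col (2 * 2 ^ a) ζ (m χ) (2 ^ a - j) /
          ((2 * 2 ^ a : ℕ) : ℂ) := by
      intro χ _
      rw [hpair j hj.1 hj.2, mul_div_assoc', ← mul_assoc,
        ← H12.QuatCols.col_add_q (by omega) hζ (heps hz χ) j,
        ← H12.QuatCols.col_sub (by omega) hζ (hsym χ) (j := j + 2 ^ a) (by omega),
        show 2 * 2 ^ a - (j + 2 ^ a) = 2 ^ a - j by omega, mul_comm]
    rw [sum_congr rfl hterm, ← Finset.sum_div]
    split_ifs with hjh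
    · rw [show 2 ^ a - j = j by omega, sum_congr rfl fun χ _ => mul_comm _ _,
        h.sum_col_sq hpair hj.1 hj.2, div_self hN]
    · rw [h.col_orth hF hpair hj.1 hj.2 (by omega) (by omega) (by omega), zero_div]
  have hout1 : ∀ i, ∑ χ ∈ sB, H19.MajorBound.eps z χ *
      H23.pairC 2 (w i) (bl M D f0 (w i)) χ χ = 1 := by
    intro i
    refine (sum_congr rfl fun χ _ => ?_).trans (hsumout i)
    by_cases hne : c i χ = 0
    · rw [hc, hne]; simp
    · rw [hceps i hz χ hne, one_mul]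
  have he : ∑ χ ∈ sB, H19.MajorBound.eps z χ = 1 + (u : ℂ) := by
    rw [sum_congr rfl fun χ hχ => show H19.MajorBound.eps z χ = H19.MajorBound.eps z χ * 1 from
      (mul_one _).symm, sum_congr rfl fun χ hχ => congrArg (H19.MajorBound.eps z χ * ·) (h1 χ hχ)]
    simp only [mul_add, mul_sum, sum_add_distrib]
    rw [sum_congr rfl fun χ _ => mul_left_comm (H19.MajorBound.eps z χ) 2 _, ← mul_sum,
      h.sum_eps_reg0 hz, sum_comm (s := sB), sum_comm (s := sB), sum_congr rfl hrot,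
      sum_ite_eq' (Ico 1 (2 ^ a)) (2 ^ (a - 1)), if_pos (Finset.mem_Ico.2 ⟨hh1, by omega⟩),
      sum_congr rfl fun i _ => hout1 i]
    simp
  have ht : 2 * ((H19.CentralPrime.triv B z).card : ℂ) =
      ((sB.card : ℕ) : ℂ) + ∑ χ ∈ sB, H19.MajorBound.eps z χ := by
    rw [show H19.CentralPrime.triv B z = sB.filter fun χ => H19.MajorBound.eps z χ = 1 from
      Finset.ext fun χ => by
        rw [H19.CentralPrime.mem_triv, mem_filter, H22.mem_blockFinset,
          H19.CentralPrime.eps_eq_one_iff hz],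
      card_filter, Nat.cast_sum, card_eq_sum_ones, Nat.cast_sum, mul_sum, ← sum_add_distrib]
    refine sum_congr rfl fun χ _ => ?_
    rcases h.eps_sq hz χ with e | e <;> rw [e] <;> norm_num
  rw [hk, he] at ht
  have hcast : ((2 ^ a - 1 : ℕ) : ℂ) = 2 * ((2 ^ (a - 1) : ℕ) : ℂ) - 1 := by
    rw [Nat.cast_sub Nat.one_le_two_pow, hq]
    push_cast
    ring
  rw [hcast] at ht
  have : ((H19.CentralPrime.triv B z).card : ℂ) =
      ((2 ^ (a - 1) + blockRank 2 B + u : ℕ) : ℂ) := by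
    push_cast at ht ⊢
    linear_combination ht / 2
  exact_mod_cast this

/-! ### Passing to the centralizer of `z` -/

/-- The data in `C(z)`. -/
theorem exists_centre (h : Quat M B D f0 r s a) [Fintype C[r ^ 2 ^ a]] :
    ∃ (bK : Set (IrrCharacter C[r ^ 2 ^ a])) (r' s' : C[r ^ 2 ^ a]),
      (r' : G) = r ∧ (s' : G) = s ∧
      H23.eG M C[r ^ 2 ^ a] bK = bl M D f0 (r ^ 2 ^ a) ∧
      Quat M bK (D.subgroupOf C[r ^ 2 ^ a]) (H23.res C[r ^ 2 ^ a] f0) r' s' a := by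
  classical
  haveI : Fact (Nat.Prime 2) := ⟨Nat.prime_two⟩
  have hzD : r ^ 2 ^ a ∈ D := pow_mem h.rD _
  have hDC : D ≤ C[r ^ 2 ^ a] := fun d hd =>
    Subgroup.mem_centralizer_singleton_iff.2 (h.z_central hd)
  have hCD : Subgroup.centralizer (D : Set G) ≤ C[r ^ 2 ^ a] := fun g hg =>
    Subgroup.mem_centralizer_singleton_iff.2 (Subgroup.mem_centralizer_iff.1 hg _ hzD).symm
  have hf0 : H23.Supp C[r ^ 2 ^ a] f0 := h.hmax.1.2.cidem.supp.mono hCD
  have hblk : H23.IsBlk C[r ^ 2 ^ a] (bl M D f0 (r ^ 2 ^ a)) := by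
    have h1 := H23.mem_Bls.1 (h.bl_mem hzD)
    rwa [H23.centralizer_zpowers] at h1
  obtain ⟨bK, hb, hbe⟩ := H23.exists_block_eB (M := M)
    (E := H23.res C[r ^ 2 ^ a] (bl M D f0 (r ^ 2 ^ a))) (by
      have h1 := H23.isBlk_res (C := C[r ^ 2 ^ a]) le_rfl hblk
      rwa [Subgroup.subgroupOf_self] at h1)
  have hup := H23.Cyc.up_subgroupOf hDC
  have hmax : H23.IsMax 2 (H23.eB M bK) (D.subgroupOf C[r ^ 2 ^ a])
      (H23.res C[r ^ 2 ^ a] f0) := by
    refine ⟨?_, ?_, fun R g hg _ hle => ?_⟩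
    · rw [← H23.Cyc.isPair_emb_iff (by rw [hup]; exact hCD), hup, H23.emb_res hf0]
      exact h.hmax.1
    · obtain ⟨f', hf'⟩ := H23.exists_nsub 2 h.hmax.1 (Subgroup.zpowers_le.2 hzD) (fun d hd => by
        refine Subgroup.centralizer_le_normalizer _ (Subgroup.mem_centralizer_iff.2 fun b hb => ?_)
        obtain ⟨i, rfl⟩ := Subgroup.mem_zpowers_iff.1 hb
        exact ((show Commute d (r ^ 2 ^ a) from h.z_central hd).zpow_right i).eq.symm)
      rw [← H23.Cyc.inBlk_emb_iff, hup, hbe, H23.emb_res hblk.cidem.supp, H23.emb_res hf0,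
        h.bl_eq (Relation.ReflTransGen.single hf')]
      exact hf'.mul
    · have h' := H23.Cyc.le_emb hle (by rw [hup]; exact hCD)
      rw [hup, H23.emb_res hf0] at h'
      have hle' : D ≤ H23.Cyc.up C[r ^ 2 ^ a] R := h'.le 2
      have hpair := (H23.Cyc.isPair_emb_iff ((H23.centralizer_anti hle').trans hCD)).2 hg
      have heq := h.hmax.2.2 _ _ hpair
        ((h'.inBlk_iff 2 (H23.cidem_eB h.hB)).2 h.hmax.2.1) h'
      refine Subgroup.map_injective C[r ^ 2 ^ a].subtype_injective ?_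
      show H23.Cyc.up C[r ^ 2 ^ a] R = H23.Cyc.up C[r ^ 2 ^ a] _
      rw [heq, hup]
  have hmem : ∀ c : C[r ^ 2 ^ a], c ∈ Subgroup.zpowers (⟨r, hDC h.rD⟩ : C[r ^ 2 ^ a]) ↔
      (c : G) ∈ Subgroup.zpowers r := by
    intro c
    constructor
    · rintro ⟨i, rfl⟩
      exact ⟨i, by simp⟩
    · rintro ⟨i, hi⟩
      exact ⟨i, Subtype.ext (by simpa using hi)⟩
  refine ⟨bK, ⟨r, hDC h.rD⟩, ⟨s, hDC h.sD⟩, rfl, rfl, ?_, ⟨h.hM, hb, hmax, h.ha,
    by rw [← Subgroup.orderOf_coe]; exact h.hord, Subgroup.mem_subgroupOf.2 h.rD,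
    Subgroup.mem_subgroupOf.2 h.sD, Subtype.ext (by simpa using h.s2),
    fun e => h.snot ((hmem _).1 e), Subtype.ext (by simpa using h.sr), fun d hd => ?_⟩⟩
  · have h1 : H23.res C[r ^ 2 ^ a] (H23.eG M C[r ^ 2 ^ a] bK) =
        H23.res C[r ^ 2 ^ a] (bl M D f0 (r ^ 2 ^ a)) := (H23.res_eG bK).trans hbe
    rw [← H23.emb_res (H23.supp_eG (M := M) C[r ^ 2 ^ a] bK), h1, H23.emb_res hblk.cidem.supp]
  · rcases h.cover (d : G) (Subgroup.mem_subgroupOf.1 hd) with e | e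
    · exact Or.inl ((hmem _).2 e)
    · exact Or.inr ((hmem _).2 e)

theorem fused_centre (h : Quat M B D f0 r s a) [Fintype C[r ^ 2 ^ a]]
    {bK : Set (IrrCharacter C[r ^ 2 ^ a])} {r' s' : C[r ^ 2 ^ a]}
    (h' : Quat M bK (D.subgroupOf C[r ^ 2 ^ a]) (H23.res C[r ^ 2 ^ a] f0) r' s' a)
    {x y : C[r ^ 2 ^ a]} (hx : (x : G) ∈ D) (hy : (y : G) ∈ D)
    (hx2 : (x : G) * x = r ^ 2 ^ a) (hy2 : (y : G) * y = r ^ 2 ^ a) :
    Fused M (D.subgroupOf C[r ^ 2 ^ a]) (H23.res C[r ^ 2 ^ a] f0) x y ↔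
      Fused M D f0 (x : G) (y : G) := by
  classical
  haveI : Fact (Nat.Prime 2) := ⟨Nat.prime_two⟩
  have hzD : r ^ 2 ^ a ∈ D := pow_mem h.rD _
  have hDC : D ≤ C[r ^ 2 ^ a] := fun d hd =>
    Subgroup.mem_centralizer_singleton_iff.2 (h.z_central hd)
  have hemb : ∀ {t : C[r ^ 2 ^ a]}, (t : G) ∈ D → (t : G) * t = r ^ 2 ^ a →
      H23.emb C[r ^ 2 ^ a] (bl M (D.subgroupOf C[r ^ 2 ^ a]) (H23.res C[r ^ 2 ^ a] f0) t) =
        bl M D f0 (t : G) := by
    intro t ht ht2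
    have hCt : Subgroup.centralizer (Subgroup.zpowers (t : G) : Set G) ≤ C[r ^ 2 ^ a] :=
      fun g hg => Subgroup.mem_centralizer_singleton_iff.2
        (Subgroup.mem_centralizer_iff.1 hg _ (by
          have h1 := mul_mem (Subgroup.mem_zpowers (t : G)) (Subgroup.mem_zpowers (t : G))
          rwa [ht2] at h1)).symm
    have h1 := H23.Cyc.le_emb (h'.bl_le (Subgroup.mem_subgroupOf.2 ht))
      (by rw [H23.Cyc.up_zpowers]; exact hCt)
    rw [H23.Cyc.up_zpowers, H23.Cyc.up_subgroupOf hDC,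
      H23.emb_res (h.hmax.1.2.cidem.supp.mono fun g hg =>
        Subgroup.mem_centralizer_singleton_iff.2
          (Subgroup.mem_centralizer_iff.1 hg _ hzD).symm)] at h1
    exact (h.bl_eq h1).symm
  constructor
  · rintro ⟨g, hg, hgb⟩
    refine ⟨(g : G), congrArg Subtype.val hg, ?_⟩
    rw [← hemb hx hx2, ← hemb hy hy2, H23.Cyc.cj_emb, hgb]
  · rintro ⟨g, hg, hgb⟩
    have hgK : g ∈ C[r ^ 2 ^ a] := by
      refine Subgroup.mem_centralizer_singleton_iff.2 (mul_inv_eq_iff_eq_mul.1 ?_)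
      calc g * r ^ 2 ^ a * g⁻¹ = g * ((x : G) * x) * g⁻¹ := congrArg (g * · * g⁻¹) hx2.symm
        _ = (g * x * g⁻¹) * (g * x * g⁻¹) := by group
        _ = r ^ 2 ^ a := by rw [hg, hy2]
    refine ⟨⟨g, hgK⟩, Subtype.ext hg, H23.emb_injective C[r ^ 2 ^ a] ?_⟩
    rw [← H23.Cyc.cj_emb, hemb hx hx2, hemb hy hy2]
    exact hgb

theorem sq_of_four (h : Quat M B D f0 r s a) {v : G} (hv : v ∈ Subgroup.zpowers r)
    (h4 : orderOf v = 4) : v * v = r ^ 2 ^ a := by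
  have hvv : v ∈ Subgroup.zpowers (r ^ 2 ^ (a - 1)) :=
    H12.QuatLocal.mem_zpowers_of_dvd hv (Subgroup.npow_mem_zpowers r _) (by rw [h4, h.orderOf_y0])
  rcases four_cases h.orderOf_y0 hvv h4 with rfl | rfl
  · exact h.y0_sq
  · rw [← mul_inv_rev, h.y0_sq, inv_eq_of_mul_eq_one_right h.z_sq]

/-- **The rank at `z`**: `lz + u = 3`. -/
theorem exists_reps_rank (h : Quat M B D f0 r s a) (e : D ≃* QuaternionGroup (2 ^ a)) :
    ∃ (u : ℕ) (w : Fin u → G) (lz : ℕ), (∀ i, Out M D f0 r (w i)) ∧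
      H12.SubsecFam.Fam (M := M) 2 B (reps r a w) (fun i => bl M D f0 (reps r a w i)) ∧
      ∑ χ ∈ H22.blockFinset B,
        H23.pairC 2 (r ^ 2 ^ a) (bl M D f0 (r ^ 2 ^ a)) χ χ = (lz : ℂ) ∧
      lz + u = 3 := by
  classical
  haveI : Fact (Nat.Prime 2) := ⟨Nat.prime_two⟩
  haveI : Fintype C[r ^ 2 ^ a] := Fintype.ofFinite _
  obtain ⟨u, w, hout, hinj, hcov⟩ := h.exists_out_reps
  obtain ⟨bK, r', s', hr', hs', hbe, h'⟩ := h.exists_centre
  have hzD : r ^ 2 ^ a ∈ D := pow_mem h.rD _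
  have hDC : D ≤ C[r ^ 2 ^ a] := fun d hd =>
    Subgroup.mem_centralizer_singleton_iff.2 (h.z_central hd)
  refine ⟨u, w, blockRank 2 bK, hout, h.fam_of_reps hout hinj hcov, ?_, ?_⟩
  · have h1 := H12.SubsecFam.sum_pairC_self h.hM h.hB (h.exists_orderOf hzD) h'.hB
      (by rw [hbe]; exact h.bl_inBlk hzD)
    rwa [hbe] at h1
  have hmem : ∀ c : C[r ^ 2 ^ a], c ∈ Subgroup.zpowers r' ↔ (c : G) ∈ Subgroup.zpowers r := by
    intro c
    constructor
    · rintro ⟨i, rfl⟩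
      exact ⟨i, by simp [hr']⟩
    · rintro ⟨i, hi⟩
      exact ⟨i, Subtype.ext (by simpa [hr'] using hi)⟩
  let w' : Fin u → C[r ^ 2 ^ a] := fun i => ⟨w i, hDC (hout i).1⟩
  have hsq : ∀ i, w i * w i = r ^ 2 ^ a := fun i => h.sq_eq_z (hout i).1 (hout i).not_mem
  have hout' : ∀ i, Out M (D.subgroupOf C[r ^ 2 ^ a]) (H23.res C[r ^ 2 ^ a] f0) r' (w' i) := by
    intro i
    refine ⟨Subgroup.mem_subgroupOf.2 (hout i).1, fun v hv hf => ?_⟩
    have hv' := (hmem v).1 hv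
    have h4 : orderOf (v : G) = 4 := by
      obtain ⟨g, hg, -⟩ := hf
      rw [← hg, Subgroup.orderOf_coe, ← MulAut.conj_apply, MulEquiv.orderOf_eq,
        ← Subgroup.orderOf_coe]
      exact h.orderOf_outside (hout i).1 (hout i).not_mem
    exact (hout i).2 _ hv' ((h.fused_centre h' (x := w' i) (hout i).1 (h.zpowers_le hv') (hsq i)
      (h.sq_of_four hv' h4)).1 hf)
  have hinj' : ∀ i j, Fused M (D.subgroupOf C[r ^ 2 ^ a]) (H23.res C[r ^ 2 ^ a] f0) (w' i) (w' j) →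
      i = j := fun i j hf => hinj i j
    ((h.fused_centre h' (x := w' i) (y := w' j) (hout i).1 (hout j).1 (hsq i) (hsq j)).1 hf)
  have hcov' : ∀ y ∈ D.subgroupOf C[r ^ 2 ^ a], y ∉ Subgroup.zpowers r' →
      (∃ i, Fused M (D.subgroupOf C[r ^ 2 ^ a]) (H23.res C[r ^ 2 ^ a] f0) (w' i) y) ∨
        ∃ v ∈ Subgroup.zpowers r',
          Fused M (D.subgroupOf C[r ^ 2 ^ a]) (H23.res C[r ^ 2 ^ a] f0) v y := by
    intro y hy hn
    have hyD := Subgroup.mem_subgroupOf.1 hy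
    have hn' : (y : G) ∉ Subgroup.zpowers r := fun e' => hn ((hmem y).2 e')
    have hy2 := h.sq_eq_z hyD hn'
    rcases hcov (y : G) hyD hn' with ⟨i, hf⟩ | ⟨v, hv, hf⟩
    · exact Or.inl ⟨i, (h.fused_centre h' (x := w' i) (hout i).1 hyD (hsq i) hy2).2 hf⟩
    · have h4 : orderOf v = 4 := by
        obtain ⟨g, hg, -⟩ := hf.symm
        rw [← hg, ← MulAut.conj_apply, MulEquiv.orderOf_eq]
        exact h.orderOf_outside hyD hn'
      exact Or.inr ⟨⟨v, hDC (h.zpowers_le hv)⟩, (hmem _).2 hv,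
        (h.fused_centre h' (x := ⟨v, hDC (h.zpowers_le hv)⟩) (h.zpowers_le hv) hyD
          (h.sq_of_four hv h4) hy2).2 hf⟩
  have hzK : r' ^ 2 ^ a ∈ Subgroup.center C[r ^ 2 ^ a] := by
    refine Subgroup.mem_center_iff.2 fun c => Subtype.ext ?_
    push_cast
    rw [hr']
    exact Subgroup.mem_centralizer_singleton_iff.1 c.2
  have h1 := h'.triv_card hzK hout' (h'.fam_of_reps hout' hinj' hcov')
  have h2 := H22.QuatQuot.card_triv h.hM h'.hB (H23.isDefectGroup_of_isMax h'.hB h'.hmax) h.ha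
    ((Subgroup.subgroupOfEquivOfLe hDC).trans e) hzK h'.orderOf_z
  omega

end H12.QuatBasic.Quat
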