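import Cfsg.Agent.H12.QuatBasic
import Cfsg.Agent.H12.QuatCols
import Cfsg.Agent.H12.Induction
import Cfsg.Agent.H14.HallTransfer
import Cfsg.Agent.H22.Contrib
import Cfsg.Agent.H22.DeltaInt

/-!
# The columns of a 2-block with quaternion defect group

Rotation columns, the columns at the elements outside `⟨r⟩`, the integral forms at `1` and at the
central involution, and the relation between them.
-/

set_option autoImplicit false
set_option linter.unusedSectionVars false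
set_option linter.style.haveILetI false
set_option maxHeartbeats 800000

open Cfsg Finset
open scoped MonoidAlgebra ComplexConjugate

namespace H12.QuatBasic.Quat

universe u

variable {G : Type u} [Group G] [Fintype G] {M : Ideal AlgInt} [hMp : M.IsPrime]
  [CharP (H20.k M) 2] [IsAlgClosed (H20.k M)]
  {B : Set (IrrCharacter G)} {D : Subgroup G} {f0 : (H20.k M)[G]} {r s : G} {a : ℕ}

local notation "C[" x "]" => (Subgroup.centralizer ({x} : Set _))

open H12.QuatLocal.Loc4 (col)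

theorem pairC_swap (u : G) (b : (H20.k M)[G]) (χ ψ : IrrCharacter G) :
    H23.pairC 2 u b ψ χ = conj (H23.pairC 2 u b χ ψ) := by
  classical
  rw [H23.pairC, H23.pairC, map_mul, map_inv₀, map_natCast, map_sum]
  refine congrArg _ (sum_congr rfl fun g _ => ?_)
  split_ifs
  · rw [map_mul, Complex.conj_conj, mul_comm]
  · rw [map_zero]

theorem two_mul_q (h : Quat M B D f0 r s a) : orderOf r = 2 * 2 ^ a := by
  rw [h.hord, pow_succ']

theorem two_mul_h (h : Quat M B D f0 r s a) : 2 ^ a = 2 * 2 ^ (a - 1) := by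
  rw [← pow_succ', Nat.sub_add_cancel h.ha]

theorem y0_sq (h : Quat M B D f0 r s a) :
    r ^ 2 ^ (a - 1) * r ^ 2 ^ (a - 1) = r ^ 2 ^ a := by
  rw [← pow_add, ← two_mul, ← h.two_mul_h]

theorem y0_sq_ne (h : Quat M B D f0 r s a) :
    r ^ 2 ^ (a - 1) * r ^ 2 ^ (a - 1) ≠ 1 := h.y0_sq ▸ h.z_ne_one

/-- The rotation columns. -/
theorem exists_rot (h : Quat M B D f0 r s a) :
    ∃ (ζ : ℂ) (m : IrrCharacter G → ℕ → ℕ), IsPrimitiveRoot ζ (2 * 2 ^ a) ∧
      (∀ χ, H12.QuatCols.Sym (2 ^ a) (m χ)) ∧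
      (r ^ 2 ^ a ∈ Subgroup.center G → ∀ χ l, m χ l ≠ 0 →
        H19.MajorBound.eps (r ^ 2 ^ a) χ = (-1 : ℂ) ^ l) ∧
      ∀ j, 1 ≤ j → j < 2 ^ a → ∀ χ ψ : IrrCharacter G,
        H23.pairC 2 (r ^ j) (bl M D f0 (r ^ j)) χ ψ =
          col (2 * 2 ^ a) ζ (m χ) j * conj (col (2 * 2 ^ a) ζ (m ψ) j) /
            ((2 * 2 ^ a : ℕ) : ℂ) := by
  classical
  haveI : Fintype C[r ^ 2 ^ (a - 1)] := Fintype.ofFinite _
  have hL := h.loc_rot (Subgroup.npow_mem_zpowers r _) h.y0_sq_ne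
  obtain ⟨hgs, hge⟩ := h.s_cj
  have hζ : IsPrimitiveRoot (Complex.exp (2 * Real.pi * Complex.I / (orderOf r : ℂ))) (orderOf r) :=
    Complex.isPrimitiveRoot_exp _ (orderOf_pos r).ne'
  obtain ⟨m, hsym, heps, hpair⟩ := hL.exists_cols hgs hge hζ
  refine ⟨_, m, by rw [← h.two_mul_q]; exact hζ, fun χ l hl => ?_, ?_, fun j hj1 hj χ ψ => ?_⟩
  · rw [← h.two_mul_q] at hl ⊢
    exact hsym χ l hl
  · intro hz χ l hl
    have := heps (by rw [h.y0_sq]; exact hz) χ l hl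
    rwa [h.y0_sq] at this
  · rw [hpair j _ (h.y0_mem (Subgroup.npow_mem_zpowers r j) (h.rot_sq_ne hj1 hj))
      (h.le_bl h.rD (Subgroup.npow_mem_zpowers r j)), h.two_mul_q]

/-- A rotation subsection has rank one. -/
theorem sum_rot (h : Quat M B D f0 r s a) {j : ℕ} (hj1 : 1 ≤ j) (hj : j < 2 ^ a) :
    ∑ χ ∈ H22.blockFinset B, H23.pairC 2 (r ^ j) (bl M D f0 (r ^ j)) χ χ = 1 := by
  haveI : Fintype C[r ^ j] := Fintype.ofFinite _
  exact (h.loc_rot (Subgroup.npow_mem_zpowers r j) (h.rot_sq_ne hj1 hj)).sum_pairC_eq_one h.hB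
    (h.bl_inBlk (pow_mem h.rD j))

/-- A character of height zero is odd at a local subsection. -/
theorem not_memIdeal_loc (h : Quat M B D f0 r s a) {u y0 x : G} {e f : (H20.k M)[G]}
    (hL : H12.QuatLocal.Loc4 M u y0 x e f)
    (hin : H23.InBlk (H23.eB M B) (Subgroup.zpowers u) f) {χ : IrrCharacter G} (hχ : χ ∈ B)
    (h0 : blockHeight 2 B (χ : G → ℂ) = 0) :
    ¬ MemLocalIdeal M ((orderOf x : ℂ) * H23.pairC 2 u f χ χ) := by
  classical
  haveI : Fact (Nat.Prime 2) := ⟨Nat.prime_two⟩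
  haveI : Fintype C[u] := Fintype.ofFinite _
  obtain ⟨bK, hb, hbe⟩ := hL.exists_bK
  have hf := hL.eB_eq_eG hbe
  have hd : (2 : ℕ) ^ blockDefect 2 bK = orderOf x := by
    rw [← hL.card_P, H20.card_defectGroup h.hM hb (H23.isDefectGroup_of_isMax hb (hL.isMax_K hbe))]
  obtain ⟨k, hk⟩ := hL.two
  obtain ⟨j, -, hj⟩ := (Nat.dvd_prime_pow Nat.prime_two).1
    (hk ▸ orderOf_dvd_of_mem_zpowers hL.ux : orderOf u ∣ 2 ^ k)
  have hind := H20.Klein.induced_of_inBlk h.hM h.hB ⟨j, hj⟩ hb (by rw [hf]; exact hin)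
  obtain ⟨S⟩ := H22.Contrib.exists_setup (p := 2) h.hM ⟨j, hj⟩ hind
  intro hI
  apply S.aval_not_memIdeal hχ hχ h0 h0
  rw [S.aval_one, ← Nat.cast_pow, hd]
  rw [← hf, H23.pairC_eq ⟨j, hj⟩ C[u] (H17.Major.centralizer_zpowers_eq u).symm hb] at hI
  exact hI

theorem memIdeal_pow_sub_one (h : Quat M B D f0 r s a) {ζ : ℂ}
    (hζ : IsPrimitiveRoot ζ (2 * 2 ^ a)) (k : ℕ) : MemLocalIdeal M (ζ ^ k - 1) := by
  haveI : Fact (Nat.Prime 2) := ⟨Nat.prime_two⟩
  refine H22.Contrib.memIdeal_sub_one_of_pow h.hM (n := a + 1) ?_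
  rw [← pow_mul, mul_comm, pow_mul, pow_succ', hζ.pow_eq_one, one_pow]

/-- The difference `m 0 - m q` is odd in height zero. -/
theorem odd_m (h : Quat M B D f0 r s a) {ζ : ℂ} {m : IrrCharacter G → ℕ → ℕ}
    (hζ : IsPrimitiveRoot ζ (2 * 2 ^ a)) (hsym : ∀ χ, H12.QuatCols.Sym (2 ^ a) (m χ))
    (hpair : ∀ j, 1 ≤ j → j < 2 ^ a → ∀ χ ψ : IrrCharacter G,
        H23.pairC 2 (r ^ j) (bl M D f0 (r ^ j)) χ ψ =
          col (2 * 2 ^ a) ζ (m χ) j * conj (col (2 * 2 ^ a) ζ (m ψ) j) /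
            ((2 * 2 ^ a : ℕ) : ℂ))
    {χ : IrrCharacter G} (hχ : χ ∈ B) (h0 : blockHeight 2 B (χ : G → ℂ) = 0) :
    ¬ (2 : ℤ) ∣ (m χ 0 : ℤ) - m χ (2 ^ a) := by
  haveI : Fact (Nat.Prime 2) := ⟨Nat.prime_two⟩
  intro hdvd
  have hy := h.not_memIdeal_loc (h.loc_rot (Subgroup.npow_mem_zpowers r _) h.y0_sq_ne)
    (h.bl_inBlk (pow_mem h.rD _)) hχ h0
  set y := 2 ^ (a - 1) with hyd
  have hy1 : 1 ≤ y := Nat.one_le_two_pow
  have hq := h.two_mul_h
  rw [hpair y hy1 (by omega), h.two_mul_q, mul_div_cancel₀ _ (Nat.cast_ne_zero.2 (by omega : 2 * 2 ^ a ≠ 0)),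
    H12.QuatCols.col_real (by omega) hζ (hsym χ)] at hy
  apply hy
  have h1 : MemLocalIdeal M (col (2 * 2 ^ a) ζ (m χ) y - col (2 * 2 ^ a) ζ (m χ) 0) := by
    unfold col
    rw [← sum_sub_distrib]
    refine Finset.sum_induction _ (MemLocalIdeal M) (fun _ _ => H20.memIdeal_add)
      H20.memIdeal_zero fun l _ => ?_
    rw [Nat.zero_mul, pow_zero, ← mul_sub]
    exact H20.memIdeal_mul (H20.memRing_natCast _) (h.memIdeal_pow_sub_one hζ _)
  have h2 : MemLocalIdeal M (col (2 * 2 ^ a) ζ (m χ) 0) := by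
    rw [H12.QuatCols.col_zero]
    refine (H20.natCast_memIdeal_iff h.hM _).2 ?_
    have he : (∑ l ∈ range (2 * 2 ^ a), (m χ l : ℤ)) = (m χ 0 : ℤ) + m χ (2 ^ a) +
        2 * ∑ l ∈ Ico 1 (2 ^ a), (m χ l : ℤ) := by
      rw [H12.QuatCols.sum_split (by omega) (fun l => (m χ l : ℤ)), mul_sum]
      congr 1
      refine sum_congr rfl fun l hl => ?_
      rw [Finset.mem_Ico] at hl
      rw [hsym χ l (by omega)]
      ring
    rw [← Int.natCast_dvd_natCast, Nat.cast_sum, he]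
    omega
  have h3 := H20.memIdeal_add h1 h2
  rw [sub_add_cancel] at h3
  have hR : MemLocalRing M (col (2 * 2 ^ a) ζ (m χ) y) := by
    unfold col
    refine H20.memRing_sum _ _ fun l _ => H20.memRing_mul (H20.memRing_natCast _) ?_
    exact H20.memRing_of_isIntegral ((hζ.isIntegral (by omega)).pow _)
  exact H20.memIdeal_mul hR h3

/-- The column at an element outside `⟨r⟩`. -/
theorem exists_out (h : Quat M B D f0 r s a) {w : G} (hw : Out M D f0 r w) :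
    ∃ c : IrrCharacter G → ℤ,
      (∀ χ ψ : IrrCharacter G, H23.pairC 2 w (bl M D f0 w) χ ψ = ((c χ * c ψ : ℤ) : ℂ) / 4) ∧
      ∑ χ ∈ H22.blockFinset B, c χ ^ 2 = 4 ∧
      (r ^ 2 ^ a ∈ Subgroup.center G → ∀ χ, c χ ≠ 0 →
        H19.MajorBound.eps (r ^ 2 ^ a) χ = 1) ∧
      ∀ χ ∈ B, blockHeight 2 B (χ : G → ℂ) = 0 → ¬ (2 : ℤ) ∣ c χ := by
  classical
  haveI : Fact (Nat.Prime 2) := ⟨Nat.prime_two⟩
  haveI : Fintype C[w] := Fintype.ofFinite _
  have hL := h.loc_out hw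
  have hw4 := h.orderOf_outside hw.1 hw.not_mem
  obtain ⟨hgs, hge⟩ := h.y0_cj hw.1 hw.not_mem
  have hI : IsPrimitiveRoot Complex.I (orderOf w) := by
    rw [hw4]
    exact IsPrimitiveRoot.iff_orderOf.2 (orderOf_eq_prime_pow (p := 2) (n := 1)
      (by rw [pow_one, Complex.I_sq]; norm_num) (by
        rw [show (2 : ℕ) ^ (1 + 1) = 2 * 2 by norm_num, pow_mul, Complex.I_sq]; norm_num))
  obtain ⟨m, hsym, heps, hpair⟩ := hL.exists_cols hgs hge hI
  set c : IrrCharacter G → ℤ := fun χ => (m χ 0 : ℤ) - m χ 2 with hc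
  have hcol : ∀ χ, col (orderOf w) Complex.I (m χ) 1 = (c χ : ℂ) := by
    intro χ
    have h31 : m χ 3 = m χ 1 := by
      have := hsym χ 1 (by omega)
      rwa [hw4] at this
    rw [hw4, H12.QuatLocal.Loc4.col]
    simp only [sum_range_succ, sum_range_zero, one_mul, pow_succ, pow_zero, Complex.I_mul_I, hc,
      h31]
    push_cast
    ring
  have hp : ∀ χ ψ : IrrCharacter G,
      H23.pairC 2 w (bl M D f0 w) χ ψ = ((c χ * c ψ : ℤ) : ℂ) / 4 := by
    intro χ ψ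
    have := hpair 1 (bl M D f0 w) (by rw [pow_one]; exact Subgroup.mem_zpowers w)
      (by rw [pow_one]; exact Relation.ReflTransGen.refl) χ ψ
    rw [pow_one, hcol, hcol, map_intCast, hw4] at this
    rw [this]
    push_cast
    ring
  refine ⟨c, hp, ?_, ?_, ?_⟩
  · have h1 := hL.sum_pairC_eq_one h.hB (h.bl_inBlk hw.1)
    simp only [hp, ← Finset.sum_div, div_eq_iff (by norm_num : (4 : ℂ) ≠ 0), one_mul] at h1
    have h2 : ((∑ χ ∈ H22.blockFinset B, c χ ^ 2 : ℤ) : ℂ) = ((4 : ℤ) : ℂ) := by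
      push_cast
      simpa [pow_two] using h1
    exact_mod_cast h2
  · intro hz χ hne
    have hzw : w * w = r ^ 2 ^ a := h.sq_eq_z hw.1 hw.not_mem
    rcases Nat.eq_zero_or_pos (m χ 0) with h0 | h0
    · have h2 : m χ 2 ≠ 0 := fun h2 => hne (by simp [hc, h0, h2])
      have := heps (hzw ▸ hz) χ 2 h2
      rwa [hzw, neg_one_sq] at this
    · have := heps (hzw ▸ hz) χ 0 h0.ne'
      rwa [hzw, pow_zero] at this
  · intro χ hχ h0 hdvd
    apply h.not_memIdeal_loc hL (h.bl_inBlk hw.1) hχ h0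
    rw [hp, hw4, Nat.cast_ofNat, mul_div_cancel₀ _ (by norm_num : (4 : ℂ) ≠ 0)]
    exact (H20.intCast_memIdeal_iff h.hM _).2 (dvd_mul_of_dvd_left hdvd _)

/-- The integral form at the central involution. -/
theorem exists_zform (h : Quat M B D f0 r s a) :
    ∃ (X : IrrCharacter G → IrrCharacter G → ℤ) (lz : ℕ), 1 ≤ lz ∧
      (∀ χ ψ : IrrCharacter G, (X χ ψ : ℂ) =
        ((4 * 2 ^ a : ℕ) : ℂ) * H23.pairC 2 (r ^ 2 ^ a) (bl M D f0 (r ^ 2 ^ a)) χ ψ) ∧
      (∀ χ ψ, X χ ψ = X ψ χ) ∧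
      (∀ χ, ∑ ψ ∈ H22.blockFinset B, X χ ψ ^ 2 = (4 * 2 ^ a : ℤ) * X χ χ) ∧
      (∀ χ ∈ B, 1 ≤ X χ χ) ∧
      (∀ χ ∈ B, 0 < blockHeight 2 B (χ : G → ℂ) →
        (2 : ℤ) ^ (blockHeight 2 B (χ : G → ℂ) + 1) ∣ X χ χ) ∧
      ∑ χ ∈ H22.blockFinset B, X χ χ = (4 * 2 ^ a : ℤ) * lz := by
  classical
  haveI : Fact (Nat.Prime 2) := ⟨Nat.prime_two⟩
  set z := r ^ 2 ^ a with hz
  haveI : Fintype C[z] := Fintype.ofFinite _
  have hzD : z ∈ D := pow_mem h.rD _
  have hDC : D ≤ C[z] := fun d hd => Subgroup.mem_centralizer_singleton_iff.2 (h.z_central hd)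
  obtain ⟨b, hb, hbf⟩ := H20.Klein.exists_block ((h.bl_le hzD).pair_left 2 h.hmax.1)
  simp only at hbf
  have hle : H23.Le 2 (Subgroup.zpowers z, H23.eG M C[z] b) (D, f0) := hbf ▸ h.bl_le hzD
  have hd : blockDefect 2 b = a + 2 := by
    have hCeq := H17.Major.centralizer_zpowers_eq z
    have hf := hle.pair_left 2 h.hmax.1
    have hm' := H17.Major.maxIn_of_max h.hB h.hmax hle (hDC.trans hCeq.ge)
    rw [hCeq] at hm'
    have hl : H23.LocMax 2 (Subgroup.zpowers z) (H23.eG M C[z] b) C[z] D f0 :=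
      ⟨hf, (hle.le 2).trans hDC, hCeq.le, hCeq.ge.trans (H23.centralizer_le_stab 2 hf), hm', hle⟩
    have h1 := H20.card_defectGroup h.hM hb (H23.isDefectGroup_locMax h.hM hl hb rfl)
    rw [H23.card_subgroupOf hDC, h.card_D.1] at h1
    exact (Nat.pow_right_injective le_rfl h1).symm
  have hz2 : z ^ 2 = 1 := by rw [pow_two]; exact h.z_sq
  have hord : ∃ j : ℕ, orderOf z = 2 ^ j := h.exists_orderOf hzD
  have hind := H20.Klein.induced_of_inBlk h.hM h.hB hord hb (hbf ▸ h.bl_inBlk hzD)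
  obtain ⟨zb, hzb, hzbm⟩ := H22.exists_isDeltaMatrix (p := 2) h.hM hind.1
  obtain ⟨κ, hκR, hκI, hκ⟩ :=
    H22.exists_congr_const h.hM hind.1 (H22.weakOrth_of_block h.hM hind.1)
  let S : H22.Contrib.Setup 2 M z B b :=
    ⟨h.hM, h.hB, hind, 0, by rw [pow_zero, one_mul, hz2], -1, by
      rw [pow_zero, one_mul]; exact IsPrimitiveRoot.neg_one 0 (by norm_num),
      zb, hzb, hzbm, κ, hκR, hκI, hκ⟩
  have hdB : blockDefect 2 b = blockDefect 2 B := hd.trans h.card_D.2.symm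
  have hpair : ∀ χ ψ, S.aval 1 χ ψ = ((4 * 2 ^ a : ℕ) : ℂ) *
      H23.pairC 2 z (bl M D f0 z) χ ψ := by
    intro χ ψ
    rw [S.aval_one, ← hbf,
      H23.pairC_eq hord C[z] (H17.Major.centralizer_zpowers_eq z).symm hb, hd, pow_add]
    push_cast
    rw [mul_comm ((2 : ℂ) ^ a), show (2 : ℂ) ^ 2 = 4 by norm_num]
    rfl
  have hint : ∀ χ ψ : IrrCharacter G, ∃ n : ℤ, S.aval 1 χ ψ = (n : ℂ) := fun χ ψ =>
    ⟨∑ t ∈ range S.N, S.wvec χ ψ t * (-1) ^ t, by
      rw [H22.Contrib.Setup.aval_eq_wvec]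
      push_cast
      exact sum_congr rfl fun t _ => by rw [one_mul]⟩
  choose X hX using hint
  have hunits : H22.Cyc.units 2 S.N = {1} := by
    show (range (2 ^ 0 * 2)).filter (fun k => ¬ 2 ∣ k) = {1}
    decide
  have haS : ∀ χ, S.aSum χ = X χ χ := by
    intro χ
    have h' := S.sum_units_aval χ
    rw [hunits, sum_singleton, hX] at h'
    have h'' : ((X χ χ : ℤ) : ℂ) = ((S.aSum χ : ℤ) : ℂ) := by simpa [show S.j = 0 from rfl] using h'
    exact_mod_cast h''.symm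
  have hsq : ∀ χ ψ, S.sqSum χ ψ = X χ ψ ^ 2 := by
    intro χ ψ
    have h' := S.sum_units_normSq χ ψ
    rw [hunits, sum_singleton, hX, map_intCast] at h'
    have h'' : ((X χ ψ * X χ ψ : ℤ) : ℂ) = ((S.sqSum χ ψ : ℤ) : ℂ) := by
      push_cast
      simpa [show S.j = 0 from rfl] using h'
    rw [pow_two]
    exact_mod_cast h''.symm
  refine ⟨X, blockRank 2 b, H19.CentralRank.one_le_blockRank (H20.block_nonempty hb),
    fun χ ψ => (hX χ ψ).symm.trans (hpair χ ψ), fun χ ψ => ?_, fun χ => ?_, fun χ hχ => ?_,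
    fun χ hχ hpos => ?_, ?_⟩
  · have h1 : ((X ψ χ : ℤ) : ℂ) = ((X χ ψ : ℤ) : ℂ) := by
      rw [← hX, hpair, pairC_swap, ← map_natCast conj (4 * 2 ^ a), ← map_mul, ← hpair, hX,
        map_intCast]
    exact_mod_cast h1.symm
  · have h' := S.sum_sqSum χ
    simp only [hsq, haS, hd] at h'
    rw [h', pow_add]
    push_cast
    ring
  · have h1 := H19.StarSums.nrm_pos h.hM hord hind hdB hχ
    have h2 : ((X χ χ : ℤ) : ℂ) = ((2 ^ (a + 2) * H19.StarSums.nrm 2 z b χ : ℝ) : ℂ) := by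
      rw [← hX, S.aval_one, H19.StarSums.classInner_part_self, hd]
      push_cast
      rfl
    have h3 : (0 : ℝ) < (X χ χ : ℝ) := by
      have h4 : (X χ χ : ℝ) = 2 ^ (a + 2) * H19.StarSums.nrm 2 z b χ := by exact_mod_cast h2
      rw [h4]
      positivity
    exact_mod_cast h3
  · obtain ⟨ρ, hρ, he, hρI⟩ := S.exists_aval_eq_pow_mul hdB hχ χ
    set t := blockHeight 2 B (χ : G → ℂ) with ht
    rw [hX, Nat.cast_ofNat] at he
    have h2t : (2 : ℂ) ^ t ≠ 0 := pow_ne_zero _ two_ne_zero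
    obtain ⟨c, hc⟩ : (2 : ℤ) ^ t ∣ X χ χ := by
      have := H22.pow_dvd_of_memRing_int (p := 2) h.hM (z := X χ χ) (j := t) (by
        rw [he, Nat.cast_ofNat, mul_div_cancel_left₀ _ h2t]; exact hρ)
      exact_mod_cast this
    have hcρ : (c : ℂ) = ρ := by
      rw [hc] at he
      push_cast at he
      exact mul_left_cancel₀ h2t he
    have h2c : ((2 : ℕ) : ℤ) ∣ c := (H20.intCast_memIdeal_iff h.hM _).1 (hcρ ▸ hρI rfl hpos)
    rw [hc, pow_succ]
    exact mul_dvd_mul_left _ (by exact_mod_cast h2c)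
  · have h1 := H12.SubsecFam.sum_pairC_self h.hM h.hB hord hb (by rw [hbf]; exact h.bl_inBlk hzD)
    rw [hbf] at h1
    apply Int.cast_injective (α := ℂ)
    rw [Int.cast_sum, sum_congr rfl fun χ _ => (hX χ χ).symm.trans (hpair χ χ), ← mul_sum, h1]
    push_cast
    ring

/-- The generalised character on `D` used to compare `1` and `z`. -/
theorem exists_lamD (h : Quat M B D f0 r s a) {ζ : ℂ} (hζ : IsPrimitiveRoot ζ (2 * 2 ^ a)) :
    ∃ lam : G → ℂ, IsGeneralizedCharacter D (fun y : D => lam (y : G)) ∧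
      (∀ j : ℕ, lam (r ^ j) = ζ ^ j + (ζ ^ j)⁻¹) ∧
      ∀ d, d ∉ Subgroup.zpowers r → lam d = 0 := by
  classical
  haveI : Fintype D := Fintype.ofFinite _
  set R := (Subgroup.zpowers r).subgroupOf D with hR
  set X : R := ⟨⟨r, h.rD⟩, Subgroup.mem_subgroupOf.2 (Subgroup.mem_zpowers r)⟩ with hXd
  have hX : ∀ c, c ∈ Subgroup.zpowers X := by
    rintro ⟨⟨c, hc⟩, hc'⟩
    obtain ⟨i, hi⟩ := Subgroup.mem_zpowers_iff.1 (Subgroup.mem_subgroupOf.1 hc')
    exact ⟨i, Subtype.ext (Subtype.ext (by simpa [X] using hi))⟩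
  have hord : orderOf X = orderOf r := by rw [← Subgroup.orderOf_coe, ← Subgroup.orderOf_coe]
  obtain ⟨ζu, hζu⟩ : IsUnit ζ := hζ.isUnit (by positivity)
  have hd : orderOf ζu ∣ orderOf X := by
    rw [hord, h.two_mul_q, ← orderOf_units, hζu, hζ.eq_orderOf]
  set l := monoidHomOfForallMemZpowers hX hd with hl
  set θ : R → ℂ := fun c => (l c : ℂ) with hθ
  refine ⟨extendByZero D (indFun R θ), ?_, ?_, ?_⟩
  · have e : (fun y : D => extendByZero D (indFun R θ) (y : G)) = indFun R θ :=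
      funext fun y => H12.extendByZero_coe D _ y
    rw [e]
    exact H12.IsGeneralizedCharacter.indFun
      ⟨θ, 0, H12.isCharacter_monoidHom l, H12.isCharacter_zero, by simp [hθ]⟩
  · intro j
    rw [H12.extendByZero_mk D _ (pow_mem h.rD j), H12.indFun_apply]
    have hval : ∀ (d : D) (k : ℕ), (d : G) = r ^ k → extendByZero R θ d = ζ ^ k := by
      intro d k hk
      have hd' : d ∈ R := Subgroup.mem_subgroupOf.2 (hk ▸ Subgroup.npow_mem_zpowers r k)
      rw [H12.extendByZero_mk R θ hd', show (⟨d, hd'⟩ : R) = X ^ k from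
        Subtype.ext (Subtype.ext (by simp [X, hk])), hθ]
      simp only [map_pow, hl, monoidHomOfForallMemZpowers_apply_gen, Units.val_pow_eq_pow_val, hζu]
    have hjN : j % (2 * 2 ^ a) ≤ 2 * 2 ^ a := (Nat.mod_lt _ (by positivity)).le
    have hx : ∀ x : D, extendByZero R θ (x⁻¹ * ⟨r ^ j, pow_mem h.rD j⟩ * x) =
        if x ∈ R then ζ ^ j else (ζ ^ j)⁻¹ := by
      intro x
      have hc := h.conj_cases (inv_mem x.2) (Subgroup.npow_mem_zpowers r j)
      rw [inv_inv] at hc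
      split_ifs with hxR
      · exact hval _ j (hc.1 (inv_mem (Subgroup.mem_subgroupOf.1 hxR)))
      · rw [hval _ (2 * 2 ^ a - j % (2 * 2 ^ a))]
        · refine eq_inv_of_mul_eq_one_left ?_
          rw [← Nat.div_add_mod j (2 * 2 ^ a), pow_add, pow_mul, hζ.pow_eq_one, one_pow, one_mul,
            Nat.mul_add_mod, Nat.mod_mod, ← pow_add, Nat.sub_add_cancel hjN, hζ.pow_eq_one]
        · show (x : G)⁻¹ * r ^ j * (x : G) = _
          rw [hc.2 (fun e => hxR (Subgroup.mem_subgroupOf.2 (by simpa using inv_mem e)))]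
          refine inv_eq_of_mul_eq_one_left ?_
          have hr1 : r ^ (2 * 2 ^ a) = 1 := by rw [← h.two_mul_q, pow_orderOf_eq_one]
          rw [← Nat.div_add_mod j (2 * 2 ^ a), pow_add, pow_mul, hr1, one_pow, one_mul,
            Nat.mul_add_mod, Nat.mod_mod, ← pow_add, Nat.sub_add_cancel hjN, hr1]
    rw [sum_congr rfl fun x _ => hx x, sum_ite, sum_const, sum_const, nsmul_eq_mul, nsmul_eq_mul]
    have hcR : (univ.filter (fun x : D => x ∈ R)).card = Nat.card R := by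
      rw [Nat.card_eq_fintype_card, Fintype.card_subtype]
    have hcR' : (univ.filter (fun x : D => ¬ x ∈ R)).card = Nat.card R := by
      have h1 := Finset.card_filter_add_card_filter_not (s := (univ : Finset D)) (fun x : D => x ∈ R)
      rw [hcR, card_univ, ← Nat.card_eq_fintype_card, h.card_D.1] at h1
      have h2 : Nat.card R = 2 ^ (a + 1) := by
        rw [hR, H23.card_subgroupOf h.zpowers_le, Nat.card_zpowers, h.hord]
      rw [h2, pow_succ 2 (a + 1)] at h1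
      omega
    rw [hcR, hcR', mul_add, ← mul_assoc, ← mul_assoc,
      inv_mul_cancel₀ (Nat.cast_ne_zero.2 Nat.card_pos.ne'), one_mul, one_mul]
  · intro d hd
    by_cases hdD : d ∈ D
    · rw [H12.extendByZero_mk D _ hdD, H12.indFun_apply, sum_eq_zero, mul_zero]
      intro x _
      refine H12.extendByZero_of_notMem R θ fun e => hd ?_
      have e' : (x : G)⁻¹ * d * (x : G) ∈ Subgroup.zpowers r := Subgroup.mem_subgroupOf.1 e
      have h1 : (x : G) * ((x : G)⁻¹ * d * (x : G)) * (x : G)⁻¹ = d := by group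
      rw [← h1]
      rcases h.conj_or x.2 e' with e2 | e2 <;> rw [e2]
      · exact e'
      · exact inv_mem e'
    · exact H12.extendByZero_of_notMem D _ hdD

theorem lam_inv (h : Quat M B D f0 r s a) {lam : G → ℂ} {ζ : ℂ}
    (hζ : IsPrimitiveRoot ζ (2 * 2 ^ a)) (hlr : ∀ j : ℕ, lam (r ^ j) = ζ ^ j + (ζ ^ j)⁻¹) {c : G}
    (hc : c ∈ Subgroup.zpowers r) : lam c⁻¹ = lam c := by
  classical
  obtain ⟨i, hi, rfl⟩ := Finset.mem_image.1
    (show c ∈ (Finset.range (orderOf r)).image (r ^ ·) from mem_zpowers_iff_mem_range_orderOf.1 hc)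
  rw [h.two_mul_q, Finset.mem_range] at hi
  have h1 : (r ^ i)⁻¹ = r ^ (2 * 2 ^ a - i) := by
    refine inv_eq_of_mul_eq_one_right ?_
    rw [← pow_add, Nat.add_sub_cancel' hi.le, ← h.two_mul_q, pow_orderOf_eq_one]
  have h2 : ζ ^ (2 * 2 ^ a - i) = (ζ ^ i)⁻¹ := by
    refine (inv_eq_of_mul_eq_one_right ?_).symm
    rw [← pow_add, Nat.add_sub_cancel' hi.le, hζ.pow_eq_one]
  rw [h1, hlr, hlr, h2, inv_inv, add_comm]

theorem lam_zero_of_order_four (h : Quat M B D f0 r s a) {lam : G → ℂ} {ζ : ℂ}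
    (hζ : IsPrimitiveRoot ζ (2 * 2 ^ a)) (hlr : ∀ j : ℕ, lam (r ^ j) = ζ ^ j + (ζ ^ j)⁻¹) {c : G}
    (hc : c ∈ Subgroup.zpowers r) (h4 : orderOf c = 4) : lam c = 0 := by
  have hy : c ∈ Subgroup.zpowers (r ^ 2 ^ (a - 1)) :=
    H12.QuatLocal.mem_zpowers_of_dvd hc (Subgroup.npow_mem_zpowers r _) (by rw [h4, h.orderOf_y0])
  have h0 : lam (r ^ 2 ^ (a - 1)) = 0 := by
    rw [hlr]
    set i := ζ ^ 2 ^ (a - 1) with hi
    have h2 : i * i = -1 := by
      rw [hi, ← pow_add, ← two_mul, ← h.two_mul_h]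
      exact H12.QuatCols.pow_q Nat.one_le_two_pow hζ
    rw [inv_eq_of_mul_eq_one_right (show i * -i = 1 by rw [mul_neg, h2, neg_neg]), add_neg_cancel]
  rcases four_cases h.orderOf_y0 hy h4 with rfl | rfl
  · exact h0
  · rw [h.lam_inv hζ hlr (Subgroup.npow_mem_zpowers r _), h0]

/-- **Comparison of the forms at `1` and at `z`.** -/
theorem exists_int_lam (h : Quat M B D f0 r s a) {u : ℕ} {w : Fin u → G}
    (hout : ∀ i, Out M D f0 r (w i))
    (hF : H12.SubsecFam.Fam (M := M) 2 B (reps r a w) (fun i => bl M D f0 (reps r a w i)))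
    {ζ : ℂ} (hζ : IsPrimitiveRoot ζ (2 * 2 ^ a)) {χ : IrrCharacter G} (hχ : χ ∈ B)
    (ψ : IrrCharacter G) :
    ∃ n : ℤ, 2 * H12.SubsecFam.reg0 M 2 B χ ψ -
        2 * H23.pairC 2 (r ^ 2 ^ a) (bl M D f0 (r ^ 2 ^ a)) χ ψ +
        ∑ j ∈ Ico 1 (2 ^ a), (ζ ^ j + ζ ^ (2 * 2 ^ a - j)) *
          H23.pairC 2 (r ^ j) (bl M D f0 (r ^ j)) χ ψ = (n : ℂ) := by
  classical
  haveI : Fact (Nat.Prime 2) := ⟨Nat.prime_two⟩
  obtain ⟨lam, hgen, hlr, hl0⟩ := h.exists_lamD hζ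
  have hst : H23.Stable 2 D f0 lam := by
    intro y hy g b h1 h2
    have hy' : g * y * g⁻¹ ∈ D := h2.le 2 (Subgroup.mem_zpowers _)
    have hf : Fused M D f0 y (g * y * g⁻¹) := ⟨g, rfl, by rw [h.bl_eq h1, h.bl_eq h2]⟩
    have hord : orderOf (g * y * g⁻¹) = orderOf y := by rw [← MulAut.conj_apply, MulEquiv.orderOf_eq]
    by_cases hn : y ∈ Subgroup.zpowers r <;> by_cases hn' : g * y * g⁻¹ ∈ Subgroup.zpowers r
    · rcases h.fused_pow hn hn' hf with e | e <;> rw [e]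
      exact h.lam_inv hζ hlr hn
    · rw [hl0 _ hn', h.lam_zero_of_order_four hζ hlr hn (hord ▸ h.orderOf_outside hy' hn')]
    · rw [hl0 _ hn, h.lam_zero_of_order_four hζ hlr hn' (hord.trans (h.orderOf_outside hy hn))]
    · rw [hl0 _ hn, hl0 _ hn']
  have hinv := H23.hInv_hStar hst
  obtain ⟨n, hn⟩ := H14.IsGeneralizedCharacter.classInner_int
    (H23.isGeneralizedCharacter_starFn h.hM hinv (H23.hLocal_hStar h.hB h.hmax hst hgen) χ)
    (H12.isCharacter_irr ψ)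
  rw [H12.SubsecFam.inner_star hF h.hM h.hB hinv hχ ψ] at hn
  refine ⟨n, ?_⟩
  rw [← hn]
  have h1 : H23.hStar 2 D f0 lam 1 (H23.eB M B) = 2 := by
    have h1D : (1 : G) ∈ D := one_mem D
    rw [← H12.SubsecFam.eq_eB_of_one h.hB (h.bl_mem h1D) (h.bl_inBlk h1D),
      H23.hStar_below hst (h.bl_le h1D), show lam 1 = lam (r ^ 0) by rw [pow_zero], hlr, pow_zero,
      inv_one]
    norm_num
  rw [h1, Fintype.sum_sum_type, Fintype.sum_sum_type]
  simp only [reps, Sum.elim_inl, Sum.elim_inr, Fintype.sum_unique]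
  have hz : H23.hStar 2 D f0 lam (r ^ 2 ^ a) (bl M D f0 (r ^ 2 ^ a)) = -2 := by
    rw [H23.hStar_below hst (h.bl_le (pow_mem h.rD _)), hlr,
      H12.QuatCols.pow_q Nat.one_le_two_pow hζ, inv_neg, inv_one]
    norm_num
  have hw : ∀ i, H23.hStar 2 D f0 lam (w i) (bl M D f0 (w i)) = 0 := fun i => by
    rw [H23.hStar_below hst (h.bl_le (hout i).1), hl0 _ (hout i).not_mem]
  rw [hz, show ∑ i, H23.hStar 2 D f0 lam (w i) (bl M D f0 (w i)) *
      H23.pairC 2 (w i) (bl M D f0 (w i)) χ ψ = 0 from sum_eq_zero fun i _ => by rw [hw i, zero_mul],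
    add_zero,
    Fin.sum_univ_eq_sum_range (fun i => H23.hStar 2 D f0 lam (r ^ (i + 1))
      (bl M D f0 (r ^ (i + 1))) * H23.pairC 2 (r ^ (i + 1)) (bl M D f0 (r ^ (i + 1))) χ ψ),
    sum_Ico_eq_sum_range]
  have hsum : ∀ i ∈ range (2 ^ a - 1),
      H23.hStar 2 D f0 lam (r ^ (i + 1)) (bl M D f0 (r ^ (i + 1))) *
        H23.pairC 2 (r ^ (i + 1)) (bl M D f0 (r ^ (i + 1))) χ ψ =
      (ζ ^ (1 + i) + ζ ^ (2 * 2 ^ a - (1 + i))) *
        H23.pairC 2 (r ^ (1 + i)) (bl M D f0 (r ^ (1 + i))) χ ψ := by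
    intro i hi
    rw [Finset.mem_range] at hi
    rw [H23.hStar_below hst (h.bl_le (pow_mem h.rD _)), hlr, add_comm i 1]
    congr 2
    refine inv_eq_of_mul_eq_one_right ?_
    rw [← pow_add, Nat.add_sub_cancel' (by omega), hζ.pow_eq_one]
  rw [sum_congr rfl hsum]
  ring

/-- **Orthogonality relations** through the family of representatives. -/
theorem delta_reps (h : Quat M B D f0 r s a) {u : ℕ} {w : Fin u → G}
    (hF : H12.SubsecFam.Fam (M := M) 2 B (reps r a w) (fun i => bl M D f0 (reps r a w i)))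
    {χ : IrrCharacter G} (hχ : χ ∈ B) (ψ : IrrCharacter G) :
    classInner (χ : G → ℂ) (ψ : G → ℂ) = H12.SubsecFam.reg0 M 2 B χ ψ +
      (∑ j ∈ Ico 1 (2 ^ a), H23.pairC 2 (r ^ j) (bl M D f0 (r ^ j)) χ ψ) +
      H23.pairC 2 (r ^ 2 ^ a) (bl M D f0 (r ^ 2 ^ a)) χ ψ +
      ∑ i, H23.pairC 2 (w i) (bl M D f0 (w i)) χ ψ := by
  rw [H12.SubsecFam.delta_eq hF h.hM h.hB hχ ψ, Fintype.sum_sum_type, Fintype.sum_sum_type]
  simp only [reps, Sum.elim_inl, Sum.elim_inr, Fintype.sum_unique]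
  rw [Fin.sum_univ_eq_sum_range (fun i => H23.pairC 2 (r ^ (i + 1)) (bl M D f0 (r ^ (i + 1))) χ ψ),
    sum_Ico_eq_sum_range, sum_congr rfl fun i _ => by rw [add_comm i 1]]
  ring

end H12.QuatBasic.Quat
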