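import Cfsg.Agent.H20.FreeAbelian.Lattice
import Cfsg.Agent.H20.FreeAbelian.Pairs
import Cfsg.Agent.H19.StarSums
import Cfsg.Agent.H19.RegularSpan
import Cfsg.Agent.H20.KleinDefect

/-!
# Inner products through a family of representatives of the subsections of a block

For representatives `(x i, f i)` of the nontrivial subsections of a block `B`, the inner product
of a character of `B` with any character is the sum of the pairings on the regular elements and
on the sections of the representatives.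
-/

set_option autoImplicit false
set_option linter.unusedSectionVars false
set_option linter.style.haveILetI false

open Cfsg Finset
open scoped MonoidAlgebra ComplexConjugate

namespace H12.SubsecFam

universe u

variable {G : Type u} [Group G] [Fintype G] {p : ℕ} [hp : Fact p.Prime] {M : Ideal AlgInt}
  [hMp : M.IsPrime] [CharP (H20.k M) p] [IsAlgClosed (H20.k M)]

local notation "kG" => MonoidAlgebra (H20.k M) G
local notation "C[" x "]" => (Subgroup.centralizer ({x} : Set _))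

/-- The order of the centralizer of `u`. -/
noncomputable abbrev ord (u : G) : ℂ :=
  (Nat.card (Subgroup.centralizer (Subgroup.zpowers u : Set G)) : ℂ)

theorem ord_ne_zero (u : G) : ord u ≠ 0 := Nat.cast_ne_zero.2 Nat.card_pos.ne'

theorem ord_conj (g u : G) : ord (g * u * g⁻¹) = ord u := by
  rw [ord, ord, ← H23.cjS_zpowers, ← H23.cjS_centralizer, H23.card_cjS]

theorem ord_one : ord (1 : G) = (Nat.card G : ℂ) := by
  rw [ord]
  congr 1
  rw [Subgroup.zpowers_one_eq_bot, H23.centralizer_bot_eq_top]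
  exact Nat.card_congr Subgroup.topEquiv.toEquiv

/-- Representatives of the nontrivial subsections of `B`. -/
structure Fam (p : ℕ) (B : Set (IrrCharacter G)) {ι : Type*} (x : ι → G)
    (f : ι → MonoidAlgebra (H20.k M) G) : Prop where
  pow : ∀ i, ∃ j : ℕ, orderOf (x i) = p ^ j
  ne_one : ∀ i, x i ≠ 1
  mem : ∀ i, f i ∈ H23.Bls M (x i)
  inb : ∀ i, H23.InBlk (H23.eB M B) (Subgroup.zpowers (x i)) (f i)
  inj : ∀ i j (g : G), g * x i * g⁻¹ = x j → H23.cj g (f i) = f j → i = j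
  cover : ∀ u : G, (∃ j : ℕ, orderOf u = p ^ j) → u ≠ 1 → ∀ b ∈ H23.Bls M u,
    H23.InBlk (H23.eB M B) (Subgroup.zpowers u) b →
      ∃ i g, g * x i * g⁻¹ = u ∧ H23.cj g (f i) = b

variable {B : Set (IrrCharacter G)} {ι : Type*} [Fintype ι] {x : ι → G} {f : ι → MonoidAlgebra (H20.k M) G}

theorem eB_mem_Bls (hB : IsPBlock M B) : H23.eB M B ∈ H23.Bls M (1 : G) := by
  rw [H23.mem_Bls, Subgroup.zpowers_one_eq_bot, H23.centralizer_bot_eq_top]
  exact H23.isBlk_eB hB

theorem inBlk_one (hB : IsPBlock M B) :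
    H23.InBlk (H23.eB M B) (Subgroup.zpowers (1 : G)) (H23.eB M B) := by
  show _ * H23.Br _ _ = _
  rw [H23.Br_eq_self ((H23.mem_Bls.1 (eB_mem_Bls hB)).cidem.supp), (H23.cidem_eB hB).idem]

theorem eq_eB_of_one (hB : IsPBlock M B) {b : kG} (hb : b ∈ H23.Bls M (1 : G))
    (hin : H23.InBlk (H23.eB M B) (Subgroup.zpowers (1 : G)) b) : b = H23.eB M B := by
  refine (H23.mem_Bls.1 hb).eq_of_mul_ne_zero (H23.mem_Bls.1 (eB_mem_Bls hB)) ?_
  have h : b * H23.Br (Subgroup.zpowers (1 : G)) (H23.eB M B) = b := hin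
  rw [H23.Br_eq_self ((H23.mem_Bls.1 (eB_mem_Bls hB)).cidem.supp)] at h
  rw [h]
  exact (H23.mem_Bls.1 hb).ne_zero

/-- **A sum over the pairs of a block** through representatives. -/
theorem sum_pairs (h : Fam (M := M) p B x f) (hB : IsPBlock M B) (Φ : G → kG → ℂ) (hΦ : H23.HInv Φ)
    (h0 : ∀ u : G, (∃ j : ℕ, orderOf u = p ^ j) → ∀ b ∈ H23.Bls M u,
      ¬ H23.InBlk (H23.eB M B) (Subgroup.zpowers u) b → Φ u b = 0) :
    open Classical in
    ∑ u ∈ univ.filter (fun u : G => ∃ j : ℕ, orderOf u = p ^ j), ∑ b ∈ H23.Bls M u, Φ u b =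
      Φ 1 (H23.eB M B) + ∑ i, (Nat.card G : ℂ) * ((ord (x i))⁻¹ * Φ (x i) (f i)) := by
  classical
  set U := univ.filter (fun u : G => ∃ j : ℕ, orderOf u = p ^ j) with hU
  have h1U : (1 : G) ∈ U := mem_filter.2 ⟨mem_univ _, 0, by simp⟩
  rw [← add_sum_erase _ _ h1U, sum_eq_single_of_mem (H23.eB M B) (eB_mem_Bls hB) (fun b hb hne =>
    h0 1 ⟨0, by simp⟩ b hb fun hin => hne (eq_eB_of_one hB hb hin))]
  congr 1
  let S : Finset (Σ _ : G, kG) := (U.erase 1).sigma fun u =>
    (H23.Bls M u).filter fun b => H23.InBlk (H23.eB M B) (Subgroup.zpowers u) b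
  have hS : ∑ u ∈ U.erase 1, ∑ b ∈ H23.Bls M u, Φ u b = ∑ q ∈ S, Φ q.1 q.2 := by
    rw [sum_sigma]
    refine sum_congr rfl fun u hu => (sum_filter_of_ne fun b hb hne => ?_).symm
    by_contra hn
    exact hne (h0 u (mem_filter.1 (mem_erase.1 hu).2).2 b hb hn)
  let pr : ι × G → (Σ _ : G, kG) := fun q => ⟨q.2 * x q.1 * q.2⁻¹, H23.cj q.2 (f q.1)⟩
  have hmaps : ∀ q ∈ (univ : Finset (ι × G)), pr q ∈ S := by
    intro q _
    simp only [S, pr, U, mem_sigma, mem_filter, mem_erase, mem_univ, true_and]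
    refine ⟨⟨fun e => h.ne_one q.1 ?_, ?_⟩, H23.cj_mem_Bls (h.mem q.1) q.2, ?_⟩
    · calc x q.1 = q.2⁻¹ * (q.2 * x q.1 * q.2⁻¹) * q.2 := by group
        _ = 1 := by rw [e]; group
    · obtain ⟨j, hj⟩ := h.pow q.1
      exact ⟨j, by rw [← MulAut.conj_apply, MulEquiv.orderOf_eq, hj]⟩
    · rw [← H23.cjS_zpowers]
      exact H23.inBlk_cj (H23.cidem_eB hB).fix (h.inb q.1) q.2
  have hfib : ∀ s ∈ S, ∑ q ∈ univ.filter (fun q : ι × G => pr q = s), (ord (x q.1))⁻¹ = 1 := by
    rintro ⟨u, b⟩ hs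
    simp only [S, U, mem_sigma, mem_filter, mem_erase, mem_univ, true_and] at hs
    obtain ⟨⟨hu1, hu⟩, hb, hin⟩ := hs
    obtain ⟨i0, g0, hg0, hgb⟩ := h.cover u hu hu1 b hb hin
    have hmemH : ∀ c : G, c ∈ Subgroup.centralizer (Subgroup.zpowers (x i0) : Set G) ↔
        c * x i0 = x i0 * c := fun c => by
      rw [H23.centralizer_zpowers, Subgroup.mem_centralizer_singleton_iff]
    have hset : univ.filter (fun q : ι × G => pr q = ⟨u, b⟩) =
        (univ : Finset (Subgroup.centralizer (Subgroup.zpowers (x i0) : Set G))).image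
          (fun c : Subgroup.centralizer (Subgroup.zpowers (x i0) : Set G) => (i0, g0 * (c : G))) := by
      ext ⟨i, g⟩
      simp only [mem_filter, mem_univ, true_and, mem_image, pr, Prod.mk.injEq, Sigma.mk.injEq,
        heq_eq_eq]
      constructor
      · rintro ⟨h1, h2⟩
        have e1 : g0⁻¹ * g * x i * (g0⁻¹ * g)⁻¹ = x i0 := by
          calc g0⁻¹ * g * x i * (g0⁻¹ * g)⁻¹ = g0⁻¹ * (g * x i * g⁻¹) * g0 := by group
            _ = x i0 := by rw [h1, ← hg0]; group
        have e2 : H23.cj (g0⁻¹ * g) (f i) = f i0 := by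
          rw [← H23.cj_cj, h2, ← hgb, H23.cj_inv_cancel]
        obtain rfl := h.inj i i0 _ e1 e2
        refine ⟨⟨g0⁻¹ * g, ?_⟩, rfl, mul_inv_cancel_left g0 g⟩
        exact (hmemH _).2 (mul_inv_eq_iff_eq_mul.1 e1)
      · rintro ⟨⟨c, hc⟩, rfl, rfl⟩
        have hc' := (hmemH c).1 hc
        refine ⟨?_, ?_⟩
        · rw [← hg0]
          calc g0 * c * x i0 * (g0 * c)⁻¹ = g0 * (c * x i0 * c⁻¹) * g0⁻¹ := by group
            _ = _ := by rw [hc', mul_inv_cancel_right]
        · rw [← H23.cj_cj, H23.isFix_iff_cj.1 (H23.mem_Bls.1 (h.mem i0)).cidem.fix c hc, hgb]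
    rw [hset, sum_image (fun c _ d _ hcd => Subtype.ext (mul_left_cancel (congrArg Prod.snd hcd)))]
    simp only
    rw [sum_const, card_univ, nsmul_eq_mul, ← Nat.card_eq_fintype_card]
    exact mul_inv_cancel₀ (ord_ne_zero _)
  rw [hS]
  calc ∑ q ∈ S, Φ q.1 q.2
      = ∑ s ∈ S, ∑ q ∈ univ.filter (fun q : ι × G => pr q = s), (ord (x q.1))⁻¹ * Φ s.1 s.2 :=
        sum_congr rfl fun s hs => by rw [← sum_mul, hfib s hs, one_mul]
    _ = ∑ q : ι × G, (ord (x q.1))⁻¹ * Φ (x q.1) (f q.1) := by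
        rw [← sum_fiberwise_of_maps_to hmaps fun q : ι × G => (ord (x q.1))⁻¹ * Φ (x q.1) (f q.1)]
        refine sum_congr rfl fun s _ => sum_congr rfl fun q hq => ?_
        rw [← (mem_filter.1 hq).2]
        simp only [pr]
        rw [hΦ]
    _ = _ := by
        rw [Fintype.sum_prod_type]
        refine sum_congr rfl fun i _ => ?_
        simp only
        rw [sum_const, card_univ, nsmul_eq_mul, Nat.card_eq_fintype_card]

/-- The pairing on the regular elements. -/
noncomputable abbrev reg0 (M : Ideal AlgInt) [M.IsPrime] (p : ℕ) (B : Set (IrrCharacter G))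
    (χ ψ : IrrCharacter G) : ℂ :=
  H23.pairC p (1 : G) (H23.eB M B) χ ψ

theorem pairC_eq_zero_of_not_inBlk (hM : IsPModular p M) (hB : IsPBlock M B) {u : G} {b : kG}
    (hb : b ∈ H23.Bls M u) (hn : ¬ H23.InBlk (H23.eB M B) (Subgroup.zpowers u) b)
    {χ : IrrCharacter G} (hχ : χ ∈ B) (ψ : IrrCharacter G) : H23.pairC p u b χ ψ = 0 := by
  classical
  rw [H23.pairC]
  refine mul_eq_zero_of_right _ (sum_eq_zero fun g _ => ?_)
  split_ifs with hg
  · subst hg
    rw [H23.T_eq_zero_of_not_inBlk hM hB hχ hb hn, zero_mul]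
  · rfl

/-- **Inner products with a star** through representatives. -/
theorem inner_star (h : Fam (M := M) p B x f) (hM : IsPModular p M) (hB : IsPBlock M B) {hh : G → kG → ℂ}
    (hinv : H23.HInv hh) {χ : IrrCharacter G} (hχ : χ ∈ B) (ψ : IrrCharacter G) :
    classInner (H23.starFn p hh χ) (ψ : G → ℂ) =
      hh 1 (H23.eB M B) * reg0 M p B χ ψ + ∑ i, hh (x i) (f i) * H23.pairC p (x i) (f i) χ ψ := by
  classical
  haveI : ∀ R : Subgroup G, Fintype R := fun R => Fintype.ofFinite R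
  have hG0 : (Nat.card G : ℂ) ≠ 0 := Nat.cast_ne_zero.2 Nat.card_pos.ne'
  rw [← H20.FAb.starFn_const (M := M) (p := p) ψ, H23.classInner_starFn hM]
  simp only [map_one, mul_one]
  rw [sum_pairs h hB (fun u b => hh u b * (ord u * H23.pairC p u b χ ψ))
    (fun g u b => by
      simp only [hinv g u b, ord_conj, H23.pairC_cj])
    (fun u _ b hb hn => by
      simp only [pairC_eq_zero_of_not_inBlk hM hB hb hn hχ, mul_zero]), mul_add]
  congr 1
  · rw [ord_one]
    field_simp
  · rw [mul_sum]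
    refine sum_congr rfl fun i _ => ?_
    have := ord_ne_zero (x i)
    field_simp

/-- **Orthogonality of characters** through representatives. -/
theorem delta_eq (h : Fam (M := M) p B x f) (hM : IsPModular p M) (hB : IsPBlock M B) {χ : IrrCharacter G}
    (hχ : χ ∈ B) (ψ : IrrCharacter G) :
    classInner (χ : G → ℂ) (ψ : G → ℂ) =
      reg0 M p B χ ψ + ∑ i, H23.pairC p (x i) (f i) χ ψ := by
  haveI : ∀ R : Subgroup G, Fintype R := fun R => Fintype.ofFinite R
  have := inner_star h hM hB (hh := fun _ _ => (1 : ℂ)) (fun _ _ _ => rfl) hχ ψ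
  rw [H20.FAb.starFn_const] at this
  simpa using this

theorem reg0_eq_Delta (hB : IsPBlock M B) {χ ψ : IrrCharacter G} (hχ : χ ∈ B) (hψ : ψ ∈ B) :
    reg0 M p B χ ψ = H22.Delta p χ ψ := by
  classical
  rw [reg0, H23.pairC, H22.Delta, H12.classInner_def]
  refine congrArg₂ (· * ·) (congrArg _ ord_one) (sum_congr rfl fun g _ => ?_)
  by_cases hg : p ∣ orderOf g
  · rw [if_neg, H22.pRegularPart_of_dvd _ hg, zero_mul]
    intro e
    refine (H20.not_dvd_orderOf_qPart (p := p) g) ?_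
    have h2 := H20.pPart_mul_qPart (p := p) g
    rw [e, one_mul] at h2
    rwa [h2]
  · rw [if_pos ((H20.pPart_eq_one_iff (p := p)).2 hg), H22.pRegularPart_of_not_dvd _ hg,
      H23.T_one_eq_eB hB, H23.T_one_eq_eB hB, if_pos hχ, if_pos hψ]

theorem sum_reg0 (hM : IsPModular p M) (hB : IsPBlock M B) :
    ∑ χ ∈ H22.blockFinset B, reg0 M p B χ χ = (blockRank p B : ℂ) := by
  rw [← H19.RegSpan.sum_classInner_eq_rank hM hB, H22.finsum_mem_block]
  exact sum_congr rfl fun χ hχ =>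
    reg0_eq_Delta hB (H22.mem_blockFinset.1 hχ) (H22.mem_blockFinset.1 hχ)

/-- The diagonal on a subsection sums to its rank. -/
theorem sum_pairC_self (hM : IsPModular p M) (hB : IsPBlock M B) {u : G} [Fintype C[u]]
    (hu : ∃ j : ℕ, orderOf u = p ^ j) {β : Set (IrrCharacter C[u])} (hβ : IsPBlock M β)
    (hin : H23.InBlk (H23.eB M B) (Subgroup.zpowers u) (H23.eG M C[u] β)) :
    ∑ χ ∈ H22.blockFinset B, H23.pairC p u (H23.eG M C[u] β) χ χ = (blockRank p β : ℂ) := by
  have hind := H20.Klein.induced_of_inBlk hM hB hu hβ hin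
  have h := congrArg (fun r : ℝ => (r : ℂ)) (H19.StarSums.sum_nrm hM hu hind)
  push_cast at h
  rw [← h]
  refine sum_congr rfl fun χ _ => ?_
  rw [H23.pairC_eq hu C[u] (H17.Major.centralizer_zpowers_eq u).symm hβ,
    ← H19.StarSums.classInner_part_self]
  rfl

/-! ### Positivity -/

/-- The pairing is a positive hermitian form. -/
theorem form_pairC (u : G) (b : kG) (s : Finset (IrrCharacter G)) (c : IrrCharacter G → ℂ) :
    open Classical in
    ∑ χ ∈ s, ∑ ψ ∈ s, c χ * conj (c ψ) * H23.pairC p u b χ ψ =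
      (((Nat.card (Subgroup.centralizer (Subgroup.zpowers u : Set G)) : ℝ)⁻¹ *
        ∑ g : G, if H20.pPart p g = u then
          Complex.normSq (∑ χ ∈ s, c χ * H23.T χ g b) else 0 : ℝ) : ℂ) := by
  classical
  simp only [Complex.ofReal_mul, Complex.ofReal_inv, Complex.ofReal_natCast, Complex.ofReal_sum,
    apply_ite ((↑) : ℝ → ℂ), Complex.ofReal_zero, H23.pairC, mul_sum]
  rw [sum_congr rfl fun χ _ => sum_comm, sum_comm]
  refine sum_congr rfl fun g _ => ?_
  by_cases hg : H20.pPart p g = u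
  · simp only [if_pos hg]
    rw [← Complex.mul_conj, map_sum, sum_mul_sum, mul_sum]
    refine sum_congr rfl fun χ _ => ?_
    rw [mul_sum]
    exact sum_congr rfl fun ψ _ => by rw [map_mul]; ring
  · simp [if_neg hg]

theorem form_pairC_nonneg (u : G) (b : kG) (s : Finset (IrrCharacter G))
    (c : IrrCharacter G → ℂ) :
    ∃ r : ℝ, 0 ≤ r ∧ ∑ χ ∈ s, ∑ ψ ∈ s, c χ * conj (c ψ) * H23.pairC p u b χ ψ = (r : ℂ) := by
  classical
  refine ⟨_, ?_, form_pairC u b s c⟩
  refine mul_nonneg (inv_nonneg.2 (Nat.cast_nonneg _)) (sum_nonneg fun g _ => ?_)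
  split_ifs
  · exact Complex.normSq_nonneg _
  · exact le_rfl

theorem form_smul (s : Finset (IrrCharacter G)) (c a : IrrCharacter G → ℂ) (N : ℂ) :
    ∑ χ ∈ s, ∑ ψ ∈ s, c χ * conj (c ψ) * (a χ * conj (a ψ) / N) =
      (∑ χ ∈ s, c χ * a χ) * conj (∑ χ ∈ s, c χ * a χ) / N := by
  rw [map_sum, sum_mul_sum, sum_div]
  refine sum_congr rfl fun χ _ => ?_
  rw [sum_div]
  exact sum_congr rfl fun ψ _ => by rw [map_mul]; ring

/-- A subsection of rank one saturates: its column is orthogonal to the others. -/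
theorem form_eq_zero (h : Fam (M := M) p B x f) (hM : IsPModular p M) (hB : IsPBlock M B) {i k : ι}
    (hik : i ≠ k) {a : IrrCharacter G → ℂ} {N : ℂ} (hN : N ≠ 0)
    (hw : ∀ χ ∈ B, ∀ ψ ∈ B, H23.pairC p (x i) (f i) χ ψ = a χ * conj (a ψ) / N)
    (hsum : ∑ χ ∈ H22.blockFinset B, a χ * conj (a χ) = N) :
    ∑ χ ∈ H22.blockFinset B, ∑ ψ ∈ H22.blockFinset B,
      conj (a χ) * a ψ * H23.pairC p (x k) (f k) χ ψ = 0 := by
  classical
  set s := H22.blockFinset B
  set c : IrrCharacter G → ℂ := fun χ => conj (a χ) with hc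
  have hmem : ∀ χ ∈ s, χ ∈ B := fun χ hχ => H22.mem_blockFinset.1 hχ
  let F : G → kG → ℂ := fun u b => ∑ χ ∈ s, ∑ ψ ∈ s, c χ * conj (c ψ) * H23.pairC p u b χ ψ
  have htot : ∑ χ ∈ s, ∑ ψ ∈ s, c χ * conj (c ψ) * classInner (χ : G → ℂ) (ψ : G → ℂ) = N := by
    rw [← hsum]
    refine sum_congr rfl fun χ hχ => ?_
    rw [sum_eq_single χ (fun ψ _ hne => by rw [H12.classInner_irr_ne (Ne.symm hne), mul_zero])
      (fun h => absurd hχ h), H12.classInner_irr_self, mul_one]
    simp [hc, mul_comm]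
  have hexp : ∑ χ ∈ s, ∑ ψ ∈ s, c χ * conj (c ψ) * classInner (χ : G → ℂ) (ψ : G → ℂ) =
      F 1 (H23.eB M B) + ∑ l, F (x l) (f l) := by
    simp only [F]
    rw [sum_comm (s := (univ : Finset ι)), ← sum_add_distrib]
    refine sum_congr rfl fun χ hχ => ?_
    rw [sum_comm (s := (univ : Finset ι)), ← sum_add_distrib]
    refine sum_congr rfl fun ψ _ => ?_
    rw [delta_eq h hM hB (hmem χ hχ) ψ, mul_add, mul_sum]
  have hi : F (x i) (f i) = N := by
    have e : ∑ χ ∈ s, c χ * a χ = N := by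
      rw [← hsum]
      exact sum_congr rfl fun χ _ => by simp [hc, mul_comm]
    have hNc : conj N = N := by
      rw [← hsum, map_sum]
      exact sum_congr rfl fun χ _ => by simp [mul_comm]
    simp only [F]
    rw [sum_congr rfl fun χ hχ => sum_congr rfl fun ψ hψ => by
      rw [hw χ (hmem χ hχ) ψ (hmem ψ hψ)], form_smul, e, hNc, mul_div_assoc, div_self hN, mul_one]
  choose r hr0 hr using fun (u : G) (b : kG) => form_pairC_nonneg (p := p) u b s c
  have h0 : r 1 (H23.eB M B) + ∑ l ∈ univ.erase i, r (x l) (f l) = 0 := by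
    have h1 := hexp.symm.trans htot
    rw [← add_sum_erase _ _ (mem_univ i), hi, add_left_comm, add_eq_left] at h1
    simp only [F, hr] at h1
    exact_mod_cast h1
  have h2 := ((add_eq_zero_iff_of_nonneg (hr0 _ _) (sum_nonneg fun l _ => hr0 _ _)).1 h0).2
  have h3 := (sum_eq_zero_iff_of_nonneg fun l _ => hr0 _ _).1 h2 k
    (mem_erase.2 ⟨Ne.symm hik, mem_univ _⟩)
  have h4 := hr (x k) (f k)
  rw [h3, Complex.ofReal_zero] at h4
  simpa [hc] using h4

/-- **Orthogonality of the columns** of two subsections of rank one. -/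
theorem sum_col_eq_zero (h : Fam (M := M) p B x f) (hM : IsPModular p M) (hB : IsPBlock M B) {i k : ι}
    (hik : i ≠ k) {a a' : IrrCharacter G → ℂ} {N N' : ℂ} (hN : N ≠ 0) (hN' : N' ≠ 0)
    (hw : ∀ χ ∈ B, ∀ ψ ∈ B, H23.pairC p (x i) (f i) χ ψ = a χ * conj (a ψ) / N)
    (hsum : ∑ χ ∈ H22.blockFinset B, a χ * conj (a χ) = N)
    (hw' : ∀ χ ∈ B, ∀ ψ ∈ B, H23.pairC p (x k) (f k) χ ψ = a' χ * conj (a' ψ) / N') :
    ∑ χ ∈ H22.blockFinset B, conj (a χ) * a' χ = 0 := by
  have h1 := form_eq_zero h hM hB hik hN hw hsum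
  have h2 := form_smul (H22.blockFinset B) (fun χ => conj (a χ)) a' N'
  simp only [Complex.conj_conj] at h2
  rw [sum_congr rfl fun χ hχ => sum_congr rfl fun ψ hψ => by
    rw [hw' χ (H22.mem_blockFinset.1 hχ) ψ (H22.mem_blockFinset.1 hψ)], h2] at h1
  rw [div_eq_zero_iff, mul_eq_zero] at h1
  rcases h1 with (h1 | h1) | h1
  · exact h1
  · exact (map_eq_zero _).1 h1
  · exact absurd h1 hN'

/-- **The number of characters** is the rank plus the ranks of the subsections. -/
theorem card_eq (h : Fam (M := M) p B x f) (hM : IsPModular p M) (hB : IsPBlock M B) (ρ : ι → ℕ)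
    (hρ : ∀ i, ∑ χ ∈ H22.blockFinset B, H23.pairC p (x i) (f i) χ χ = (ρ i : ℂ)) :
    Nat.card B = blockRank p B + ∑ i, ρ i := by
  classical
  have e : ((H22.blockFinset B).card : ℂ) = (blockRank p B : ℂ) + ∑ i, (ρ i : ℂ) := by
    rw [← sum_reg0 hM hB, ← sum_congr rfl fun i _ => hρ i, sum_comm, ← sum_add_distrib,
      card_eq_sum_ones, Nat.cast_sum]
    refine sum_congr rfl fun χ hχ => ?_
    rw [Nat.cast_one, ← delta_eq h hM hB (H22.mem_blockFinset.1 hχ) χ, H12.classInner_irr_self]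
  rw [← Nat.cast_sum, ← Nat.cast_add, Nat.cast_inj] at e
  rw [H22.natCard_block, e]

end H12.SubsecFam
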