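import Cfsg.Agent.H23.Cyc.Action
import Cfsg.Agent.H12.SubsecFam
import Cfsg.Agent.H28.PowerGraph
import Cfsg.Agent.H19.MajorBound

/-!
# The block of a centralizer in a tame 2-block with cyclic local defect group

`(⟨x⟩, e)` is a pair whose centralizer block at `u ∈ ⟨x⟩` has defect group `⟨x⟩`. The block of
`C(u)` below it is nilpotent, its characters are indexed by the `N`-th roots of unity and the
sections at the powers of `x` are given by one integer column per character of `G`.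
-/

set_option autoImplicit false
set_option linter.unusedSectionVars false
set_option linter.style.haveILetI false
set_option maxHeartbeats 1000000

open Cfsg Finset
open scoped MonoidAlgebra ComplexConjugate

namespace H12.QuatLocal

universe u

variable {G : Type u} [Group G] [Fintype G] {M : Ideal AlgInt} [hMp : M.IsPrime]
  [CharP (H20.k M) 2] [IsAlgClosed (H20.k M)]

local notation "C[" x "]" => (Subgroup.centralizer ({x} : Set _))

/-- In a cyclic group an element lies below those of larger order. -/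
theorem mem_zpowers_of_dvd {H : Type*} [Group H] [Finite H] {x a b : H}
    (ha : a ∈ Subgroup.zpowers x) (hb : b ∈ Subgroup.zpowers x) (h : orderOf a ∣ orderOf b) :
    a ∈ Subgroup.zpowers b := by
  obtain ⟨c, hc⟩ := h
  have ha0 := orderOf_pos a
  have hc0 : c ≠ 0 := fun e => (orderOf_pos b).ne' (by rw [hc, e, mul_zero])
  have he : orderOf (b ^ c) = orderOf a := by
    rw [orderOf_pow' _ hc0, hc, Nat.gcd_mul_left_left, Nat.mul_div_cancel _ (Nat.pos_of_ne_zero hc0)]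
  have hz := H28.PG.zpowers_eq_of_orderOf_eq ha (pow_mem hb c) he.symm
  exact Subgroup.zpowers_le.2 (Subgroup.npow_mem_zpowers b c) (hz ▸ Subgroup.mem_zpowers a)

/-- The hypotheses on `(⟨x⟩, e)` at `u`. -/
structure Loc4 (M : Ideal AlgInt) [M.IsPrime] [CharP (H20.k M) 2] [IsAlgClosed (H20.k M)]
    (u y0 x : G) (e f : (H20.k M)[G]) : Prop where
  hM : IsPModular 2 M
  hy0 : orderOf y0 = 4
  y0u : y0 ∈ Subgroup.zpowers u
  ux : u ∈ Subgroup.zpowers x
  two : ∃ k : ℕ, orderOf x = 2 ^ k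
  le : H23.Le 2 (Subgroup.zpowers u, f) (Subgroup.zpowers x, e)
  hpair : H23.IsPair 2 (Subgroup.zpowers x) e
  top : ∀ R e', H23.Le 2 (Subgroup.zpowers x, e) (R, e') → (∀ a ∈ R, a * u = u * a) →
    R ≤ Subgroup.zpowers x
  fus : ∀ y ∈ Subgroup.zpowers x, y0 ∈ Subgroup.zpowers y → ∀ (g : G) (b : (H20.k M)[G]),
    H23.Le 2 (Subgroup.zpowers y, b) (Subgroup.zpowers x, e) →
    H23.Le 2 (Subgroup.zpowers (g * y * g⁻¹), H23.cj g b) (Subgroup.zpowers x, e) →
    g * y * g⁻¹ = y ∨ g * y * g⁻¹ = y⁻¹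

namespace Loc4

variable {u y0 x : G} {e f : (H20.k M)[G]}

theorem commute_u (h : Loc4 M u y0 x e f) {a : G} (ha : a ∈ Subgroup.zpowers x) : Commute a u := by
  obtain ⟨i, rfl⟩ := Subgroup.mem_zpowers_iff.1 ha
  obtain ⟨j, rfl⟩ := Subgroup.mem_zpowers_iff.1 h.ux
  exact Commute.zpow_zpow (Commute.refl x) i j

theorem zx_le (h : Loc4 M u y0 x e f) : Subgroup.zpowers x ≤ C[u] := fun _ ha =>
  Subgroup.mem_centralizer_singleton_iff.2 (h.commute_u ha).eq

theorem y0x (h : Loc4 M u y0 x e f) : y0 ∈ Subgroup.zpowers x :=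
  Subgroup.zpowers_le.2 h.ux h.y0u

theorem cent_le (h : Loc4 M u y0 x e f) {y : G} (hy : u ∈ Subgroup.zpowers y) :
    Subgroup.centralizer (Subgroup.zpowers y : Set G) ≤ C[u] := fun _ ha =>
  Subgroup.mem_centralizer_singleton_iff.2 (Subgroup.mem_centralizer_iff.1 ha u hy).symm

theorem commute_y0 (h : Loc4 M u y0 x e f) {g : G} (hg : g ∈ C[u]) : g * y0 * g⁻¹ = y0 := by
  obtain ⟨i, hi⟩ := Subgroup.mem_zpowers_iff.1 h.y0u
  have hc : Commute g u := Subgroup.mem_centralizer_singleton_iff.1 hg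
  rw [← hi, (hc.zpow_right i).eq, mul_inv_cancel_right]

theorem dvd_or (h : Loc4 M u y0 x e f) {y : G} (hy : y ∈ Subgroup.zpowers x) :
    y0 ∈ Subgroup.zpowers y ∨ y ∈ Subgroup.zpowers y0 := by
  obtain ⟨k, hk⟩ := h.two
  have h1 : orderOf y ∣ 2 ^ k := hk ▸ orderOf_dvd_of_mem_zpowers hy
  obtain ⟨j, -, hj⟩ := (Nat.dvd_prime_pow Nat.prime_two).1 h1
  rcases Nat.lt_or_ge j 2 with hj2 | hj2
  · refine Or.inr (mem_zpowers_of_dvd hy h.y0x ?_)
    rw [hj, h.hy0, show 4 = 2 ^ 2 by norm_num]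
    exact pow_dvd_pow 2 (by omega)
  · refine Or.inl (mem_zpowers_of_dvd h.y0x hy ?_)
    rw [hj, h.hy0, show 4 = 2 ^ 2 by norm_num]
    exact pow_dvd_pow 2 hj2

theorem supp_e (h : Loc4 M u y0 x e f) : H23.Supp C[u] e :=
  h.hpair.2.cidem.supp.mono (h.cent_le h.ux)

theorem isBlk_f (h : Loc4 M u y0 x e f) : H23.IsBlk C[u] f := by
  have h1 := (h.le.pair_left 2 h.hpair).2
  rwa [H23.centralizer_zpowers] at h1

theorem up_P (h : Loc4 M u y0 x e f) :
    H23.Cyc.up C[u] ((Subgroup.zpowers x).subgroupOf C[u]) = Subgroup.zpowers x :=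
  H23.Cyc.up_subgroupOf h.zx_le

section Local

variable [Fintype C[u]]

theorem exists_bK (h : Loc4 M u y0 x e f) :
    ∃ bK : Set (IrrCharacter C[u]), IsPBlock M bK ∧ H23.eB M bK = H23.res C[u] f := by
  refine H23.exists_block_eB ?_
  have h1 := H23.isBlk_res (C := C[u]) le_rfl h.isBlk_f
  rwa [Subgroup.subgroupOf_self] at h1

theorem isPair_K (h : Loc4 M u y0 x e f) :
    H23.IsPair 2 ((Subgroup.zpowers x).subgroupOf C[u]) (H23.res C[u] e) := by
  rw [← H23.Cyc.isPair_emb_iff (by rw [h.up_P]; exact h.cent_le h.ux), h.up_P,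
    H23.emb_res h.supp_e]
  exact h.hpair

theorem le_K_to_G (h : Loc4 M u y0 x e f) {y : C[u]} {a : (H20.k M)[↥C[u]]}
    (hyu : u ∈ Subgroup.zpowers (y : G))
    (hle : H23.Le 2 (Subgroup.zpowers y, a)
      ((Subgroup.zpowers x).subgroupOf C[u], H23.res C[u] e)) :
    H23.Le 2 (Subgroup.zpowers (y : G), H23.emb C[u] a) (Subgroup.zpowers x, e) := by
  have h' := H23.Cyc.le_emb hle (by rw [H23.Cyc.up_zpowers]; exact h.cent_le hyu)
  rwa [H23.Cyc.up_zpowers, h.up_P, H23.emb_res h.supp_e] at h'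

theorem isMax_K (h : Loc4 M u y0 x e f) {bK : Set (IrrCharacter C[u])}
    (hbe : H23.eB M bK = H23.res C[u] f) :
    H23.IsMax 2 (H23.eB M bK) ((Subgroup.zpowers x).subgroupOf C[u]) (H23.res C[u] e) := by
  refine ⟨h.isPair_K, ?_, fun R g hg _ hle => ?_⟩
  · obtain ⟨f', hf'⟩ := H23.exists_nsub 2 h.hpair (Subgroup.zpowers_le.2 h.ux) (fun a ha => by
      refine Subgroup.centralizer_le_normalizer _ (Subgroup.mem_centralizer_iff.2 fun b hb => ?_)
      obtain ⟨i, rfl⟩ := Subgroup.mem_zpowers_iff.1 hb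
      exact ((h.commute_u ha).zpow_right i).eq.symm)
    obtain rfl := H23.le_unique 2 h.hpair (Relation.ReflTransGen.single hf') h.le
    rw [← H23.Cyc.inBlk_emb_iff, h.up_P, hbe, H23.emb_res h.isBlk_f.cidem.supp,
      H23.emb_res h.supp_e]
    exact hf'.mul
  · have h' := H23.Cyc.le_emb hle (by rw [h.up_P]; exact h.cent_le h.ux)
    rw [h.up_P, H23.emb_res h.supp_e] at h'
    have hR : H23.Cyc.up C[u] R ≤ Subgroup.zpowers x := h.top _ _ h' fun a ha =>
      Subgroup.mem_centralizer_singleton_iff.1 (H23.Cyc.up_le R ha)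
    refine Subgroup.map_injective C[u].subtype_injective ?_
    show H23.Cyc.up C[u] R = H23.Cyc.up C[u] _
    rw [le_antisymm hR (h'.le 2)]
    exact h.up_P.symm

theorem comm_P (h : Loc4 M u y0 x e f) {a b : C[u]}
    (ha : a ∈ (Subgroup.zpowers x).subgroupOf C[u]) (hb : b ∈ (Subgroup.zpowers x).subgroupOf C[u]) :
    a * b = b * a := by
  obtain ⟨i, hi⟩ := Subgroup.mem_zpowers_iff.1 (Subgroup.mem_subgroupOf.1 ha)
  obtain ⟨j, hj⟩ := Subgroup.mem_zpowers_iff.1 (Subgroup.mem_subgroupOf.1 hb)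
  apply Subtype.ext
  show (a : G) * b = b * a
  rw [← hi, ← hj]
  exact (Commute.zpow_zpow (Commute.refl x) i j).eq

theorem fixed (h : Loc4 M u y0 x e f) {y g : C[u]} {a : (H20.k M)[↥C[u]]}
    (h1 : H23.Le 2 (Subgroup.zpowers y, a) ((Subgroup.zpowers x).subgroupOf C[u], H23.res C[u] e))
    (h2 : H23.Le 2 (Subgroup.zpowers (g * y * g⁻¹), H23.cj g a)
      ((Subgroup.zpowers x).subgroupOf C[u], H23.res C[u] e)) :
    g * y * g⁻¹ = y := by
  have hy : (y : G) ∈ Subgroup.zpowers x :=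
    Subgroup.mem_subgroupOf.1 (h1.le 2 (Subgroup.mem_zpowers y))
  have hgy : (g : G) * (y : G) * (g : G)⁻¹ ∈ Subgroup.zpowers x :=
    Subgroup.mem_subgroupOf.1 (h2.le 2 (Subgroup.mem_zpowers (g * y * g⁻¹)))
  have hg0 := h.commute_y0 g.2
  apply Subtype.ext
  show (g : G) * (y : G) * (g : G)⁻¹ = (y : G)
  rcases h.dvd_or hy with hd | hd
  · by_cases huy : u ∈ Subgroup.zpowers (y : G)
    · have H1 := h.le_K_to_G huy h1
      have huy' : u ∈ Subgroup.zpowers ((g * y * g⁻¹ : C[u]) : G) := by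
        obtain ⟨i, hi⟩ := Subgroup.mem_zpowers_iff.1 huy
        refine ⟨i, ?_⟩
        show ((g : G) * y * (g : G)⁻¹) ^ i = u
        rw [conj_zpow, hi]
        exact mul_inv_eq_iff_eq_mul.2 (Subgroup.mem_centralizer_singleton_iff.1 g.2)
      have H2 := h.le_K_to_G huy' h2
      rw [← H23.Cyc.cj_emb] at H2
      rcases h.fus _ hy hd (g : G) _ H1 H2 with e1 | e1
      · exact e1
      · exfalso
        obtain ⟨i, hi⟩ := Subgroup.mem_zpowers_iff.1 hd
        rw [← hi, ← conj_zpow, e1, inv_zpow] at hg0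
        have h4 : y0 ^ 2 = 1 := by rw [pow_two, ← hi]; nth_rw 1 [← hg0]; exact inv_mul_cancel _
        have := Nat.le_of_dvd (by norm_num) (orderOf_dvd_of_pow_eq_one h4)
        rw [h.hy0] at this
        omega
    · -- `y` is a power of `u`
      obtain ⟨k, hk⟩ := h.two
      obtain ⟨i, -, hi⟩ := (Nat.dvd_prime_pow Nat.prime_two).1
        (hk ▸ orderOf_dvd_of_mem_zpowers hy : orderOf (y : G) ∣ 2 ^ k)
      obtain ⟨j, -, hj⟩ := (Nat.dvd_prime_pow Nat.prime_two).1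
        (hk ▸ orderOf_dvd_of_mem_zpowers h.ux : orderOf u ∣ 2 ^ k)
      have hyu : (y : G) ∈ Subgroup.zpowers u := by
        refine mem_zpowers_of_dvd hy h.ux ?_
        rw [hi, hj]
        refine pow_dvd_pow 2 (le_of_not_ge fun hji => huy (mem_zpowers_of_dvd h.ux hy ?_))
        rw [hi, hj]
        exact pow_dvd_pow 2 hji
      obtain ⟨l, hl⟩ := Subgroup.mem_zpowers_iff.1 hyu
      have hc : Commute (g : G) u := Subgroup.mem_centralizer_singleton_iff.1 g.2
      rw [← hl, (hc.zpow_right l).eq, mul_inv_cancel_right]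
  · obtain ⟨l, hl⟩ := Subgroup.mem_zpowers_iff.1 hd
    rw [← hl, ← conj_zpow, hg0]

theorem inner (h : Loc4 M u y0 x e f) :
    H23.InnerOnElements 2 ((Subgroup.zpowers x).subgroupOf C[u]) (H23.res C[u] e) :=
  fun y _ g a h1 h2 => ⟨1, one_mem _, by rw [h.fixed h1 h2]; group⟩

theorem card_P (h : Loc4 M u y0 x e f) :
    Nat.card ((Subgroup.zpowers x).subgroupOf C[u]) = orderOf x := by
  rw [H23.card_subgroupOf h.zx_le, Nat.card_zpowers]

/-- The linear functions on `⟨x⟩`. -/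
theorem exists_lam (h : Loc4 M u y0 x e f) {ζ : ℂ} (hζ : IsPrimitiveRoot ζ (orderOf x)) :
    ∃ l : ((Subgroup.zpowers x).subgroupOf C[u]) →* ℂˣ, ∀ (j : ℕ)
      (hj : (⟨x, h.zx_le (Subgroup.mem_zpowers x)⟩ : C[u]) ^ j ∈
        (Subgroup.zpowers x).subgroupOf C[u]),
      (l ⟨_, hj⟩ : ℂ) = ζ ^ j := by
  set X : (Subgroup.zpowers x).subgroupOf C[u] :=
    ⟨⟨x, h.zx_le (Subgroup.mem_zpowers x)⟩, Subgroup.mem_subgroupOf.2 (Subgroup.mem_zpowers x)⟩
  have hX : ∀ a, a ∈ Subgroup.zpowers X := by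
    rintro ⟨⟨a, ha⟩, ha'⟩
    obtain ⟨i, hi⟩ := Subgroup.mem_zpowers_iff.1 (Subgroup.mem_subgroupOf.1 ha')
    exact ⟨i, Subtype.ext (Subtype.ext (by simpa [X] using hi))⟩
  have hord : orderOf X = orderOf x := by
    rw [← Subgroup.orderOf_coe, ← Subgroup.orderOf_coe]
  obtain ⟨ζu, hζu⟩ : IsUnit ζ := hζ.isUnit (orderOf_pos x).ne'
  have hd : orderOf ζu ∣ orderOf X := by
    rw [hord, ← orderOf_units, hζu, hζ.eq_orderOf]
  refine ⟨monoidHomOfForallMemZpowers hX hd, fun j hj => ?_⟩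
  have : (⟨_, hj⟩ : (Subgroup.zpowers x).subgroupOf C[u]) = X ^ j := rfl
  rw [this, map_pow, monoidHomOfForallMemZpowers_apply_gen, Units.val_pow_eq_pow_val, hζu]

theorem stable (h : Loc4 M u y0 x e f) (l : ((Subgroup.zpowers x).subgroupOf C[u]) →* ℂˣ) :
    H23.Stable 2 ((Subgroup.zpowers x).subgroupOf C[u]) (H23.res C[u] e) (H23.Cyc.lext l) := by
  intro y _ g b h1 h2
  rw [h.fixed h1 h2]

/-- The block of `C(u)`: characters and their values on the sections. -/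
theorem exists_chars (h : Loc4 M u y0 x e f) {ζ : ℂ} (hζ : IsPrimitiveRoot ζ (orderOf x)) :
    ∃ (bK : Set (IrrCharacter C[u])) (ξ : ℕ → IrrCharacter C[u]),
      IsPBlock M bK ∧ H23.eB M bK = H23.res C[u] f ∧
      (∀ l, ξ l ∈ bK) ∧
      (∀ η ∈ bK, ∃ l < orderOf x, ξ l = η) ∧
      (∀ l k, ξ l = ξ k ↔ l ≡ k [MOD orderOf x]) ∧
      (∀ l, ∀ g : C[u], ¬ 2 ∣ orderOf g → (ξ l : C[u] → ℂ) g = (ξ 0 : C[u] → ℂ) g) ∧
      (∀ (j : ℕ) (a : (H20.k M)[↥C[u]]), H23.Le 2
          (Subgroup.zpowers ((⟨x, h.zx_le (Subgroup.mem_zpowers x)⟩ : C[u]) ^ j), a)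
          ((Subgroup.zpowers x).subgroupOf C[u], H23.res C[u] e) →
        (∀ l, ∀ g : C[u], H20.pPart 2 g = (⟨x, h.zx_le (Subgroup.mem_zpowers x)⟩ : C[u]) ^ j →
          H23.T (ξ l) g a = ζ ^ (j * l) * H23.T (ξ 0) g a) ∧
        (∃ g : C[u], H20.pPart 2 g = (⟨x, h.zx_le (Subgroup.mem_zpowers x)⟩ : C[u]) ^ j ∧
          H23.T (ξ 0) g a ≠ 0) ∧
        ∀ l, (orderOf x : ℂ) *
          H23.pairC 2 ((⟨x, h.zx_le (Subgroup.mem_zpowers x)⟩ : C[u]) ^ j) a (ξ l) (ξ l) = 1) := by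
  classical
  haveI : Fact (Nat.Prime 2) := ⟨Nat.prime_two⟩
  set P := (Subgroup.zpowers x).subgroupOf C[u] with hP
  set xK : C[u] := ⟨x, h.zx_le (Subgroup.mem_zpowers x)⟩ with hxK
  obtain ⟨bK, hb, hbe⟩ := h.exists_bK
  have hmax := h.isMax_K hbe
  obtain ⟨χ₀, hχ₀, h0'⟩ := H22.exists_height_zero (p := 2) (H20.block_nonempty hb)
  have h0 : blockHeight 2 bK (χ₀ : C[u] → ℂ) = 0 := Nat.sub_eq_zero_of_le h0'.le
  obtain ⟨l1, hl1⟩ := h.exists_lam hζ
  have hxP : ∀ j : ℕ, xK ^ j ∈ P := fun j =>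
    Subgroup.mem_subgroupOf.2 (Subgroup.npow_mem_zpowers x j)
  have hext : ∀ l : ℕ, ∃ ξ : IrrCharacter C[u], ξ ∈ bK ∧
      (ξ : C[u] → ℂ) = H23.starFn 2 (H23.hStar 2 P (H23.res C[u] e) (H23.Cyc.lext (l1 ^ l))) χ₀ ∧
      charDegree (ξ : C[u] → ℂ) = charDegree (χ₀ : C[u] → ℂ) := by
    intro l
    refine H23.exists_irr_star h.hM hb hmax (h.stable _) ?_ ?_ ?_ hχ₀
    · refine ⟨_, 0, H12.isCharacter_monoidHom (l1 ^ l), H12.isCharacter_zero, ?_⟩
      funext y
      simp [H23.Cyc.lext_of_mem]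
    · show H23.Cyc.lext (l1 ^ l) ((1 : P) : C[u]) = 1
      rw [H23.Cyc.lext_of_mem, map_one, Units.val_one]
    · intro y hy
      have : H23.Cyc.lext (l1 ^ l) y = ((l1 ^ l) ⟨y, hy⟩ : ℂ) := H23.Cyc.lext_of_mem _ ⟨y, hy⟩
      rw [this, Complex.mul_conj, Complex.normSq_eq_norm_sq,
        Complex.norm_eq_one_of_pow_eq_one (n := Nat.card P) (by
          rw [← Units.val_pow_eq_pow_val, ← map_pow, pow_card_eq_one', map_one, Units.val_one])
          Nat.card_pos.ne']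
      simp
  choose ξ hξb hξe hξd using hext
  have hval : ∀ (l j : ℕ), H23.Cyc.lext (l1 ^ l) (xK ^ j) = ζ ^ (j * l) := by
    intro l j
    rw [show H23.Cyc.lext (l1 ^ l) (xK ^ j) = ((l1 ^ l) ⟨_, hxP j⟩ : ℂ) from
      H23.Cyc.lext_of_mem _ ⟨_, hxP j⟩]
    show (((l1 ⟨_, hxP j⟩) ^ l : ℂˣ) : ℂ) = _
    rw [Units.val_pow_eq_pow_val, hl1 j (hxP j), ← pow_mul]
  have hT : ∀ (j : ℕ) (a : (H20.k M)[↥C[u]]),
      H23.Le 2 (Subgroup.zpowers (xK ^ j), a) (P, H23.res C[u] e) → ∀ l, ∀ g : C[u],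
      H20.pPart 2 g = xK ^ j → H23.T (ξ l) g a = ζ ^ (j * l) * H23.T χ₀ g a := by
    intro j a ha l g hg
    have hmem : a ∈ H23.Bls M (H20.pPart 2 g) :=
      hg ▸ H23.mem_Bls.2 (ha.pair_left 2 hmax.1).2
    rw [H23.T_star h.hM (hξe l) hmem, hg, H23.hStar_below (h.stable _) ha, hval]
  choose bu hbu using fun y : P => H23.exists_le 2 hmax.1 (Subgroup.zpowers_le.2 y.2)
  have hweight : ∀ (j : ℕ) (a : (H20.k M)[↥C[u]]),
      H23.Le 2 (Subgroup.zpowers (xK ^ j), a) (P, H23.res C[u] e) →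
      (orderOf x : ℂ) * H23.pairC 2 (xK ^ j) a χ₀ χ₀ = 1 := by
    intro j a ha
    have hw := H23.weightC_eq_one h.hM hb hmax h.inner hχ₀ h0 bu hbu ⟨_, hxP j⟩
    have hcap : P ⊓ Subgroup.centralizer (Subgroup.zpowers (xK ^ j) : Set C[u]) = P :=
      inf_eq_left.2 fun c hc => Subgroup.mem_centralizer_iff.2 fun d hd =>
        h.comm_P (Subgroup.zpowers_le.2 (hxP j) hd) hc
    rw [H23.weightC, hcap, h.card_P, H23.le_unique 2 hmax.1 (hbu ⟨_, hxP j⟩) ha] at hw
    exact hw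
  have hne : ∀ (j : ℕ) (a : (H20.k M)[↥C[u]]),
      H23.Le 2 (Subgroup.zpowers (xK ^ j), a) (P, H23.res C[u] e) →
      ∃ g : C[u], H20.pPart 2 g = xK ^ j ∧ H23.T χ₀ g a ≠ 0 := by
    intro j a ha
    by_contra hn
    push Not at hn
    have h1 := hweight j a ha
    rw [H23.pairC, Finset.sum_eq_zero, mul_zero, mul_zero] at h1
    · exact zero_ne_one h1
    · intro g _
      split_ifs with hg
      · rw [hn g hg, zero_mul]
      · rfl
  have hξiff : ∀ l k, ξ l = ξ k ↔ l ≡ k [MOD orderOf x] := by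
    intro l k
    constructor
    · intro he
      obtain ⟨g, hg, hg0⟩ := hne 1 (H23.res C[u] e) (by
        rw [pow_one]
        have : Subgroup.zpowers xK = P := by
          refine Subgroup.map_injective C[u].subtype_injective ?_
          rw [MonoidHom.map_zpowers, hP, Subgroup.subgroupOf_map_subtype, inf_eq_left.2 h.zx_le]
          rfl
        rw [this]
        exact Relation.ReflTransGen.refl)
      have hle1 : H23.Le 2 (Subgroup.zpowers (xK ^ 1), H23.res C[u] e) (P, H23.res C[u] e) := by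
        rw [pow_one]
        have : Subgroup.zpowers xK = P := by
          refine Subgroup.map_injective C[u].subtype_injective ?_
          rw [MonoidHom.map_zpowers, hP, Subgroup.subgroupOf_map_subtype, inf_eq_left.2 h.zx_le]
          rfl
        rw [this]
        exact Relation.ReflTransGen.refl
      have h1 := hT 1 _ hle1 l g hg
      rw [he, hT 1 _ hle1 k g hg, one_mul, one_mul] at h1
      have h2 := mul_right_cancel₀ hg0 h1
      obtain ⟨ζu, hζu⟩ : IsUnit ζ := hζ.isUnit (orderOf_pos x).ne'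
      rw [← hζu, ← Units.val_pow_eq_pow_val, ← Units.val_pow_eq_pow_val, Units.val_inj,
        pow_eq_pow_iff_modEq, show orderOf ζu = orderOf x by
          rw [← orderOf_units, hζu, hζ.eq_orderOf]] at h2
      exact h2.symm
    · intro he
      have hl : l1 ^ l = l1 ^ k := by
        refine MonoidHom.ext fun a => ?_
        show (l1 a) ^ l = (l1 a) ^ k
        refine pow_eq_pow_iff_modEq.2 (he.of_dvd ?_)
        refine (orderOf_dvd_of_pow_eq_one ?_)
        rw [← map_pow, ← h.card_P, pow_card_eq_one', map_one]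
      exact Subtype.ext (by rw [hξe, hξe, hl])
  have hxi0 : ξ 0 = χ₀ := by
    apply Subtype.ext
    rw [hξe]
    refine Eq.trans ?_ (H23.starFn_one h.hM hb hmax hχ₀)
    funext g
    rw [H23.starFn_eq, H23.starFn_eq]
    refine sum_congr rfl fun b hb' => ?_
    by_cases hx : ∃ z, H23.Le 2 (Subgroup.zpowers (H20.pPart 2 g), b)
        (H23.cjS z P, H23.cj z (H23.res C[u] e))
    · obtain ⟨z, hz⟩ := hx
      rw [H23.hStar_eq H23.stable_one hz, H23.hStar_eq (h.stable _) hz]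
      have hm := H23.mem_of_le (H23.le_pull hz)
      rw [show H23.Cyc.lext (l1 ^ 0) (z⁻¹ * H20.pPart 2 g * z) = (((l1 ^ 0) ⟨_, hm⟩ : ℂˣ) : ℂ)
        from H23.Cyc.lext_of_mem _ ⟨_, hm⟩, pow_zero, MonoidHom.one_apply, Units.val_one,
        Pi.one_apply]
    · unfold H23.hStar
      rw [dif_neg hx, dif_neg hx]
  refine ⟨bK, ξ, hb, hbe, hξb, ?_, hξiff, ?_, fun j a ha => ⟨?_, ?_, ?_⟩⟩
  · intro η hη
    obtain ⟨ψ, hinj, hrange, -⟩ := H23.nilpotent_main h.hM hb hmax h.inner hχ₀ h0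
    haveI : Fintype P := Fintype.ofFinite _
    letI : CommGroup P := { (inferInstance : Group P) with
      mul_comm := fun a b => Subtype.ext (h.comm_P a.2 b.2) }
    have hcard : Nat.card bK = orderOf x := by
      rw [← hrange, Nat.card_range_of_injective hinj,
        Nat.card_congr ((Equiv.subtypeUnivEquiv (H12.irr_apply_one_of_comm mul_comm)).symm.trans
          H12.linIrrEquiv.symm),
        CommGroup.card_monoidHom_of_hasEnoughRootsOfUnity P ℂ, hP, h.card_P]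
    have hinj' : Function.Injective fun l : Fin (orderOf x) => (⟨ξ l, hξb l⟩ : bK) := by
      intro l k hlk
      exact Fin.ext (Nat.ModEq.eq_of_lt_of_lt ((hξiff _ _).1 (congrArg Subtype.val hlk)) l.2 k.2)
    have hbij := Nat.bijective_iff_injective_and_card _ |>.2
      ⟨hinj', by rw [Nat.card_fin, hcard]⟩
    obtain ⟨l, hl⟩ := hbij.2 ⟨η, hη⟩
    exact ⟨l, l.2, congrArg Subtype.val hl⟩
  · intro l g hg
    rw [hxi0, hξe, ← H23.starFn_one h.hM hb hmax hχ₀, H23.starFn_eq, H23.starFn_eq]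
    refine Finset.sum_congr rfl fun b hb' => ?_
    by_cases hin : H23.InBlk (H23.eB M bK) (Subgroup.zpowers (H20.pPart 2 g)) b
    · obtain ⟨z, hz⟩ := H23.exists_below hb hmax (H20.exists_orderOf_pPart _) hb' hin
      rw [H23.hStar_eq H23.stable_one hz, H23.hStar_eq (h.stable _) hz,
        H20.pPart_eq_one_iff.2 hg, mul_one, inv_mul_cancel,
        show H23.Cyc.lext (l1 ^ l) (1 : C[u]) = ((l1 ^ l) 1 : ℂ) from H23.Cyc.lext_of_mem _ 1,
        map_one, Units.val_one, Pi.one_apply]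
    · rw [H23.T_eq_zero_of_not_inBlk h.hM hb hχ₀ hb' hin, mul_zero, mul_zero]
  · intro l g hg
    rw [hxi0]
    exact hT j a ha l g hg
  · rw [hxi0]
    exact hne j a ha
  · intro l
    rw [← hweight j a ha]
    congr 1
    simp only [H23.pairC]
    congr 1
    refine Finset.sum_congr rfl fun g _ => ?_
    split_ifs with hg
    · rw [hT j a ha l g hg, map_mul, mul_mul_mul_comm, Complex.mul_conj', norm_pow,
        hζ.norm'_eq_one (orderOf_pos x).ne', one_pow, Complex.ofReal_one, one_pow, one_mul]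
    · rfl

theorem eB_eq_eG (h : Loc4 M u y0 x e f) {bK : Set (IrrCharacter C[u])}
    (hbe : H23.eB M bK = H23.res C[u] f) : H23.eG M C[u] bK = f := by
  have h1 : H23.res C[u] (H23.eG M C[u] bK) = H23.res C[u] f := (H23.res_eG bK).trans hbe
  rw [← H23.emb_res (H23.supp_eG (M := M) C[u] bK), h1, H23.emb_res h.isBlk_f.cidem.supp]

/-- The subsection at `u` has rank one. -/
theorem sum_pairC_eq_one (h : Loc4 M u y0 x e f) {B : Set (IrrCharacter G)} (hB : IsPBlock M B)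
    (hin : H23.InBlk (H23.eB M B) (Subgroup.zpowers u) f) :
    ∑ χ ∈ H22.blockFinset B, H23.pairC 2 u f χ χ = 1 := by
  classical
  haveI : Fact (Nat.Prime 2) := ⟨Nat.prime_two⟩
  obtain ⟨bK, ξ, hb, hbe, hξb, hξs, -, hreg, -⟩ :=
    h.exists_chars (Complex.isPrimitiveRoot_exp _ (orderOf_pos x).ne')
  have hf := h.eB_eq_eG hbe
  obtain ⟨k, hk⟩ := h.two
  obtain ⟨j, -, hj⟩ := (Nat.dvd_prime_pow Nat.prime_two).1
    (hk ▸ orderOf_dvd_of_mem_zpowers h.ux : orderOf u ∣ 2 ^ k)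
  conv_lhs => rw [← hf]
  rw [H12.SubsecFam.sum_pairC_self h.hM hB ⟨j, hj⟩ hb (by rw [hf]; exact hin)]
  suffices hr : blockRank 2 bK = 1 by rw [hr, Nat.cast_one]
  refine le_antisymm ?_ (H19.CentralRank.one_le_blockRank (H20.block_nonempty hb))
  unfold blockRank
  refine (Submodule.finrank_mono (Submodule.span_mono (t :=
    {pRegularPart 2 (ξ 0 : C[u] → ℂ)}) ?_)).trans (le_trans (finrank_span_le_card _) (by simp))
  rintro _ ⟨η, hη, rfl⟩
  obtain ⟨l, -, rfl⟩ := hξs η hη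
  refine funext fun g => ?_
  show pRegularPart 2 (ξ l : C[u] → ℂ) g = _
  by_cases hg : 2 ∣ orderOf g
  · rw [H22.pRegularPart_of_dvd _ hg, H22.pRegularPart_of_dvd _ hg]
  · rw [H22.pRegularPart_of_not_dvd _ hg, H22.pRegularPart_of_not_dvd _ hg, hreg l g hg]

end Local

end Loc4

/-- A constituent of the restriction has the same central value. -/
theorem eps_nres {z : G} (hz : z ∈ Subgroup.center G) {H : Subgroup G} [Fintype H] (hzH : z ∈ H)
    (χ : IrrCharacter G) (η : IrrCharacter H) (hn : H22.Contrib.nres H χ η ≠ 0) :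
    H19.MajorBound.eps (⟨z, hzH⟩ : H) η = H19.MajorBound.eps z χ := by
  have hzc : (⟨z, hzH⟩ : H) ∈ Subgroup.center H :=
    Subgroup.mem_center_iff.2 fun a => Subtype.ext (Subgroup.mem_center_iff.1 hz (a : G))
  set εh := H19.MajorBound.eps (⟨z, hzH⟩ : H) η
  set εg := H19.MajorBound.eps z χ
  have hn0 : classInner (fun a : H => (χ : G → ℂ) a) (η : H → ℂ) ≠ 0 := by
    rw [H22.Contrib.classInner_res]
    exact_mod_cast hn
  have hη : ∀ a : H, (η : H → ℂ) (⟨z, hzH⟩ * a) = εh * (η : H → ℂ) a := fun a => by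
    simpa using H19.MajorBound.irr_pow_central hzc η 1 a
  have hχ : ∀ a : H, (χ : G → ℂ) (z * (a : G)) = εg * (χ : G → ℂ) (a : G) := fun a => by
    simpa using H19.MajorBound.irr_pow_central hz χ 1 (a : G)
  have hnorm : εh * conj εh = 1 := by
    have h1 : εh ^ orderOf (⟨z, hzH⟩ : H) = 1 := H19.MajorBound.eps_pow_orderOf hzc η
    rw [Complex.mul_conj', Complex.norm_eq_one_of_pow_eq_one h1 (orderOf_pos _).ne']
    simp
  have key : classInner (fun a : H => (χ : G → ℂ) a) (η : H → ℂ) =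
      εg * conj εh * classInner (fun a : H => (χ : G → ℂ) a) (η : H → ℂ) := by
    rw [H12.classInner_def, mul_left_comm (εg * conj εh)]
    congr 1
    rw [mul_sum]
    refine (Fintype.sum_equiv (Equiv.mulLeft (⟨z, hzH⟩ : H)) _ _ fun a => ?_).symm
    rw [Equiv.coe_mulLeft, hη a, map_mul, Subgroup.coe_mul, hχ a]
    ring
  have h1 : εg * conj εh = 1 := (mul_eq_right₀ hn0).1 key.symm
  calc εh = εh * (εg * conj εh) := by rw [h1, mul_one]
    _ = εg * (εh * conj εh) := by ring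
    _ = εg := by rw [hnorm, mul_one]

namespace Loc4

variable {u y0 x : G} {e f : (H20.k M)[G]}

/-- The column of a character at the powers of `x`. -/
noncomputable def col (N : ℕ) (ζ : ℂ) (m : ℕ → ℕ) (j : ℕ) : ℂ :=
  ∑ l ∈ range N, (m l : ℂ) * ζ ^ (j * l)

/-- **The columns at the powers of `x`**, for `u = y0`. -/
theorem exists_cols [Fintype C[y0]] (h : Loc4 M y0 y0 x e f) {gs : G}
    (hgs : gs * x * gs⁻¹ = x⁻¹) (hge : H23.cj gs e = e) {ζ : ℂ}
    (hζ : IsPrimitiveRoot ζ (orderOf x)) :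
    ∃ m : IrrCharacter G → ℕ → ℕ,
      (∀ χ, ∀ l ≤ orderOf x, m χ (orderOf x - l) = m χ l) ∧
      (y0 * y0 ∈ Subgroup.center G → ∀ χ l, m χ l ≠ 0 →
        H19.MajorBound.eps (y0 * y0) χ = (-1 : ℂ) ^ l) ∧
      ∀ (j : ℕ) (b : (H20.k M)[G]), y0 ∈ Subgroup.zpowers (x ^ j) →
        H23.Le 2 (Subgroup.zpowers (x ^ j), b) (Subgroup.zpowers x, e) → ∀ χ ψ : IrrCharacter G,
          H23.pairC 2 (x ^ j) b χ ψ =
            col (orderOf x) ζ (m χ) j * conj (col (orderOf x) ζ (m ψ) j) / (orderOf x : ℂ) := by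
  classical
  haveI : Fact (Nat.Prime 2) := ⟨Nat.prime_two⟩
  set N := orderOf x with hN
  have hN0 : 0 < N := orderOf_pos x
  obtain ⟨bK, ξ, hb, hbe, hξb, hξs, hξiff, hreg, hsec⟩ := h.exists_chars hζ
  have hmax := h.isMax_K hbe
  set P := (Subgroup.zpowers x).subgroupOf C[y0] with hP
  set xK : C[y0] := ⟨x, h.zx_le (Subgroup.mem_zpowers x)⟩ with hxK
  -- the twist
  have hgy : gs * y0 * gs⁻¹ = y0⁻¹ := by
    obtain ⟨i, hi⟩ := Subgroup.mem_zpowers_iff.1 h.y0x
    rw [← hi, ← conj_zpow, hgs, inv_zpow]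
  have hzx : H23.cjS gs (Subgroup.zpowers x) = Subgroup.zpowers x := by
    rw [H23.cjS_zpowers, hgs, Subgroup.zpowers_inv]
  have hKK : H23.cjS gs C[y0] = C[y0] := by
    rw [← H23.centralizer_zpowers, H23.cjS_centralizer, H23.cjS_zpowers, hgy, Subgroup.zpowers_inv]
  have hfe : H23.cj gs f = f := by
    refine H23.le_unique 2 h.hpair ?_ h.le
    have h1 := h.le.cj 2 gs
    simp only at h1
    rwa [H23.cjS_zpowers, hgy, Subgroup.zpowers_inv, hzx, hge] at h1
  set φ := H23.cjEquiv hKK with hφ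
  have hφc : ∀ t : C[y0], (φ t : G) = gs * t * gs⁻¹ := fun t => H23.coe_cjEquiv hKK t
  have hfix : ∀ a : (H20.k M)[G], H23.cj gs a = a → ∀ t : C[y0],
      (H23.res C[y0] a).coeff (φ t) = (H23.res C[y0] a).coeff t := by
    intro a ha t
    rw [H23.coeff_res, H23.coeff_res, hφc]
    conv_lhs => rw [← ha, H23.coeff_cj]
    congr 1
    group
  have htwT : ∀ (η : IrrCharacter C[y0]) {g : C[y0]} {a : (H20.k M)[G]}, H23.cj gs a = a →
      H23.IsId g (H23.res C[y0] a) →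
      H23.T (H12.irrCongr φ η) g (H23.res C[y0] a) = H23.T η (φ g) (H23.res C[y0] a) :=
    fun η g a ha hid => H23.Cyc.T_irrCongr φ η hid (hfix a ha)
  have hid1 : H23.IsId (1 : C[y0]) (H23.res C[y0] f) := by
    rw [← hbe]
    exact ⟨(H23.cidem_eB hb).idem, H23.cj_one _⟩
  have htwmem : ∀ η ∈ bK, H12.irrCongr φ η ∈ bK := by
    intro η hη
    have h1 := htwT η hfe hid1
    rw [← hbe, H23.T_one_eq_eB hb, H23.T_one_eq_eB hb, map_one, if_pos hη] at h1
    by_contra hn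
    rw [if_neg hn] at h1
    exact H12.irr_apply_one_ne_zero η h1.symm
  -- the section at `x`
  have hzxK : Subgroup.zpowers xK = P := by
    refine Subgroup.map_injective C[y0].subtype_injective ?_
    rw [MonoidHom.map_zpowers, hP, Subgroup.subgroupOf_map_subtype, inf_eq_left.2 h.zx_le]
    rfl
  have hle1 : H23.Le 2 (Subgroup.zpowers (xK ^ 1), H23.res C[y0] e) (P, H23.res C[y0] e) := by
    rw [pow_one, hzxK]
    exact Relation.ReflTransGen.refl
  have hinvK : xK⁻¹ = xK ^ (N - 1) := by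
    refine inv_eq_of_mul_eq_one_right ?_
    rw [← pow_succ', Nat.sub_add_cancel hN0, hN, ← Subgroup.orderOf_mk x (h.zx_le (Subgroup.mem_zpowers x)), ← hxK,
      pow_orderOf_eq_one]
  have hle2 : H23.Le 2 (Subgroup.zpowers (xK ^ (N - 1)), H23.res C[y0] e) (P, H23.res C[y0] e) := by
    rw [← hinvK, Subgroup.zpowers_inv, hzxK]
    exact Relation.ReflTransGen.refl
  obtain ⟨hT1, ⟨g1, hg1, hne1⟩, -⟩ := hsec 1 _ hle1
  obtain ⟨hT2, -, -⟩ := hsec (N - 1) _ hle2
  have hφ1 : H20.pPart 2 (φ g1) = xK ^ (N - 1) := by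
    rw [← hinvK]
    apply Subtype.ext
    rw [← H20.pPart_coe, hφc, H20.pPart_conj, H20.pPart_coe, hg1, Subgroup.coe_inv, pow_one]
    exact hgs
  have hid2 : H23.IsId g1 (H23.res C[y0] e) :=
    H23.Cyc.isId_of_mem_Bls (hg1 ▸ H23.mem_Bls.2 (hle1.pair_left 2 hmax.1).2)
  obtain ⟨μ, -, hμ⟩ := hξs _ (htwmem _ (hξb 0))
  have htw : ∀ l, H12.irrCongr φ (ξ l) = ξ (μ + (N - 1) * l) := by
    intro l
    obtain ⟨k, -, hk⟩ := hξs _ (htwmem _ (hξb l))
    rw [← hk, hξiff]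
    have h1 := htwT (ξ l) hge hid2
    rw [← hk, hT1 k g1 hg1, hT2 l _ hφ1, ← htwT (ξ 0) hge hid2, ← hμ, hT1 μ g1 hg1, ← mul_assoc,
      ← pow_add, one_mul, one_mul] at h1
    have h2 := mul_right_cancel₀ hne1 h1
    obtain ⟨ζu, hζu⟩ : IsUnit ζ := hζ.isUnit hN0.ne'
    rw [← hζu, ← Units.val_pow_eq_pow_val, ← Units.val_pow_eq_pow_val, Units.val_inj,
      pow_eq_pow_iff_modEq, show orderOf ζu = N by
        rw [← orderOf_units, hζu, hζ.eq_orderOf]] at h2
    rw [add_comm μ]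
    exact h2
  -- the section at `y0`
  obtain ⟨j0, -, hj0⟩ : ∃ j0 < N, y0 = x ^ j0 := by
    obtain ⟨i, hi, hi'⟩ := Finset.mem_image.1
      (show y0 ∈ (Finset.range N).image (x ^ ·) from (mem_zpowers_iff_mem_range_orderOf).1 h.y0x)
    exact ⟨i, Finset.mem_range.1 hi, hi'.symm⟩
  set i0 := ζ ^ j0 with hi0
  have hi04 : orderOf i0 = 4 := by
    have hj00 : j0 ≠ 0 := by
      intro e
      have := h.hy0
      rw [hj0, e, pow_zero, orderOf_one] at this
      norm_num at this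
    rw [hi0, ← h.hy0, hj0, orderOf_pow' _ hj00, orderOf_pow' _ hj00, ← hζ.eq_orderOf]
  have hi0sq : i0 ^ 2 = -1 := by
    have h4 : i0 ^ 4 = 1 := by rw [← hi04, pow_orderOf_eq_one]
    have h2 : i0 ^ 2 ≠ 1 := fun h2 => by
      have := Nat.le_of_dvd (by norm_num) (orderOf_dvd_of_pow_eq_one h2)
      omega
    have : (i0 ^ 2 - 1) * (i0 ^ 2 + 1) = 0 := by linear_combination h4
    exact eq_neg_of_add_eq_zero_left ((mul_eq_zero.1 this).resolve_left (sub_ne_zero.2 h2))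
  set yK : C[y0] := ⟨y0, h.zx_le h.y0x⟩ with hyK
  have hyKpow : yK = xK ^ j0 := Subtype.ext hj0
  have hyc : yK ∈ Subgroup.center C[y0] := Subgroup.mem_center_iff.2 fun a =>
    Subtype.ext (Subgroup.mem_centralizer_singleton_iff.1 a.2)
  have hyK4 : orderOf yK = 4 := by rw [← Subgroup.orderOf_coe]; exact h.hy0
  have hley : H23.Le 2 (Subgroup.zpowers (xK ^ j0), H23.res C[y0] f) (P, H23.res C[y0] e) := by
    rw [← hyKpow]
    obtain ⟨a, ha⟩ := H23.exists_le 2 hmax.1 (Q := Subgroup.zpowers yK)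
      (Subgroup.zpowers_le.2 (Subgroup.mem_subgroupOf.2 h.y0x))
    have hC : Subgroup.centralizer (Subgroup.zpowers yK : Set C[y0]) = ⊤ := by
      rw [H23.centralizer_zpowers, eq_top_iff]
      exact fun a _ => Subgroup.mem_centralizer_singleton_iff.2 (Subgroup.mem_center_iff.1 hyc a)
    have hab := (ha.pair_left 2 hmax.1).2
    rw [hC] at hab
    have hin := (ha.inBlk_iff 2 (H23.cidem_eB hb)).1 hmax.2.1
    have haE : a = H23.eB M bK := by
      refine hab.eq_of_mul_ne_zero (H23.isBlk_eB hb) ?_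
      have h1 : a * H23.Br (Subgroup.zpowers yK) (H23.eB M bK) = a := hin
      rw [H23.Br_eq_self ((H23.cidem_eB hb).supp.mono hC.ge)] at h1
      rw [h1]
      exact hab.ne_zero
    rwa [haE, hbe] at ha
  obtain ⟨hT0, -, -⟩ := hsec j0 _ hley
  have hpy : H20.pPart 2 yK = xK ^ j0 := by
    rw [← hyKpow]
    exact H20.pPart_eq_self ⟨2, by rw [hyK4]; norm_num⟩
  have hy_val : ∀ l, (ξ l : C[y0] → ℂ) yK = i0 ^ l * (ξ 0 : C[y0] → ℂ) yK := by
    intro l
    have h1 := hT0 l yK hpy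
    rwa [← hbe, H23.T_one_eq_eB hb, H23.T_one_eq_eB hb, if_pos (hξb l), if_pos (hξb 0), pow_mul]
      at h1
  have hone : ∀ l, (ξ l : C[y0] → ℂ) 1 = (ξ 0 : C[y0] → ℂ) 1 := fun l =>
    hreg l 1 (by rw [orderOf_one]; norm_num)
  set ω := H19.MajorBound.eps yK (ξ 0) with hω
  have hd0 : (ξ 0 : C[y0] → ℂ) 1 ≠ 0 := H12.irr_apply_one_ne_zero _
  have hω1 : ∀ l, H19.MajorBound.eps yK (ξ l) = i0 ^ l * ω := by
    intro l
    rw [hω, H19.MajorBound.eps, H19.MajorBound.eps, hy_val, hone, mul_div_assoc]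
  have hω4 : ω ^ 4 = 1 := hyK4 ▸ H19.MajorBound.eps_pow_orderOf hyc (ξ 0)
  have hφy : φ yK = yK ^ 3 * 1 := by
    rw [mul_one]
    apply Subtype.ext
    rw [hφc, Subgroup.coe_pow]
    show gs * y0 * gs⁻¹ = y0 ^ 3
    rw [hgy]
    refine inv_eq_of_mul_eq_one_right ?_
    rw [← pow_succ', show 3 + 1 = orderOf y0 by rw [h.hy0], pow_orderOf_eq_one]
  have htwy : ∀ l, (H12.irrCongr φ (ξ l) : C[y0] → ℂ) yK =
      H19.MajorBound.eps yK (ξ l) ^ 3 * (ξ l : C[y0] → ℂ) 1 := by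
    intro l
    rw [H12.irrCongr_apply, hφy, H19.MajorBound.irr_pow_central hyc]
  have hμω : i0 ^ μ = ω ^ 2 := by
    have h1 := htwy 0
    rw [← hμ, ← hω, hy_val] at h1
    have h2 : (ξ 0 : C[y0] → ℂ) yK = ω * (ξ 0 : C[y0] → ℂ) 1 := by
      rw [hω, H19.MajorBound.eps, div_mul_cancel₀ _ hd0]
    have hω0 : ω ≠ 0 := fun e => by rw [e] at hω4; norm_num at hω4
    rw [h2, ← mul_assoc] at h1
    exact mul_right_cancel₀ hω0 ((mul_right_cancel₀ hd0 h1).trans (by ring))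
  obtain ⟨ν, hν⟩ : 2 ∣ μ := by
    have h1 : i0 ^ (2 * μ) = 1 := by rw [mul_comm, pow_mul, hμω, ← pow_mul, hω4]
    have h2 := hi04 ▸ orderOf_dvd_of_pow_eq_one h1
    omega
  have hων : i0 ^ (2 * ν) * ω ^ 2 = 1 := by
    rw [← hν, hμω, ← pow_add, hω4]
  refine ⟨fun χ l => H22.Contrib.nres C[y0] χ (ξ (ν + l)), ?_, ?_, ?_⟩
  · intro χ l hl
    show H22.Contrib.nres C[y0] χ (ξ (ν + (N - l))) = H22.Contrib.nres C[y0] χ (ξ (ν + l))
    have he : ξ (ν + (N - l)) = H12.irrCongr φ (ξ (ν + l)) := by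
      rw [htw, hξiff, ← Int.natCast_modEq_iff, Int.modEq_iff_dvd]
      refine ⟨(ν : ℤ) + l - 1, ?_⟩
      push_cast [Nat.cast_sub hl, Nat.cast_sub hN0, hν]
      ring
    rw [he]
    have hc : classInner (fun a : C[y0] => (χ : G → ℂ) a)
        (H12.irrCongr φ (ξ (ν + l)) : C[y0] → ℂ) =
        classInner (fun a : C[y0] => (χ : G → ℂ) a) (ξ (ν + l) : C[y0] → ℂ) := by
      have hres : (fun a : C[y0] => (χ : G → ℂ) a) = (fun a : C[y0] => (χ : G → ℂ) a) ∘ φ := by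
        funext a
        show (χ : G → ℂ) a = (χ : G → ℂ) (φ a)
        rw [hφc, H12.irr_isClassFunction χ]
      conv_lhs => arg 1; rw [hres]
      exact H12.classInner_comp_equiv φ _ _
    rw [H22.Contrib.classInner_res, H22.Contrib.classInner_res] at hc
    exact_mod_cast hc
  · intro hz χ l hl
    have hzH : y0 * y0 ∈ C[y0] := mul_mem (h.zx_le h.y0x) (h.zx_le h.y0x)
    rw [← eps_nres hz hzH χ _ hl,
      show (⟨y0 * y0, hzH⟩ : C[y0]) = yK ^ 2 * 1 by rw [mul_one, pow_two]; rfl,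
      H19.MajorBound.eps, H19.MajorBound.irr_pow_central hyc,
      mul_div_cancel_right₀ _ (H12.irr_apply_one_ne_zero _), hω1]
    calc (i0 ^ (ν + l) * ω) ^ 2 = i0 ^ (2 * ν) * ω ^ 2 * (i0 ^ 2) ^ l := by ring
      _ = _ := by rw [hων, hi0sq, one_mul]
  intro j b hyj hle χ ψ
  obtain ⟨a, ha⟩ := H23.exists_le 2 hmax.1 (Q := Subgroup.zpowers (xK ^ j))
    (Subgroup.zpowers_le.2 (Subgroup.mem_subgroupOf.2 (Subgroup.npow_mem_zpowers x j)))
  obtain ⟨hTj, -, hwj⟩ := hsec j a ha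
  have hemb : H23.emb C[y0] a = b :=
    H23.le_unique 2 h.hpair (h.le_K_to_G (y := xK ^ j) hyj ha) hle
  have hCK := h.cent_le (y := x ^ j) hyj
  have hval : ∀ (χ : IrrCharacter G) (g : C[y0]), H20.pPart 2 g = xK ^ j →
      H23.T χ (g : G) b = col N ζ (fun l => H22.Contrib.nres C[y0] χ (ξ (ν + l))) j *
        H23.T (ξ ν) g a := by
    intro χ g hg
    have hmem : a ∈ H23.Bls M (H20.pPart 2 g) :=
      hg ▸ H23.mem_Bls.2 (ha.pair_left 2 hmax.1).2
    rw [← hemb, H23.Cyc.T_emb χ (H23.Cyc.isId_of_mem_Bls hmem)]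
    have hin : H23.InBlk (H23.eB M bK) (Subgroup.zpowers (xK ^ j)) a :=
      (ha.inBlk_iff 2 (H23.cidem_eB hb)).1 hmax.2.1
    rw [← Finset.sum_subset (Finset.subset_univ (H22.blockFinset bK)) (fun η _ hη => by
      rw [H23.T_eq_zero_of_not_inBlk h.hM (H20.isPBlock_blockOf η) (H20.mem_blockOf_self η) hmem,
        mul_zero]
      intro hin'
      rw [hg] at hin'
      have he := H23.inBlk_unique 2 (ha.pair_left 2 hmax.1) (H23.isBlk_eB hb)
        (H23.isBlk_eB (H20.isPBlock_blockOf η)) hin hin'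
      exact hη (H22.mem_blockFinset.2 (H23.eB_injective hb (H20.isPBlock_blockOf η) he ▸
        H20.mem_blockOf_self η)))]
    rw [col, sum_mul]
    symm
    refine Finset.sum_bij (fun l _ => ξ (ν + l)) (fun l _ => H22.mem_blockFinset.2 (hξb _))
      (fun l hl k hk he => ?_) (fun η hη => ?_) (fun l _ => ?_)
    · exact Nat.ModEq.eq_of_lt_of_lt (Nat.ModEq.add_left_cancel' ν ((hξiff _ _).1 he))
        (Finset.mem_range.1 hl) (Finset.mem_range.1 hk)
    · obtain ⟨l, -, rfl⟩ := hξs η (H22.mem_blockFinset.1 hη)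
      refine ⟨(l + (N - 1) * ν) % N, Finset.mem_range.2 (Nat.mod_lt _ hN0), (hξiff _ _).2 ?_⟩
      refine ((Nat.mod_modEq _ _).add_left ν).trans ?_
      rw [show ν + (l + (N - 1) * ν) = l + N * ν by
        obtain ⟨n, hn⟩ : ∃ n, N = n + 1 := ⟨N - 1, by omega⟩
        rw [hn, Nat.add_sub_cancel]; ring]
      exact (Nat.modEq_zero_iff_dvd.2 (dvd_mul_right N ν)).add_left l
    · rw [hTj (ν + l) g hg, hTj ν g hg]
      ring
  set c := fun χ : IrrCharacter G =>
    col N ζ (fun l => H22.Contrib.nres C[y0] χ (ξ (ν + l))) j with hc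
  have hcard : Nat.card (Subgroup.centralizer (Subgroup.zpowers (x ^ j) : Set G)) =
      Nat.card (Subgroup.centralizer (Subgroup.zpowers (xK ^ j) : Set C[y0])) := by
    have e1 : H23.Cyc.up C[y0] (Subgroup.centralizer (Subgroup.zpowers (xK ^ j) : Set C[y0])) =
        Subgroup.centralizer (Subgroup.zpowers (x ^ j) : Set G) := by
      rw [H23.Cyc.up_centralizer, H23.Cyc.up_zpowers]
      exact inf_eq_left.2 hCK
    rw [← e1]
    exact (Nat.card_congr (Subgroup.equivMapOfInjective _ C[y0].subtype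
      C[y0].subtype_injective).toEquiv).symm
  show H23.pairC 2 (x ^ j) b χ ψ = c χ * conj (c ψ) / (N : ℂ)
  have hpair : H23.pairC 2 (x ^ j) b χ ψ =
      c χ * conj (c ψ) * H23.pairC 2 (xK ^ j) a (ξ ν) (ξ ν) := by
    rw [H23.pairC, H23.pairC, hcard, mul_left_comm (c χ * conj (c ψ))]
    congr 1
    rw [mul_sum, ← Finset.sum_subset (Finset.subset_univ (Finset.univ.filter (· ∈ C[y0]))) (fun g _ hg => by
      rw [if_neg]
      intro e
      refine hg (Finset.mem_filter.2 ⟨Finset.mem_univ _, hCK ?_⟩)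
      rw [← e]
      exact H23.mem_centralizer_pPart g),
      Finset.sum_subtype (p := (· ∈ C[y0])) _ (by simp)]
    refine Finset.sum_congr rfl fun g _ => ?_
    by_cases hg : H20.pPart 2 g = xK ^ j
    · rw [if_pos hg, if_pos (by rw [H20.pPart_coe, hg]; rfl), hval χ g hg, hval ψ g hg, map_mul]
      ring
    · rw [if_neg hg, if_neg fun e => hg (Subtype.ext (by rw [← H20.pPart_coe, e]; rfl)), mul_zero]
  rw [hpair, eq_div_iff (Nat.cast_ne_zero.2 hN0.ne'), mul_assoc, mul_comm _ (N : ℂ), hwj ν, mul_one]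

end Loc4

end H12.QuatLocal
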