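import Cfsg.Agent.H12.QuatBasic
import Cfsg.Agent.H20.FirstMain

/-!
# Quaternion defect groups give the data `Quat`
-/

set_option autoImplicit false
set_option linter.unusedSectionVars false
set_option linter.style.haveILetI false

open Cfsg
open scoped MonoidAlgebra

namespace H12.QuatBasic

universe u

variable {G : Type u} [Group G] [Fintype G] {M : Ideal AlgInt} [hMp : M.IsPrime]
  [CharP (H20.k M) 2] [IsAlgClosed (H20.k M)] {B : Set (IrrCharacter G)}

theorem exists_quat (hM : IsPModular 2 M) (hB : IsPBlock M B) {D : Subgroup G}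
    (hD : IsDefectGroup 2 M B D) {a : ℕ} (ha : 1 ≤ a) (φ : D ≃* QuaternionGroup (2 ^ a)) :
    ∃ (f0 : MonoidAlgebra (H20.k M) G) (r s : G), Quat M B D f0 r s a := by
  classical
  haveI : Fact (Nat.Prime 2) := ⟨Nat.prime_two⟩
  have hcid := H23.cidem_eB (M := M) hB
  have hC : Subgroup.centralizer ((⊥ : Subgroup G) : Set G) = ⊤ := by
    ext g
    simp [Subgroup.mem_centralizer_iff]
  have hpair : H23.IsPair 2 (⊥ : Subgroup G) (H23.eB M B) := by
    refine ⟨IsPGroup.of_bot, ?_⟩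
    rw [hC]
    exact H23.isBlk_eB hB
  have hin : H23.InBlk (H23.eB M B) (⊥ : Subgroup G) (H23.eB M B) := by
    show _ * H23.Br ⊥ _ = _
    rw [H23.Br_eq_self (hcid.supp.mono hC.ge), hcid.idem]
  obtain ⟨R, e, hmax, -⟩ := H23.exists_max 2 hcid hpair hin
  obtain ⟨g, hg⟩ := H20.defectGroup_conj hM hB (H23.isDefectGroup_of_isMax hB hmax) hD
  have hmax' := hmax.cj' hcid.fix g
  rw [show H23.cjS g R = D from hg] at hmax'
  set N := 2 ^ a with hN
  haveI : NeZero N := ⟨by positivity⟩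
  let r₀ : D := φ.symm (QuaternionGroup.a (1 : ZMod (2 * N)))
  let s₀ : D := φ.symm (QuaternionGroup.xa (0 : ZMod (2 * N)))
  have hr : φ r₀ = QuaternionGroup.a 1 := MulEquiv.apply_symm_apply _ _
  have hs : φ s₀ = QuaternionGroup.xa 0 := MulEquiv.apply_symm_apply _ _
  have hord : orderOf (r₀ : G) = 2 ^ (a + 1) := by
    rw [Subgroup.orderOf_coe, ← MulEquiv.orderOf_eq φ, hr, QuaternionGroup.orderOf_a_one, pow_succ']
  have hz : ∀ d : D, (d : G) ∈ Subgroup.zpowers (r₀ : G) ↔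
      ∃ i : ZMod (2 * N), φ d = QuaternionGroup.a i := by
    intro d
    constructor
    · intro hd
      obtain ⟨k, -, hk⟩ := Finset.mem_image.1
        (show (d : G) ∈ (Finset.range (orderOf (r₀ : G))).image ((r₀ : G) ^ ·) from
          mem_zpowers_iff_mem_range_orderOf.1 hd)
      refine ⟨(k : ZMod (2 * N)), ?_⟩
      have h1 : d = r₀ ^ k := Subtype.ext (by rw [Subgroup.coe_pow]; exact hk.symm)
      rw [h1, map_pow, hr, QuaternionGroup.a_one_pow]
    · rintro ⟨i, hi⟩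
      have h1 : r₀ ^ i.val = d := φ.injective (by
        rw [map_pow, hr, QuaternionGroup.a_one_pow, hi, ZMod.natCast_zmod_val])
      rw [← h1, Subgroup.coe_pow]
      exact Subgroup.npow_mem_zpowers _ _
  refine ⟨_, (r₀ : G), (s₀ : G), ⟨hM, hB, hmax', ha, hord, r₀.2, s₀.2, ?_, ?_, ?_, ?_⟩⟩
  · have h : s₀ * s₀ = r₀ ^ N := φ.injective (by
      rw [map_mul, map_pow, hs, hr, QuaternionGroup.a_one_pow, QuaternionGroup.xa_mul_xa]
      simp)
    exact congrArg Subtype.val h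
  · intro hs'
    obtain ⟨i, hi⟩ := (hz s₀).1 hs'
    rw [hs] at hi
    exact QuaternionGroup.noConfusion rfl (heq_of_eq hi)
  · have h : s₀ * r₀ * s₀⁻¹ = r₀⁻¹ := mul_inv_eq_iff_eq_mul.2 <| φ.injective (by
      rw [map_mul, map_mul, map_inv, hr, hs]
      show _ = QuaternionGroup.a (-1) * _
      rw [QuaternionGroup.xa_mul_a, QuaternionGroup.a_mul_xa]
      congr 1
      ring)
    exact congrArg Subtype.val h
  · intro d hd
    rcases hφ : φ ⟨d, hd⟩ with i | i
    · exact Or.inl ((hz ⟨d, hd⟩).2 ⟨i, hφ⟩)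
    · refine Or.inr ((hz (s₀ * ⟨d, hd⟩)).2 ⟨(N : ZMod (2 * N)) + i, ?_⟩)
      rw [map_mul, hφ, hs, QuaternionGroup.xa_mul_xa]
      simp

end H12.QuatBasic
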