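import Cfsg.Agent.H12.Equivalent
import Cfsg.Agent.H12.Monomial
import Cfsg.Agent.H14.BrauerInduction

/-!
Brauer's splitting field theorem.
-/

set_option autoImplicit false
set_option linter.unusedSectionVars false

open Cfsg Module
open scoped ComplexConjugate

namespace H12

universe u w

variable {G : Type u} [Group G] {K : Type w} [Field K] (ι : K →+* ℂ)

/-- The complexification of a matrix representation. -/
noncomputable def scalarExt {n : ℕ} (X : Representation K G (Fin n → K)) :
    Representation ℂ G (Fin n → ℂ) :=
  (Matrix.toLinAlgEquiv' (R := ℂ) (n := Fin n)).toAlgHom.toMonoidHom.comp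
    (ι.mapMatrix.toMonoidHom.comp
      ((LinearMap.toMatrixAlgEquiv' (R := K) (n := Fin n)).toAlgHom.toMonoidHom.comp X))

theorem toMatrix'_scalarExt {n : ℕ} (X : Representation K G (Fin n → K)) (g : G) :
    LinearMap.toMatrix' (scalarExt ι X g) = (LinearMap.toMatrix' (X g)).map ι := by
  simp [scalarExt, LinearMap.toMatrixAlgEquiv'_apply, Matrix.toLinAlgEquiv'_apply]
  ext i j
  simp [LinearMap.toMatrix'_apply]

theorem scalarExt_character {n : ℕ} (X : Representation K G (Fin n → K)) (g : G) :
    (scalarExt ι X).character g = ι (X.character g) := by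
  simp only [Representation.character]
  rw [LinearMap.trace_eq_matrix_trace ℂ (Pi.basisFun ℂ (Fin n)),
    LinearMap.trace_eq_matrix_trace K (Pi.basisFun K (Fin n)),
    LinearMap.toMatrix_eq_toMatrix', LinearMap.toMatrix_eq_toMatrix', toMatrix'_scalarExt]
  simp [Matrix.trace]

/-- The complex functions which are characters of representations over `K`. -/
def RealizableOver (χ : G → ℂ) : Prop :=
  ∃ (n : ℕ) (X : Representation K G (Fin n → K)), ∀ g, χ g = ι (X.character g)

theorem RealizableOver.isCharacter {χ : G → ℂ} (h : RealizableOver ι χ) : IsCharacter G χ := by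
  obtain ⟨n, X, hX⟩ := h
  exact ⟨n, scalarExt ι X, funext fun g => by rw [scalarExt_character, hX]⟩

theorem realizableOver_rep {V : Type*} [AddCommGroup V] [Module K V] [FiniteDimensional K V]
    (X : Representation K G V) : RealizableOver ι (fun g => ι (X.character g)) :=
  ⟨finrank K V, transportRep X (finBasis K V).equivFun, fun g => by
    rw [← Representation.char_iso (transportEquiv X (finBasis K V).equivFun)]⟩

theorem RealizableOver.add {χ ψ : G → ℂ} (hχ : RealizableOver ι χ) (hψ : RealizableOver ι ψ) :
    RealizableOver ι (χ + ψ) := by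
  obtain ⟨n, X, hX⟩ := hχ
  obtain ⟨m, Y, hY⟩ := hψ
  have h := realizableOver_rep ι (X.prod Y)
  convert h using 1
  funext g
  rw [Pi.add_apply, hX, hY, ← map_add]
  exact congrArg ι (LinearMap.trace_prodMap' (X g) (Y g)).symm

theorem realizableOver_zero : RealizableOver ι (0 : G → ℂ) :=
  ⟨0, Representation.trivial K G (Fin 0 → K), fun g => by simp [Representation.character]⟩

theorem RealizableOver.sum {α : Type*} (s : Finset α) (f : α → G → ℂ)
    (h : ∀ a ∈ s, RealizableOver ι (f a)) : RealizableOver ι (∑ a ∈ s, f a) :=
  Finset.sum_induction _ _ (fun _ _ => RealizableOver.add ι) (realizableOver_zero ι) h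

/-- Characters induced from linear characters with values in `K` are realisable over `K`. -/
theorem realizableOver_indFun [Fintype G] [CharZero K] (E : Subgroup G) [Fintype E]
    (μ : E →* K) : RealizableOver ι (indFun E (fun e => ι (μ e))) := by
  classical
  have hE : (Nat.card E : K) ≠ 0 := Nat.cast_ne_zero.2 Nat.card_pos.ne'
  let L : Representation K G (G → K) :=
    { toFun := fun g => LinearMap.funLeft K K (fun x => g⁻¹ * x)
      map_one' := by ext f x; simp [LinearMap.funLeft_apply]
      map_mul' := fun g h => by
        apply LinearMap.ext; intro f; funext x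
        simp [LinearMap.funLeft_apply, mul_assoc] }
  let P : Module.End K (G → K) :=
    (Nat.card E : K)⁻¹ • ∑ e : E, μ e • LinearMap.funLeft K K (fun x => x * (e : G))
  have hP : ∀ f x, P f x = (Nat.card E : K)⁻¹ * ∑ e : E, μ e * f (x * (e : G)) := by
    intro f x
    simp [P, LinearMap.funLeft_apply]
  have hPP : ∀ f, P (P f) = P f := by
    intro f
    funext x
    simp only [hP]
    rw [Finset.sum_congr rfl (g := fun _ => (Nat.card E : K)⁻¹ * ∑ e' : E, μ e' * f (x * (e' : G)))
      (fun e _ => ?_), Finset.sum_const, Finset.card_univ, nsmul_eq_mul,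
      ← Nat.card_eq_fintype_card, ← mul_assoc (Nat.card E : K)⁻¹, inv_mul_cancel₀ hE, one_mul]
    rw [mul_left_comm]
    congr 1
    rw [Finset.mul_sum]
    refine Fintype.sum_equiv (Equiv.mulLeft e) _ _ fun e' => ?_
    simp [map_mul, mul_assoc]
  have hcomm : ∀ g f, L g (P f) = P (L g f) := by
    intro g f
    funext x
    simp [L, hP, LinearMap.funLeft_apply, mul_assoc]
  let W : Subrepresentation L :=
    ⟨LinearMap.range P, fun g v hv => by
      obtain ⟨f, rfl⟩ := hv
      exact ⟨L g f, (hcomm g f).symm⟩⟩
  have hval : ∀ g, ι (W.toRepresentation.character g) = indFun E (fun e => ι (μ e)) g := by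
    intro g
    have hmem : ∀ v, (L g ∘ₗ P) v ∈ W.toSubmodule := fun v => W.apply_mem_toSubmodule g ⟨v, rfl⟩
    have h1 : W.toRepresentation g = (L g ∘ₗ P).restrict (fun v _ => hmem v) := by
      apply LinearMap.ext
      rintro ⟨v, f, rfl⟩
      apply Subtype.ext
      show L g (P f) = L g (P (P f))
      rw [hPP]
    rw [Representation.character, h1,
      LinearMap.trace_restrict_eq_of_forall_mem W.toSubmodule _ hmem,
      LinearMap.trace_eq_matrix_trace K (Pi.basisFun K G), LinearMap.toMatrix_eq_toMatrix',
      Matrix.trace, map_sum, indFun_apply, Finset.mul_sum]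
    refine Finset.sum_congr rfl fun x _ => ?_
    simp only [Matrix.diag_apply, LinearMap.toMatrix'_apply, LinearMap.comp_apply]
    show ι (P _ (g⁻¹ * x)) = _
    rw [hP, map_mul, map_inv₀, map_natCast]
    congr 1
    rw [map_sum]
    by_cases hx : x⁻¹ * g * x ∈ E
    · rw [extendByZero_mk _ _ hx, Finset.sum_eq_single ⟨x⁻¹ * g * x, hx⟩]
      · simp [mul_assoc]
      · intro e _ he
        rw [Pi.single_eq_of_ne, mul_zero, map_zero]
        intro h
        apply he
        apply Subtype.ext
        show (e : G) = x⁻¹ * g * x
        calc (e : G) = x⁻¹ * g * (g⁻¹ * x * e) := by group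
          _ = x⁻¹ * g * x := by rw [h]
      · simp
    · rw [extendByZero_of_notMem _ _ hx]
      refine Finset.sum_eq_zero fun e _ => ?_
      rw [Pi.single_eq_of_ne, mul_zero, map_zero]
      intro h
      apply hx
      have : (e : G) = x⁻¹ * g * x := by
        calc (e : G) = x⁻¹ * g * (g⁻¹ * x * e) := by group
          _ = x⁻¹ * g * x := by rw [h]
      rw [← this]
      exact e.2
  have h := realizableOver_rep ι W.toRepresentation
  simp only [hval] at h
  exact h

section Classification

variable [Fintype G] [CharZero K]

/-- Characters of irreducible representations over `K`. -/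
def simpleChars : Set (G → ℂ) :=
  {χ | ∃ (n : ℕ) (X : Representation K G (Fin n → K)), X.IsIrreducible ∧
    ∀ g, χ g = ι (X.character g)}

theorem classInner_realized {n m : ℕ} (X : Representation K G (Fin n → K))
    (Y : Representation K G (Fin m → K)) :
    classInner (fun g => ι (X.character g)) (fun g => ι (Y.character g)) =
      (finrank K (Y.IntertwiningMap X) : ℂ) := by
  have : Invertible (Nat.card G : K) :=
    invertibleOfNonzero (Nat.cast_ne_zero.2 Nat.card_pos.ne')
  have h := Representation.card_inv_mul_sum_char_mul_char_eq_finrank Y X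
  rw [← map_natCast ι (finrank K (Y.IntertwiningMap X)), ← h, map_mul, map_inv₀, map_natCast,
    map_sum, classInner_def]
  refine congrArg _ (Finset.sum_congr rfl fun g _ => ?_)
  rw [map_mul]
  simp only [← scalarExt_character ι]
  rw [character_inv]

theorem realized_mem_closure (n : ℕ) :
    ∀ (V : Type w) [AddCommGroup V] [Module K V] [FiniteDimensional K V]
      (X : Representation K G V), finrank K V = n →
      (fun g => ι (X.character g)) ∈ AddSubgroup.closure (simpleChars (G := G) ι) := by
  induction n using Nat.strong_induction_on with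
  | _ n ih =>
    intro V _ _ _ X hn
    by_cases hirr : X.IsIrreducible
    · refine AddSubgroup.subset_closure ⟨finrank K V, transportRep X (finBasis K V).equivFun,
        isIrreducible_of_equiv (transportEquiv X _), fun g => ?_⟩
      rw [← Representation.char_iso (transportEquiv X (finBasis K V).equivFun)]
    rcases subsingleton_or_nontrivial V with hV | hV
    · have h0 : (fun g => ι (X.character g)) = 0 := funext fun g => by
        have : X g = 0 := Subsingleton.elim _ _
        simp [Representation.character, this]
      rw [h0]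
      exact AddSubgroup.zero_mem _
    have : NeZero (Nat.card G : K) := ⟨Nat.cast_ne_zero.2 Nat.card_pos.ne'⟩
    obtain ⟨a, b, hab, ha, hb⟩ := exists_proper_decomp' X hirr
    have h1 := ih _ (hn ▸ ha) _ a.toRepresentation rfl
    have h2 := ih _ (hn ▸ hb) _ b.toRepresentation rfl
    have h := AddSubgroup.add_mem _ h1 h2
    rw [character_eq_add_of_isCompl' X a b hab]
    simpa [Pi.add_def] using h

theorem realizableOver_irr_of_closure (χ : IrrCharacter G)
    (h : (χ : G → ℂ) ∈ AddSubgroup.closure (simpleChars (G := G) ι)) :
    RealizableOver ι (χ : G → ℂ) := by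
  obtain ⟨s, hs, hne⟩ : ∃ s ∈ simpleChars (G := G) ι, classInner s (χ : G → ℂ) ≠ 0 := by
    by_contra hcon
    have h0 : ∀ y ∈ AddSubgroup.closure (simpleChars (G := G) ι),
        classInner y (χ : G → ℂ) = 0 := by
      intro y hy
      induction hy using AddSubgroup.closure_induction with
      | mem y hy => by_contra hne; exact hcon ⟨y, hy, hne⟩
      | zero => exact classInner_zero_left _
      | add a b _ _ ha hb => rw [classInner_add_left, ha, hb, add_zero]
      | neg a _ ha => rw [classInner_neg_left, ha, neg_zero]
    exact one_ne_zero ((classInner_irr_self χ).symm.trans (h0 _ h))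
  obtain ⟨n, X, hX, hsX⟩ := hs
  obtain rfl : s = fun g => ι (X.character g) := funext hsX
  have hmul : ∀ y ∈ AddSubgroup.closure (simpleChars (G := G) ι), ∃ z : ℤ,
      classInner y (fun g => ι (X.character g)) =
        (z : ℂ) * classInner (fun g => ι (X.character g)) (fun g => ι (X.character g)) := by
    intro y hy
    induction hy using AddSubgroup.closure_induction with
    | mem y hy =>
      obtain ⟨m, Y, hY, hyY⟩ := hy
      obtain rfl : y = fun g => ι (Y.character g) := funext hyY
      have := hX
      have := hY
      rcases isEmpty_or_nonempty (X.Equiv Y) with he | ⟨⟨e⟩⟩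
      · refine ⟨0, ?_⟩
        rw [classInner_realized, finrank_zero_of_subsingleton]
        simp
      · exact ⟨1, by rw [Int.cast_one, one_mul, Representation.char_iso e]⟩
    | zero => exact ⟨0, by rw [classInner_zero_left]; simp⟩
    | add a b _ _ ha hb =>
      obtain ⟨za, ha⟩ := ha
      obtain ⟨zb, hb⟩ := hb
      exact ⟨za + zb, by rw [classInner_add_left, ha, hb]; push_cast; ring⟩
    | neg a _ ha =>
      obtain ⟨za, ha⟩ := ha
      exact ⟨-za, by rw [classInner_neg_left, ha]; push_cast; ring⟩
  obtain ⟨z, hz⟩ := hmul _ h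
  have hsc : IsCharacter G (fun g => ι (X.character g)) :=
    RealizableOver.isCharacter ι ⟨n, X, fun g => rfl⟩
  obtain ⟨m, hm⟩ := IsCharacter.exists_mult hsc
  set s : G → ℂ := fun g => ι (X.character g) with hsdef
  have hmχ : classInner (χ : G → ℂ) s = (m χ : ℂ) := by
    rw [← conj_classInner, hm, classInner_sum_smul_irr (fun φ => (m φ : ℂ)), Complex.conj_natCast]
  have hss : classInner s s = ((∑ φ, m φ * m φ : ℕ) : ℂ) := by
    rw [hm, classInner_sum_smul_sum_smul]
    push_cast
    simp
  rw [hmχ, hss] at hz
  have hz' : (m χ : ℤ) = z * ((∑ φ, m φ * m φ : ℕ) : ℤ) := by exact_mod_cast hz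
  have hmpos : 0 < m χ := by
    refine Nat.pos_of_ne_zero fun h0 => hne ?_
    rw [← conj_classInner, hmχ, h0]
    simp
  have hle : m χ * m χ ≤ ∑ φ, m φ * m φ :=
    Finset.single_le_sum (f := fun φ => m φ * m φ) (fun _ _ => Nat.zero_le _) (Finset.mem_univ χ)
  have hd : ∑ φ, m φ * m φ = 1 := by
    set d := ∑ φ, m φ * m φ
    have h1 : 1 ≤ d := le_trans (Nat.mul_pos hmpos hmpos) hle
    have hle' : (m χ : ℤ) * (m χ : ℤ) ≤ (d : ℤ) := by exact_mod_cast hle
    have hzpos : 0 < z := by
      by_contra hzn
      have : (m χ : ℤ) ≤ 0 := hz' ▸ mul_nonpos_of_nonpos_of_nonneg (by omega) (by omega)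
      omega
    have hdz : (d : ℤ) ≤ (m χ : ℤ) := by rw [hz']; nlinarith
    have : (m χ : ℤ) ≤ 1 := by nlinarith
    omega
  have hirr : IsIrrCharacter G s := isIrrCharacter_of_classInner_self_eq_one hsc
    (by rw [hss, hd, Nat.cast_one])
  have heq : s = (χ : G → ℂ) := by
    by_contra hh
    exact hne (classInner_irr_ne (χ := ⟨s, hirr⟩) fun e => hh (congrArg Subtype.val e))
  exact ⟨n, X, fun g => (congrFun heq g).symm⟩

theorem exists_mu_lift (hroot : ∀ z : ℂ, z ^ Monoid.exponent G = 1 → ∃ a : K, ι a = z)
    (E : Subgroup G) (ν : E →* ℂˣ) : ∃ μ : E →* K, ∀ e, ι (μ e) = (ν e : ℂ) := by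
  have h : ∀ e : E, ∃ a : K, ι a = (ν e : ℂ) := fun e => hroot _ (by
    rw [← Units.val_pow_eq_pow_val, ← map_pow,
      show e ^ Monoid.exponent G = 1 from Subtype.ext (by
        rw [SubmonoidClass.coe_pow, Monoid.pow_exponent_eq_one]; rfl), map_one, Units.val_one])
  choose a ha using h
  exact ⟨{ toFun := a
           map_one' := ι.injective (by rw [ha, map_one, Units.val_one, map_one])
           map_mul' := fun x y => ι.injective (by rw [ha, map_mul, map_mul, ha, ha, Units.val_mul]) },
    ha⟩

theorem realizableOver_of_character {χ : G → ℂ} (hχ : IsCharacter G χ)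
    (hroot : ∀ z : ℂ, z ^ Monoid.exponent G = 1 → ∃ a : K, ι a = z) : RealizableOver ι χ := by
  classical
  have hirr : ∀ φ : IrrCharacter G, RealizableOver ι (φ : G → ℂ) := by
    intro φ
    apply realizableOver_irr_of_closure
    have key : ∀ f ∈ H14.elemLinearAll (G := G),
        (φ : G → ℂ) * f ∈ AddSubgroup.closure (simpleChars (G := G) ι) := by
      intro f hf
      induction hf using AddSubgroup.closure_induction with
      | mem x hx =>
        obtain ⟨E, ν, ⟨p, hp, hE⟩, rfl⟩ := hx
        have : Fintype E := Fintype.ofFinite E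
        have : Group.IsNilpotent E := IsElementary.isNilpotent hp hE
        rw [H14.mul_indFun E _ _ (irr_isClassFunction φ)]
        obtain ⟨m, hm⟩ := IsCharacter.exists_mult (G := E)
          (IsCharacter.mul (IsCharacter.res (isCharacter_irr φ) E) (isCharacter_monoidHom ν))
        have e : (fun x : E => (φ : G → ℂ) x * (ν x : ℂ)) = ∑ θ, (m θ : ℂ) • (θ : E → ℂ) := hm
        rw [e, indFun_sum]
        refine AddSubgroup.sum_mem _ fun θ _ => ?_
        rw [indFun_smul, Nat.cast_smul_eq_nsmul]
        refine AddSubgroup.nsmul_mem _ ?_ _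
        obtain ⟨H, l, hl⟩ := nilpotent_monomial E θ
        rw [← hl, indFun_map_subtype]
        obtain ⟨μ, hμ⟩ := exists_mu_lift ι hroot (H.map E.subtype)
          (l.comp (H.equivMapOfInjective E.subtype E.subtype_injective).symm.toMonoidHom)
        have : Fintype (H.map E.subtype) := Fintype.ofFinite _
        obtain ⟨n, X, hX⟩ := realizableOver_indFun ι (H.map E.subtype) μ
        have heq : indFun (H.map E.subtype) (fun x => (l ((H.equivMapOfInjective E.subtype
            E.subtype_injective).symm x) : ℂ)) = fun g => ι (X.character g) := by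
          rw [← funext hX]
          exact congrArg _ (funext fun x => (hμ x).symm)
        rw [heq]
        exact realized_mem_closure ι _ _ X rfl
      | zero => rw [mul_zero]; exact AddSubgroup.zero_mem _
      | add x y _ _ hx hy => rw [mul_add]; exact AddSubgroup.add_mem _ hx hy
      | neg x _ hx => rw [mul_neg]; exact AddSubgroup.neg_mem _ hx
    have := key _ H14.brauer_one
    simpa [Pi.mul_def] using this
  obtain ⟨m, rfl⟩ := IsCharacter.exists_mult hχ
  refine RealizableOver.sum ι _ _ fun φ _ => ?_
  induction m φ with
  | zero => simpa using realizableOver_zero ι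
  | succ k ih => rw [Nat.cast_succ, add_smul, one_smul]; exact RealizableOver.add ι ih (hirr φ)

end Classification

end H12
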